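import Cfsg.Agent.Lib.E8Frame76.Masks

/-!
# Linear groups on the masks whose point stabiliser is the affine group
-/

set_option autoImplicit false

namespace Cfsg.Agent.Lib.E8Frame76

open Cfsg.Agent.Lib.Compute

variable {b : Bool}

/-- A linear group on the masks in which the stabiliser of the full mask is the affine group, possibly
with the parity twist. -/
structure Adm (H : Subgroup (Equiv.Perm (MV b))) : Prop where
  add : ∀ h ∈ H, ∀ x y, h (vadd x y) = vadd (h x) (h y)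
  stab : ∀ h ∈ H, h vtop = vtop → ∃ k < 1344, ∃ t : Bool, ∀ x, (h x).1 = twistM t (aglAct k x.1)
  gen : ∀ j < 2, ∃ h ∈ H, ∀ x, (h x).1 = genAct j x.1

/-- The images of the full mask. -/
def orbSet (H : Subgroup (Equiv.Perm (MV b))) : Set (MV b) := {x | ∃ h ∈ H, h vtop = x}

variable {H : Subgroup (Equiv.Perm (MV b))}

theorem orbSet_top : vtop ∈ orbSet H := ⟨1, one_mem H, rfl⟩

theorem orbSet_smul {x : MV b} (hx : x ∈ orbSet H) {h : Equiv.Perm (MV b)} (hh : h ∈ H) :
    h x ∈ orbSet H := by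
  obtain ⟨g, hg, rfl⟩ := hx
  exact ⟨h * g, mul_mem hh hg, rfl⟩

theorem orbSet_iff {x : MV b} {h : Equiv.Perm (MV b)} (hh : h ∈ H) :
    h x ∈ orbSet H ↔ x ∈ orbSet H :=
  ⟨fun hx => by simpa using orbSet_smul hx (inv_mem hh), fun hx => orbSet_smul hx hh⟩

theorem Adm.map_zero (A : Adm H) {h : Equiv.Perm (MV b)} (hh : h ∈ H) : h vzero = vzero := by
  have h0 : vadd (vzero : MV b) vzero = vzero := Subtype.ext (Nat.xor_self 0)
  have := congrArg Subtype.val (A.add h hh vzero vzero)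
  rw [h0] at this
  refine Subtype.ext ?_
  change (h vzero).1 = (h vzero).1 ^^^ (h vzero).1 at this
  rw [Nat.xor_self] at this
  exact this

theorem Adm.exists_agl (A : Adm H) : ∀ {k : ℕ}, k < 1344 → ∃ h ∈ H, ∀ x, (h x).1 = aglAct k x.1 := by
  intro k
  induction k using Nat.strong_induction_on with
  | _ k ih =>
    intro hk
    by_cases h0 : k = 0
    · subst h0
      exact ⟨1, one_mem H, fun x => (aglAct_zero_eq x.2.1).symm⟩
    obtain ⟨q, j, hq, hj, he⟩ := aglAct_step hk h0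
    obtain ⟨g, hg, hgx⟩ := ih q hq (by omega)
    obtain ⟨s, hs, hsx⟩ := A.gen j hj
    refine ⟨s * g, mul_mem hs hg, fun x => ?_⟩
    rw [Equiv.Perm.mul_apply, hsx, hgx, he (fun u hu => aglAct_lt (by omega) hu) _ x.2.1]

theorem classOf_lt {v : ℕ} (hv : v < 256) : classOf v < 10 := by
  have h := reach_ok
  simp only [List.all_eq_true, List.mem_range, forceNat_eq, Bool.and_eq_true] at h
  exact by simpa [Nat.blt_eq] using (h v hv).1.1.1.1

/-- A set closed under the affine group is a union of classes. -/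
theorem class_closed {S : Set (MV b)} {K : Subgroup (Equiv.Perm (MV b))}
    (hS : ∀ h ∈ K, ∀ x ∈ S, h x ∈ S) (hK : ∀ j < 2, ∃ h ∈ K, ∀ x, (h x).1 = genAct j x.1)
    {x y : MV b} (hx : x ∈ S) (hc : classOf y.1 = classOf x.1) : y ∈ S := by
  have hw : ∀ {w : List ℕ}, (∀ j ∈ w, j < 2) → ∀ {x : MV b}, x ∈ S → ∃ y ∈ S, y.1 = wordAct w x.1 := by
    intro w
    induction w with
    | nil => exact fun _ x hx => ⟨x, hx, rfl⟩
    | cons j w ih =>
      intro hw x hx
      obtain ⟨y, hy, hye⟩ := ih (fun i hi => hw i (List.mem_cons_of_mem _ hi)) hx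
      obtain ⟨g, hg, hgx⟩ := hK j (hw j (List.mem_cons_self ..))
      exact ⟨g y, hS g hg y hy, by rw [hgx, hye]; rfl⟩
  have h := reach_ok
  simp only [List.all_eq_true, List.mem_range, forceNat_eq, Bool.and_eq_true] at h
  obtain ⟨⟨⟨⟨-, -⟩, bw⟩, -⟩, be⟩ := h x.1 x.2.1
  obtain ⟨⟨⟨⟨-, fw⟩, -⟩, fe⟩, -⟩ := h y.1 y.2.1
  obtain ⟨r, hr, hre⟩ := hw (fun j hj => by simpa [Nat.blt_eq] using bw j hj) hx
  rw [Nat.eq_of_beq_eq_true be, ← hc] at hre
  obtain ⟨z, hz, hze⟩ := hw (fun j hj => by simpa [Nat.blt_eq] using fw j hj) hr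
  rw [hre, Nat.eq_of_beq_eq_true fe] at hze
  exact Subtype.ext hze ▸ hz

/-- The bit set of a predicate on classes. -/
def bitsOf (p : Fin 10 → Bool) : ℕ :=
  (List.finRange 10).foldl (fun r c => if p c then r + 2 ^ c.val else r) 0

theorem bitsOf_spec : ∀ p : Fin 10 → Bool, bitsOf p < 1024 ∧
    ∀ c : Fin 10, (bitsOf p / 2 ^ c.val % 2 == 1) = p c := by
  decide +kernel

theorem exists_bits (p : Fin 10 → Bool) : ∃ M : Fin 1024, M.val = bitsOf p ∧
    ∀ c : Fin 10, (M.val / 2 ^ c.val % 2 == 1) = p c :=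
  ⟨⟨bitsOf p, (bitsOf_spec p).1⟩, rfl, (bitsOf_spec p).2⟩

/-- A set closed under the affine group, as a bit set of classes. -/
theorem exists_opt {S : Set (MV b)} {K : Subgroup (Equiv.Perm (MV b))}
    (hS : ∀ h ∈ K, ∀ x ∈ S, h x ∈ S) (hK : ∀ j < 2, ∃ h ∈ K, ∀ x, (h x).1 = genAct j x.1) :
    ∃ M < 1024, (∀ x : MV b, x ∈ S ↔ inOpt M x.1 = true) ∧
      ∀ c < 10, (M / 2 ^ c) % 2 = 1 → ∃ x ∈ S, classOf x.1 = c := by
  classical
  obtain ⟨M, -, hM⟩ := exists_bits fun c => decide (∃ x ∈ S, classOf x.1 = c.val)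
  refine ⟨M.val, M.isLt, fun x => ?_, fun c hc h => ?_⟩
  · have h := hM ⟨_, classOf_lt x.2.1⟩
    simp only at h
    constructor
    · intro hx
      have : (M.val / 2 ^ classOf x.1 % 2 == 1) = true := by
        rw [h, decide_eq_true_iff]
        exact ⟨x, hx, rfl⟩
      show Nat.beq _ 1 = true
      rw [show Nat.mod (Nat.div M.val (2 ^ classOf x.1)) 2 = 1 from beq_iff_eq.1 this]
      rfl
    · intro hx
      have h1 : M.val / 2 ^ classOf x.1 % 2 = 1 := Nat.eq_of_beq_eq_true hx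
      rw [h1] at h
      obtain ⟨y, hy, hyc⟩ := of_decide_eq_true h.symm
      exact class_closed hS hK hy hyc.symm
  · have h' := hM ⟨c, hc⟩
    simp only [h] at h'
    exact of_decide_eq_true h'.symm

/-- The size of such a set. -/
theorem natCard_opt {S : Set (MV b)} {M : ℕ} (hM : ∀ x : MV b, x ∈ S ↔ inOpt M x.1 = true) :
    Nat.card S = (List.range 256).countP (fun v => (b || evenMask v) && inOpt M v) := by
  rw [← natCard_filter b (inOpt M)]
  exact Nat.card_congr (Equiv.subtypeEquivRight hM)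

theorem countP_opt {S : Set (MV b)} {M : ℕ} (hM : ∀ x : MV b, x ∈ S ↔ inOpt M x.1 = true)
    (hsub : ∀ v < 256, inOpt M v = true → InU b v) :
    Nat.card S = (List.range 256).countP (inOpt M) := by
  rw [natCard_opt hM]
  refine List.countP_congr fun v hv => ?_
  simp only [Bool.and_eq_true, Bool.or_eq_true]
  exact ⟨fun h => h.2, fun h => ⟨(hsub v (List.mem_range.1 hv) h).2, h⟩⟩

/-- Orbit-stabiliser inside a group of permutations of the masks. -/
theorem natCard_orbit_mul (H : Subgroup (Equiv.Perm (MV b))) (x : MV b) :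
    Nat.card {y : MV b // ∃ h ∈ H, h x = y} *
      Nat.card ↥(H ⊓ MulAction.stabilizer (Equiv.Perm (MV b)) x) = Nat.card H := by
  classical
  haveI : Fintype ↥H := Fintype.ofFinite _
  haveI : Fintype (MulAction.orbit ↥H x) := Fintype.ofFinite _
  haveI : Fintype (MulAction.stabilizer ↥H x) := Fintype.ofFinite _
  have h := MulAction.card_orbit_mul_card_stabilizer_eq_card_group ↥H x
  rw [← Nat.card_eq_fintype_card, ← Nat.card_eq_fintype_card, ← Nat.card_eq_fintype_card] at h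
  rw [← h]
  refine congrArg₂ (· * ·) (Nat.card_congr (Equiv.subtypeEquivRight fun y => ?_)) ?_
  · exact ⟨fun ⟨g, hg, e⟩ => ⟨⟨g, hg⟩, e⟩, fun ⟨g, e⟩ => ⟨g.1, g.2, e⟩⟩
  · exact Nat.card_congr ⟨fun g => ⟨⟨g.1, g.2.1⟩, g.2.2⟩, fun g => ⟨g.1.1, g.1.2, g.2⟩,
      fun g => rfl, fun g => rfl⟩

end Cfsg.Agent.Lib.E8Frame76
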