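import Cfsg.Agent.Lib.E8Frame76.AutParts
import Cfsg.Agent.Lib.Compute.Perm
import Cfsg.Agent.Lib.E8Frame76.DataAut

/-! Kernel checks for the automorphism certificate, part A. -/

set_option autoImplicit false
set_option maxRecDepth 20000

namespace Cfsg.Agent.Lib.E8Frame76

open Cfsg.Agent.Lib.Compute

theorem aut_chain2 : chainCheck (permOps 8 240) plusGens plusAut.chain2 = true := by decide +kernel

theorem aut_gen : (pairsEq [pathEval (permOps 8 240) plusChain plusAut.path1,
      pathEval (permOps 8 240) plusChain plusAut.path2, pathEval (permOps 8 240) plusChain plusAut.path3]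
    [plusAut.x1, plusAut.x2, plusAut.x3] &&
    chainCheck (permOps 8 240) [plusAut.x1, plusAut.x2, plusAut.x3] plusAut.genChain) = true := by decide +kernel

end Cfsg.Agent.Lib.E8Frame76
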