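import Cfsg.Agent.Lib.E8Frame76.AutParts
import Cfsg.Agent.Lib.Compute.Perm
import Cfsg.Agent.Lib.E8Frame76.DataAut

/-! Kernel checks for the automorphism certificate, part B. -/

set_option autoImplicit false
set_option maxRecDepth 20000

namespace Cfsg.Agent.Lib.E8Frame76

open Cfsg.Agent.Lib.Compute

theorem aut_c3r0 : chainCheck (permOps 8 240) plusGens plusAutC3r0 = true := by decide +kernel

theorem aut_c3r1 : chainCheck (permOps 8 240) plusGens plusAutC3r1 = true := by decide +kernel

end Cfsg.Agent.Lib.E8Frame76
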