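import Cfsg.Agent.Lib.E8Frame76.AutParts
import Cfsg.Agent.Lib.Compute.Perm
import Cfsg.Agent.Lib.E8Frame76.DataAut

/-! Kernel checks for the automorphism certificate, part C. -/

set_option autoImplicit false
set_option maxRecDepth 20000

namespace Cfsg.Agent.Lib.E8Frame76

open Cfsg.Agent.Lib.Compute

theorem aut_small : (primeCheck plusAut.p &&
  Nat.beq (chainSize plusAut.genChain) (chainSize plusChain) &&
  Nat.beq (powC (permOps 8 240) plusAut.x1.1 plusAut.p) (permOps 8 240).one &&
  !Nat.beq plusAut.x1.1 (permOps 8 240).one &&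
  Nat.beq (chainSize plusChain % plusAut.p) 0 && !Nat.beq (chainSize plusChain / plusAut.p % plusAut.p) 0 &&
  Nat.beq ((permOps 8 240).mul plusAut.x2.1 plusAut.x1.1)
    ((permOps 8 240).mul (powC (permOps 8 240) plusAut.x1.1 plusAut.m) plusAut.x2.1) &&
  Nat.beq ((permOps 8 240).mul plusAut.x3.1 plusAut.x2.1)
    ((permOps 8 240).mul (powC (permOps 8 240) plusAut.x2.1 plusAut.l) plusAut.x3.1) &&
  (plusAut.words.all fun w => Nat.beq (wordVal (permOps 8 240) plusAut.base w) (permOps 8 240).one)) = true := by
  decide +kernel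

theorem aut_cover : ((List.range plusAut.p).all fun k => Nat.beq k 0 ||
    forceNat (powC (permOps 8 240) plusAut.x1.1 k) fun a =>
      forceNat (powC (permOps 8 240) plusAut.x1.1 plusAut.m) fun b =>
        (twins (permOps 8 240) plusAut.x1.1 b plusAut.chain2).all fun y' => plusAut.cases.any fun cs =>
          Nat.beq cs.k k && inOrbit (permOps 8 240) plusAut.x1 cs.y plusAut.p y') = true := by
  decide +kernel

theorem aut_cases : (plusAut.cases.all fun cs => Nat.beq cs.y plusY0 || Nat.beq cs.y plusY1) = true := by
  decide +kernel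

theorem aut_outer : outerCheck (permOps 8 240) plusAut plusTri = true := by decide +kernel

theorem plusTri_img : ((Nat.beq (conjC (permOps 8 240) plusOuter plusAut.base.a) plusTri.a &&
    Nat.beq (conjC (permOps 8 240) plusOuter plusAut.base.b) plusTri.b) &&
    Nat.beq (conjC (permOps 8 240) plusOuter plusAut.base.c) plusTri.c) = true := by decide +kernel
theorem slice1_0 : sliceCheck 8 240 plusChain plusAut [plusAut.base, plusTri]
    (plusAut.cases.filter fun cs => Nat.beq cs.y plusY1)
    (twinSlice (permOps 8 240) plusY1 (powC (permOps 8 240) plusY1 plusAut.l) (0 * 40) 40 plusAutC3r1) = true := by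
  decide +kernel
theorem slice1_1 : sliceCheck 8 240 plusChain plusAut [plusAut.base, plusTri]
    (plusAut.cases.filter fun cs => Nat.beq cs.y plusY1)
    (twinSlice (permOps 8 240) plusY1 (powC (permOps 8 240) plusY1 plusAut.l) (1 * 40) 40 plusAutC3r1) = true := by
  decide +kernel
theorem slice1_2 : sliceCheck 8 240 plusChain plusAut [plusAut.base, plusTri]
    (plusAut.cases.filter fun cs => Nat.beq cs.y plusY1)
    (twinSlice (permOps 8 240) plusY1 (powC (permOps 8 240) plusY1 plusAut.l) (2 * 40) 40 plusAutC3r1) = true := by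
  decide +kernel
theorem slice1_3 : sliceCheck 8 240 plusChain plusAut [plusAut.base, plusTri]
    (plusAut.cases.filter fun cs => Nat.beq cs.y plusY1)
    (twinSlice (permOps 8 240) plusY1 (powC (permOps 8 240) plusY1 plusAut.l) (3 * 40) 40 plusAutC3r1) = true := by
  decide +kernel
theorem slice1_4 : sliceCheck 8 240 plusChain plusAut [plusAut.base, plusTri]
    (plusAut.cases.filter fun cs => Nat.beq cs.y plusY1)
    (twinSlice (permOps 8 240) plusY1 (powC (permOps 8 240) plusY1 plusAut.l) (4 * 40) 40 plusAutC3r1) = true := by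
  decide +kernel
theorem slice1_5 : sliceCheck 8 240 plusChain plusAut [plusAut.base, plusTri]
    (plusAut.cases.filter fun cs => Nat.beq cs.y plusY1)
    (twinSlice (permOps 8 240) plusY1 (powC (permOps 8 240) plusY1 plusAut.l) (5 * 40) 40 plusAutC3r1) = true := by
  decide +kernel

end Cfsg.Agent.Lib.E8Frame76
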