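import Cfsg.Agent.Lib.E8Frame76.AutParts
import Cfsg.Agent.Lib.Compute.Perm
import Cfsg.Agent.Lib.E8Frame76.DataAut

/-! Kernel checks for the automorphism certificate, part 3. -/

set_option autoImplicit false
set_option maxRecDepth 20000

namespace Cfsg.Agent.Lib.E8Frame76

open Cfsg.Agent.Lib.Compute

theorem slice0_3 : sliceCheck 8 240 plusChain plusAut [plusAut.base, plusTri]
    (plusAut.cases.filter fun cs => Nat.beq cs.y plusY0)
    (twinSlice (permOps 8 240) plusY0 (powC (permOps 8 240) plusY0 plusAut.l) (3 * 40) 40 plusAutC3r0) = true := by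
  decide +kernel

end Cfsg.Agent.Lib.E8Frame76
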