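import Cfsg.Agent.Lib.E8Frame76.Iface
import Cfsg.Agent.Lib.E8Frame76.CheckAutA
import Cfsg.Agent.Lib.E8Frame76.CheckAutB
import Cfsg.Agent.Lib.E8Frame76.CheckAutC
import Cfsg.Agent.Lib.E8Frame76.CheckAutS0
import Cfsg.Agent.Lib.E8Frame76.CheckAutS1
import Cfsg.Agent.Lib.E8Frame76.CheckAutS2
import Cfsg.Agent.Lib.E8Frame76.CheckAutS3
import Cfsg.Agent.Lib.E8Frame76.CheckAutS4
import Cfsg.Agent.Lib.E8Frame76.CheckAutS5

/-!
# The automorphisms of the rotation subgroup and its centraliser in the Weyl group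
-/

set_option autoImplicit false
set_option maxRecDepth 20000

namespace Cfsg.Agent.Lib.E8Frame76

open Cfsg.Agent.Lib.Compute

/-- The second images and chains of the cases. -/
theorem aut_case_data : plusAut.cases.map (fun cs => (cs.y, cs.chain3)) =
    (List.replicate 6 [(plusY0, plusAutC3r0), (plusY1, plusAutC3r1)]).flatten := rfl

theorem aut_y_ne : Nat.beq plusY0 plusY1 = false := by decide +kernel

theorem aut_orb_len : plusAutC3r0.length ≠ 0 ∧ plusAutC3r1.length ≠ 0 ∧
    (∀ l ∈ plusAutC3r0.take 1, l.orb.toList.length ≤ 6 * 40) ∧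
    (∀ l ∈ plusAutC3r1.take 1, l.orb.toList.length ≤ 6 * 40) := by
  decide +kernel

theorem case_chain {cs : AutCase} (h : cs ∈ plusAut.cases) :
    (Nat.beq cs.y plusY0 = true → cs.chain3 = plusAutC3r0) ∧
      (Nat.beq cs.y plusY1 = true → cs.chain3 = plusAutC3r1) := by
  have hm : (cs.y, cs.chain3) ∈ plusAut.cases.map (fun cs => (cs.y, cs.chain3)) :=
    List.mem_map.2 ⟨cs, h, rfl⟩
  rw [aut_case_data] at hm
  have hne := aut_y_ne
  have hne' : Nat.beq plusY1 plusY0 = false := by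
    rw [Bool.eq_false_iff] at hne ⊢
    intro he
    exact hne (Nat.eq_of_beq_eq_true he ▸ Nat.beq_refl _)
  obtain ⟨L, hL, hmL⟩ := List.mem_flatten.1 hm
  rw [(List.mem_replicate.1 hL).2] at hmL
  obtain ⟨hy, hc⟩ | ⟨hy, hc⟩ : (cs.y = plusY0 ∧ cs.chain3 = plusAutC3r0) ∨
      (cs.y = plusY1 ∧ cs.chain3 = plusAutC3r1) := by
    rcases List.mem_cons.1 hmL with h | h
    · exact Or.inl (Prod.mk.inj h)
    · exact Or.inr (Prod.mk.inj (List.mem_singleton.1 h))
  · exact ⟨fun _ => hc, fun he => by rw [hy, hne] at he; exact absurd he Bool.false_ne_true⟩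
  · exact ⟨fun he => by rw [hy, hne'] at he; exact absurd he Bool.false_ne_true, fun _ => hc⟩

theorem slices0 : ∀ i < 6, sliceCheck 8 240 plusChain plusAut [plusAut.base, plusTri]
    (plusAut.cases.filter fun cs => Nat.beq cs.y plusY0)
    (twinSlice (permOps 8 240) plusY0 (powC (permOps 8 240) plusY0 plusAut.l) (i * 40) 40 plusAutC3r0) = true
  | 0, _ => slice0_0
  | 1, _ => slice0_1
  | 2, _ => slice0_2
  | 3, _ => slice0_3
  | 4, _ => slice0_4
  | 5, _ => slice0_5
  | _ + 6, h => absurd h (by omega)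

theorem slices1 : ∀ i < 6, sliceCheck 8 240 plusChain plusAut [plusAut.base, plusTri]
    (plusAut.cases.filter fun cs => Nat.beq cs.y plusY1)
    (twinSlice (permOps 8 240) plusY1 (powC (permOps 8 240) plusY1 plusAut.l) (i * 40) 40 plusAutC3r1) = true
  | 0, _ => slice1_0
  | 1, _ => slice1_1
  | 2, _ => slice1_2
  | 3, _ => slice1_3
  | 4, _ => slice1_4
  | 5, _ => slice1_5
  | _ + 6, h => absurd h (by omega)

/-- The checks on the third images of all cases with one second image. -/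
theorem tail_part {y : ℕ} {c3 : List Lvl} (hne : c3.length ≠ 0)
    (hlen : ∀ l ∈ c3.take 1, l.orb.toList.length ≤ 6 * 40)
    (hch : chainCheck (permOps 8 240) plusGens c3 = true)
    (hc : ∀ cs ∈ plusAut.cases, Nat.beq cs.y y = true → cs.chain3 = c3)
    (hs : ∀ i < 6, sliceCheck 8 240 plusChain plusAut [plusAut.base, plusTri]
      (plusAut.cases.filter fun cs => Nat.beq cs.y y)
      (twinSlice (permOps 8 240) y (powC (permOps 8 240) y plusAut.l) (i * 40) 40 c3) = true) :
    ∀ cs ∈ plusAut.cases, Nat.beq cs.y y = true →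
      tailCheck (permOps 8 240) plusGens plusChain plusAut [plusAut.base, plusTri] cs = true := by
  rcases c3 with _ | ⟨l, ls⟩
  · exact absurd rfl hne
  intro cs hcs hy
  refine tailCheck_of_slices le_256 (cases := plusAut.cases.filter fun cs => Nat.beq cs.y y) ?_ hch
    (hlen l (by simp)) hs cs (List.mem_filter.2 ⟨hcs, hy⟩)
  intro c hcm
  obtain ⟨hc1, hc2⟩ := List.mem_filter.1 hcm
  exact ⟨Nat.eq_of_beq_eq_true hc2, hc c hc1 hc2⟩

theorem aut_all : casesCheck (permOps 8 240) plusGens plusChain plusAut [plusAut.base, plusTri] = true := by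
  have hg := aut_gen
  have hsm := aut_small
  simp only [Bool.and_eq_true] at hg hsm
  obtain ⟨⟨⟨⟨⟨⟨⟨⟨h1, h2⟩, h3⟩, h4⟩, h5⟩, h6⟩, h7⟩, h8⟩, h9⟩ := hsm
  obtain ⟨hne0, hne1, hl0, hl1⟩ := aut_orb_len
  simp only [casesCheck, Bool.and_eq_true]
  refine ⟨⟨⟨⟨⟨⟨⟨⟨⟨⟨⟨⟨⟨h1, hg.1⟩, hg.2⟩, h2⟩, h3⟩, h4⟩, h5⟩, h6⟩, h7⟩, h8⟩, aut_chain2⟩, h9⟩,
    aut_cover⟩, ?_⟩
  rw [List.all_eq_true]
  intro cs hcs
  have hy := List.all_eq_true.1 aut_cases cs hcs
  rcases Bool.or_eq_true_iff.1 hy with hy | hy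
  · exact tail_part hne0 hl0 aut_c3r0 (fun c hc => (case_chain hc).1) slices0 cs hcs hy
  · exact tail_part hne1 hl1 aut_c3r1 (fun c hc => (case_chain hc).2) slices1 cs hcs hy

theorem outer_gen : plusOuter ∈ fullGens := by decide +kernel

theorem exists_outer : ∃ o ∈ WF, Cr.enc o = plusOuter.1 ∧ Cr.enc o⁻¹ = plusOuter.2 := by
  obtain ⟨o, -, h1, h2⟩ := fullOK _ outer_gen
  exact ⟨o, Subgroup.subset_closure ⟨plusOuter, outer_gen, h1⟩, h1, h2⟩

/-- Generators of the rotation subgroup, and their images under the outer element. -/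
theorem exists_base : ∃ X : ℕ → ↥WP, (∀ i, Cr.enc (X i : PR) = plusAut.base.get i) ∧
    Cr.enc (X 0 : PR)⁻¹ = plusAut.x1.2 ∧ Subgroup.closure {X 0, X 1, X 2} = ⊤ :=
  casesCheck_base Cr plusOK plusChain_ok aut_all

theorem outer_img {o : PR} (h1 : Cr.enc o = plusOuter.1) (h2 : Cr.enc o⁻¹ = plusOuter.2)
    {X : ℕ → ↥WP} (hX : ∀ i, Cr.enc (X i : PR) = plusAut.base.get i) :
    ∀ i, Cr.enc (o * (X i : PR) * o⁻¹) = plusTri.get i := by
  have himg := plusTri_img
  simp only [Bool.and_eq_true] at himg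
  have key : ∀ (z j : ℕ), Nat.beq (conjC (permOps 8 240) plusOuter (plusAut.base.get j)) z = true →
      Cr.enc (o * (X j : PR) * o⁻¹) = z := by
    intro z j hz
    rw [← Cr.mul_enc, ← Cr.mul_enc, h1, h2, hX j]
    exact Nat.eq_of_beq_eq_true hz
  intro i
  rcases i with _ | _ | i
  · exact key plusTri.a 0 himg.1.1
  · exact key plusTri.b 1 himg.1.2
  · exact key plusTri.c (i + 2) himg.2

theorem autFact : AutStmt := by
  intro φ
  obtain ⟨o, ho, h1, h2⟩ := exists_outer
  obtain ⟨X, hX, hXinv, hgen⟩ := exists_base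
  let τ : MulAut ↥WP :=
    conjRestrict WP o (fun y hy => (conj_plus ho y hy).1) (fun y hy => (conj_plus ho y hy).2)
  obtain ⟨σ, hσ, g, hg⟩ := casesCheck_exists Cr plusOK plusChain_ok aut_all [1, τ] hX hXinv hgen
    (fun j s hj => by
      match j with
      | 0 =>
        simp only [List.getElem?_cons_zero, Option.some.injEq] at hj
        exact ⟨1, rfl, fun i => hj ▸ hX i⟩
      | 1 =>
        simp only [List.getElem?_cons_succ, List.getElem?_cons_zero, Option.some.injEq] at hj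
        exact ⟨τ, rfl, fun i => hj ▸ outer_img h1 h2 hX i⟩
      | j + 2 => simp at hj) φ
  obtain rfl | rfl : σ = 1 ∨ σ = τ := by
    rcases List.mem_cons.1 hσ with h | h
    · exact Or.inl h
    · exact Or.inr (List.mem_singleton.1 h)
  · refine ⟨(g : PR), plus_le g.2, fun a => ?_⟩
    rw [hg]
    rfl
  · refine ⟨(g : PR) * o, mul_mem (plus_le g.2) ho, fun a => ?_⟩
    rw [hg]
    show (g : PR) * (o * (a : PR) * o⁻¹) * (g : PR)⁻¹ = _
    group

/-- The elements commuting with the base triple. -/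
theorem cent_twins : ((twins (permOps 8 240) plusAut.x1.1 plusAut.x1.1 plusAut.chain2).all fun c =>
    !(Nat.beq (rmul c plusAut.x2.1) (rmul plusAut.x2.1 c) &&
      Nat.beq (rmul c plusAut.x3.1) (rmul plusAut.x3.1 c)) ||
    Nat.beq c (permOps 8 240).one || Nat.beq c (eCode 255)) = true := by
  decide +kernel

theorem centFact : CentStmt := by
  intro x hx hc
  obtain ⟨o, ho, h1, h2⟩ := exists_outer
  obtain ⟨X, hX, -, -⟩ := exists_base
  have hout : ∀ c ∈ WP, (∀ i, c * (X i : PR) * c⁻¹ = o * (X i : PR) * o⁻¹) → False := by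
    intro c hcm hcX
    have hrel : ∀ i, c * (X i : PR) = (o * (X i : PR) * o⁻¹) * c := fun i =>
      mul_inv_eq_iff_eq_mul.1 (hcX i)
    have hmem := enc_mem_twins Cr plusOK aut_chain2 hcm (hrel 0)
    rw [hX 0, outer_img h1 h2 hX 0] at hmem
    have h := List.all_eq_true.1 aut_outer _ hmem
    have hm : ∀ i, (permOps 8 240).mul (Cr.enc c) (plusAut.base.get i) =
        (permOps 8 240).mul (plusTri.get i) (Cr.enc c) := by
      intro i
      rw [← hX i, ← outer_img h1 h2 hX i, Cr.mul_enc, Cr.mul_enc, hrel i]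
    rw [show (permOps 8 240).mul (Cr.enc c) plusAut.x2.1 = _ from hm 1,
      show (permOps 8 240).mul (Cr.enc c) plusAut.x3.1 = _ from hm 2,
      show plusTri.b = plusTri.get 1 from rfl, show plusTri.c = plusTri.get 2 from rfl,
      Nat.beq_refl, Nat.beq_refl] at h
    simp at h
  have honot : o ∉ WP := fun h => hout o h fun _ => rfl
  by_cases hxp : x ∈ WP
  · have hmem := enc_mem_twins Cr plusOK aut_chain2 hxp (hc _ (X 0).2).symm.eq.symm
    rw [hX 0] at hmem
    have h := List.all_eq_true.1 cent_twins _ hmem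
    have hm : ∀ i, rmul (Cr.enc x) (plusAut.base.get i) = rmul (plusAut.base.get i) (Cr.enc x) := by
      intro i
      rw [← hX i, ← enc_mul', ← enc_mul', (hc _ (X i).2).eq]
    rw [show rmul (Cr.enc x) plusAut.x2.1 = _ from hm 1,
      show rmul (Cr.enc x) plusAut.x3.1 = _ from hm 2,
      show plusAut.x2.1 = plusAut.base.get 1 from rfl, show plusAut.x3.1 = plusAut.base.get 2 from rfl,
      Nat.beq_refl, Nat.beq_refl] at h
    simp only [Bool.and_self, Bool.not_true, Bool.false_or, Bool.or_eq_true] at h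
    rcases h with h | h
    · exact Or.inl (Cr.inj ((Nat.eq_of_beq_eq_true h).trans Cr.one_enc.symm))
    · exact Or.inr (Cr.inj ((Nat.eq_of_beq_eq_true h).trans (enc_eW (by omega)).symm))
  · exfalso
    refine hout (o * x) ((mul_mem_plus_iff ho hx).2 (iff_of_false honot hxp)) fun i => ?_
    have := (hc _ (X i).2).eq
    rw [mul_inv_rev, show o * x * (X i : PR) * (x⁻¹ * o⁻¹) = o * (x * (X i : PR)) * x⁻¹ * o⁻¹ by group,
      this]
    group

end Cfsg.Agent.Lib.E8Frame76
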