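import Cfsg.Agent.Lib.Compute.AutBound

/-!
# Bounding automorphisms when the element of prime order has a larger centraliser

As `autCheck`, but with several normalised images of the second generator for each power of the first.
-/

set_option autoImplicit false

namespace Cfsg.Agent.Lib.E8Frame76

open Cfsg.Agent.Lib.Compute

/-- The checks on the image triples of one case. -/
noncomputable def tailCheck (O : Ops) (S : List (ℕ × ℕ)) (L : List Lvl) (A : AutCert) (T : List Tri)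
    (cs : AutCase) : Bool :=
  chainCheck O S cs.chain3 &&
    forceNat (powC O A.x1.1 cs.k) fun a => forceNat (powC O cs.y A.l) fun d =>
      (twins O cs.y d cs.chain3).all fun z => zCheck O L A T cs.conjs ⟨a, cs.y, z⟩

/-- The check with any number of cases for each power. -/
noncomputable def casesCheck (O : Ops) (S : List (ℕ × ℕ)) (L : List Lvl) (A : AutCert)
    (T : List Tri) : Bool :=
  primeCheck A.p &&
  pairsEq [pathEval O L A.path1, pathEval O L A.path2, pathEval O L A.path3] [A.x1, A.x2, A.x3] &&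
  chainCheck O [A.x1, A.x2, A.x3] A.genChain && Nat.beq (chainSize A.genChain) (chainSize L) &&
  Nat.beq (powC O A.x1.1 A.p) O.one && !Nat.beq A.x1.1 O.one &&
  Nat.beq (chainSize L % A.p) 0 && !Nat.beq (chainSize L / A.p % A.p) 0 &&
  Nat.beq (O.mul A.x2.1 A.x1.1) (O.mul (powC O A.x1.1 A.m) A.x2.1) &&
  Nat.beq (O.mul A.x3.1 A.x2.1) (O.mul (powC O A.x2.1 A.l) A.x3.1) &&
  chainCheck O S A.chain2 &&
  (A.words.all fun w => Nat.beq (wordVal O A.base w) O.one) &&
  ((List.range A.p).all fun k => Nat.beq k 0 ||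
    forceNat (powC O A.x1.1 k) fun a => forceNat (powC O A.x1.1 A.m) fun b =>
      (twins O A.x1.1 b A.chain2).all fun y' => A.cases.any fun cs =>
        Nat.beq cs.k k && inOrbit O A.x1 cs.y A.p y') &&
  A.cases.all (tailCheck O S L A T)

variable {G : Type*} [Group G] {O : Ops} (C : Coding G O) [Finite G]

/-- The base triple generates. -/
theorem casesCheck_base {S : List (ℕ × ℕ)} (hS : GensOK C S) {L : List Lvl}
    (hL : chainCheck O S L = true) {A : AutCert} {T : List Tri} (h : casesCheck O S L A T = true) :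
    ∃ X : ℕ → genGroup C S, (∀ i, C.enc (X i : G) = A.base.get i) ∧
      C.enc (X 0 : G)⁻¹ = A.x1.2 ∧ Subgroup.closure {X 0, X 1, X 2} = ⊤ := by
  simp only [casesCheck, Bool.and_eq_true] at h
  obtain ⟨⟨⟨⟨⟨⟨⟨⟨⟨⟨⟨⟨⟨-, hpath⟩, hgen⟩, hsize⟩, -⟩, -⟩, -⟩, -⟩, -⟩, -⟩, -⟩, -⟩, -⟩, -⟩ := h
  have hp := pairsEq_eq hpath
  simp only [List.cons.injEq, and_true] at hp
  obtain ⟨e1, e2, e3⟩ := hp
  obtain ⟨g1, hg1, a1, b1⟩ := pairOK_pathEval C hS hL A.path1
  obtain ⟨g2, hg2, a2, b2⟩ := pairOK_pathEval C hS hL A.path2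
  obtain ⟨g3, hg3, a3, b3⟩ := pairOK_pathEval C hS hL A.path3
  rw [e1] at a1 b1
  rw [e2] at a2 b2
  rw [e3] at a3 b3
  refine ⟨fun i => match i with
    | 0 => ⟨g1, hg1⟩
    | 1 => ⟨g2, hg2⟩
    | _ => ⟨g3, hg3⟩, fun i => ?_, b1, ?_⟩
  · rcases i with _ | _ | i
    · exact a1
    · exact a2
    · exact a3
  · have hok : GensOK C [A.x1, A.x2, A.x3] := by
      intro q hq
      simp only [List.mem_cons, List.not_mem_nil, or_false] at hq
      rcases hq with rfl | rfl | rfl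
      · exact ⟨g1, trivial, a1, b1⟩
      · exact ⟨g2, trivial, a2, b2⟩
      · exact ⟨g3, trivial, a3, b3⟩
    have hle : genGroup C [A.x1, A.x2, A.x3] ≤ (Subgroup.closure
        {(⟨g1, hg1⟩ : genGroup C S), ⟨g2, hg2⟩, ⟨g3, hg3⟩}).map (genGroup C S).subtype := by
      refine (Subgroup.closure_le _).2 ?_
      rintro g ⟨q, hq, hg⟩
      simp only [List.mem_cons, List.not_mem_nil, or_false] at hq
      rcases hq with rfl | rfl | rfl
      · exact ⟨⟨g1, hg1⟩, Subgroup.subset_closure (by simp), C.inj (a1.trans hg.symm)⟩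
      · exact ⟨⟨g2, hg2⟩, Subgroup.subset_closure (by simp), C.inj (a2.trans hg.symm)⟩
      · exact ⟨⟨g3, hg3⟩, Subgroup.subset_closure (by simp), C.inj (a3.trans hg.symm)⟩
    refine Subgroup.eq_top_of_le_card _ ?_
    rw [card_genGroup C hS hL, ← Nat.eq_of_beq_eq_true hsize, ← card_genGroup C hok hgen]
    refine (Subgroup.card_le_of_le hle).trans (le_of_eq ?_)
    exact Subgroup.card_map_of_injective (genGroup C S).subtype_injective

/-- Every automorphism is an inner one times one of `outs`. -/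
theorem casesCheck_exists {S : List (ℕ × ℕ)} (hS : GensOK C S) {L : List Lvl}
    (hL : chainCheck O S L = true) {A : AutCert} {T : List Tri} (h : casesCheck O S L A T = true)
    (outs : List (MulAut (genGroup C S))) {X : ℕ → genGroup C S}
    (hX : ∀ i, C.enc (X i : G) = A.base.get i) (hXinv : C.enc (X 0 : G)⁻¹ = A.x1.2)
    (hgen : Subgroup.closure {X 0, X 1, X 2} = ⊤)
    (houts : ∀ (j : ℕ) (t : Tri), T[j]? = some t →
      ∃ τ, outs[j]? = some τ ∧ ∀ i, C.enc (τ (X i) : G) = t.get i)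
    (φ : MulAut (genGroup C S)) : ∃ τ ∈ outs, ∃ g, φ = MulAut.conj g * τ := by
  simp only [casesCheck, Bool.and_eq_true, List.all_eq_true, List.mem_range, Bool.or_eq_true,
    List.any_eq_true, Bool.not_eq_true'] at h
  obtain ⟨⟨⟨⟨⟨⟨⟨⟨⟨⟨⟨⟨⟨hp, -⟩, -⟩, -⟩, hpow⟩, hne⟩, hdvd⟩, hndvd⟩, hm⟩, hl⟩, hch2⟩, hwords⟩,
    hks⟩, hcases⟩ := h
  have hprime := primeCheck_prime hp
  have := Fact.mk hprime
  have e1 : C.enc (X 0 : G) = A.x1.1 := hX 0
  have e2 : C.enc (X 1 : G) = A.x2.1 := hX 1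
  have e3 : C.enc (X 2 : G) = A.x3.1 := hX 2
  rw [← e1] at hne hpow
  have hxne : X 0 ≠ 1 := fun hh => by
    rw [hh, Subgroup.coe_one, C.one_enc, Nat.beq_refl] at hne
    simp at hne
  rw [powC_enc] at hpow
  have hxp : X 0 ^ A.p = 1 := Subtype.ext (C.inj ((Nat.eq_of_beq_eq_true hpow).trans C.one_enc.symm))
  have hord : orderOf (X 0) = A.p := orderOf_eq_prime hxp hxne
  have hfac : (Nat.card (genGroup C S)).factorization A.p = 1 := by
    rw [card_genGroup C hS hL]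
    have h1 : A.p ∣ chainSize L := Nat.dvd_of_mod_eq_zero (Nat.eq_of_beq_eq_true hdvd)
    have h2 : ¬ A.p ∣ chainSize L / A.p := fun hd => by
      rw [Nat.mod_eq_zero_of_dvd hd] at hndvd
      simp at hndvd
    have h3 : chainSize L / A.p ≠ 0 := fun h0 => h2 (h0 ▸ dvd_zero _)
    conv_lhs => rw [← Nat.mul_div_cancel' h1]
    rw [Nat.factorization_mul hprime.ne_zero h3, Finsupp.add_apply, hprime.factorization_self,
      Nat.factorization_eq_zero_of_not_dvd h2, add_zero]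
  let P : Sylow A.p (genGroup C S) := Sylow.ofCard (Subgroup.zpowers (X 0))
    (by rw [Nat.card_zpowers, hord, hfac, pow_one])
  let Q : Sylow A.p (genGroup C S) := Sylow.ofCard (Subgroup.zpowers (φ (X 0)))
    (by rw [Nat.card_zpowers, MulEquiv.orderOf_eq, hord, hfac, pow_one])
  obtain ⟨g, hg⟩ := MulAction.exists_smul_eq (genGroup C S) Q P
  have hin : g * φ (X 0) * g⁻¹ ∈ Subgroup.zpowers (X 0) := by
    have : g * φ (X 0) * g⁻¹ ∈ (P : Subgroup (genGroup C S)) := by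
      rw [← hg]
      exact (Subgroup.mem_smul_pointwise_iff_exists _ _ _).2
        ⟨φ (X 0), Subgroup.mem_zpowers _, by simp⟩
    exact this
  obtain ⟨k, hk⟩ := Submonoid.mem_powers_iff _ _ |>.1 (mem_powers_iff_mem_zpowers.2 hin)
  rw [← pow_mod_orderOf, hord] at hk
  have hkne : k % A.p ≠ 0 := fun h0 => by
    rw [h0, pow_zero] at hk
    exact hxne (φ.injective (by rw [map_one]; simpa using hk.symm))
  rcases hks (k % A.p) (Nat.mod_lt _ hprime.pos) with hk0 | hkall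
  · exact absurd (Nat.eq_of_beq_eq_true hk0) hkne
  simp only [forceNat_eq, List.all_eq_true, List.any_eq_true, Bool.and_eq_true] at hkall
  set kk := k % A.p with hkk
  set ψ1 : MulAut (genGroup C S) := MulAut.conj g * φ with hψ1
  have hψ1x : ψ1 (X 0) = X 0 ^ kk := by rw [hψ1, MulAut.mul_apply, MulAut.conj_apply, ← hk]
  rw [← e1, powC_enc] at hkall
  rw [← e2, ← e1, powC_enc, C.mul_enc, C.mul_enc] at hm
  rw [← e3, ← e2, powC_enc, C.mul_enc, C.mul_enc] at hl
  have hrel1 : X 1 * X 0 = X 0 ^ A.m * X 1 := Subtype.ext (C.inj (Nat.eq_of_beq_eq_true hm))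
  have hrel2 : X 2 * X 1 = X 1 ^ A.l * X 2 := Subtype.ext (C.inj (Nat.eq_of_beq_eq_true hl))
  have hy0 : MulAut.conj (ψ1 (X 1)) (X 0 ^ kk) = (X 0 ^ kk) ^ A.m := by
    rw [MulAut.conj_apply, mul_inv_eq_iff_eq_mul, ← hψ1x, ← map_pow, ← map_mul, ← map_mul, hrel1]
  have hkndvd : ¬ A.p ∣ kk := fun hd => hkne
    (Nat.eq_zero_of_dvd_of_lt hd (Nat.mod_lt _ hprime.pos))
  obtain ⟨j, -, hj⟩ := Nat.exists_mul_mod_eq_one_of_coprime
    (hprime.coprime_iff_not_dvd.2 hkndvd).symm hprime.one_lt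
  have hx0 : (X 0 ^ kk) ^ j = X 0 := by
    rw [← pow_mul, ← pow_mod_orderOf, hord, hj, pow_one]
  have hy1 : ψ1 (X 1) * X 0 = X 0 ^ A.m * ψ1 (X 1) := by
    have h' := congrArg (fun v => v ^ j) hy0
    simp only [← map_pow] at h'
    rw [hx0, ← pow_mul, Nat.mul_comm A.m, pow_mul, hx0, MulAut.conj_apply,
      mul_inv_eq_iff_eq_mul] at h'
    exact h'
  have hymem : C.enc (ψ1 (X 1) : G) ∈
      twins O (C.enc (X 0 : G)) (C.enc ((X 0 : G) ^ A.m)) A.chain2 :=
    enc_mem_twins C hS hch2 (ψ1 (X 1)).2 (congrArg Subtype.val hy1)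
  obtain ⟨cs, hcs, hck, horb⟩ := hkall _ hymem
  have hck := Nat.eq_of_beq_eq_true hck
  have hcase := hcases cs hcs
  simp only [tailCheck, forceNat_eq, Bool.and_eq_true, List.all_eq_true] at hcase
  obtain ⟨hch3, hz⟩ := hcase
  rw [← e1, powC_enc, hck] at hz
  obtain ⟨i, hi⟩ := exists_of_inOrbit C e1 hXinv _ horb
  set ψ2 : MulAut (genGroup C S) := MulAut.conj (X 0 ^ i) * ψ1 with hψ2
  have hψ2x : ψ2 (X 0) = X 0 ^ kk := by
    rw [hψ2, MulAut.mul_apply, hψ1x, MulAut.conj_apply, ← pow_add, Nat.add_comm, pow_add,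
      mul_inv_cancel_right]
  have hψ2y : C.enc (ψ2 (X 1) : G) = cs.y := by
    rw [hψ2, MulAut.mul_apply, MulAut.conj_apply, ← hi]
    rfl
  rw [← hψ2y, powC_enc] at hz
  have hz1 : ψ2 (X 2) * ψ2 (X 1) = ψ2 (X 1) ^ A.l * ψ2 (X 2) := by
    rw [← map_mul, ← map_pow, ← map_mul, hrel2]
  have hzc := hz _ (enc_mem_twins C hS hch3 (ψ2 (X 2)).2 (congrArg Subtype.val hz1))
  simp only [zCheck, Bool.or_eq_true, List.any_eq_true, Bool.not_eq_true'] at hzc
  have htri : ∀ j, C.enc (ψ2 (X j) : G) =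
      (⟨C.enc ((X 0 : G) ^ kk), C.enc (ψ2 (X 1) : G), C.enc (ψ2 (X 2) : G)⟩ : Tri).get j := by
    intro j
    rcases j with _ | _ | j
    · show _ = C.enc ((X 0 : G) ^ kk)
      rw [hψ2x, Subgroup.coe_pow]
    · rfl
    · show C.enc (ψ2 (X (j + 2)) : G) = C.enc (ψ2 (X 2) : G)
      rw [show X (j + 2) = X 2 from Subtype.ext (C.inj ((hX _).trans (hX 2).symm))]
  rcases hzc with ⟨w, hw, hwf⟩ | ⟨q, hq, hqt⟩
  · obtain ⟨x, x1, x2⟩ := wordVal_hom C (ψ2 : genGroup C S →* genGroup C S) hX htri w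
    have hw1 := hwords w hw
    rw [← x1] at hw1
    have : x = 1 := Subtype.ext (C.inj ((Nat.eq_of_beq_eq_true hw1).trans C.one_enc.symm))
    rw [← x2, this, map_one, Subgroup.coe_one, C.one_enc, Nat.beq_refl] at hwf
    simp at hwf
  · split at hqt
    · simp at hqt
    next s hs =>
    simp only [Bool.and_eq_true] at hqt
    obtain ⟨τ, hτ, hτX⟩ := houts _ _ hs
    obtain ⟨c, hc, c1, c2⟩ := pairOK_pathEval C hS hL q.1
    have hconj : ∀ (j : ℕ), Nat.beq (conjC O (pathEval O L q.1) (s.get j))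
        ((⟨C.enc ((X 0 : G) ^ kk), C.enc (ψ2 (X 1) : G), C.enc (ψ2 (X 2) : G)⟩ : Tri).get j) = true →
        ψ2 (X j) = (MulAut.conj (⟨c, hc⟩ : genGroup C S) * τ) (X j) := by
      intro j hj
      rw [← htri, ← hτX, conjC, ← c1, ← c2, C.mul_enc, C.mul_enc] at hj
      exact Subtype.ext (C.inj (Nat.eq_of_beq_eq_true hj).symm)
    have hall : ψ2 = MulAut.conj (⟨c, hc⟩ : genGroup C S) * τ := by
      apply MulEquiv.toMonoidHom_injective
      refine MonoidHom.eq_of_eqOn_dense hgen ?_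
      rintro y (rfl | rfl | rfl)
      · exact hconj 0 hqt.1.1
      · exact hconj 1 hqt.1.2
      · exact hconj 2 hqt.2
    refine ⟨τ, List.mem_of_getElem? hτ, (X 0 ^ i * g)⁻¹ * ⟨c, hc⟩, ?_⟩
    rw [map_mul, mul_assoc, ← hall, hψ2, hψ1, map_inv, map_mul, mul_inv_rev]
    group

end Cfsg.Agent.Lib.E8Frame76
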