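import Cfsg.Agent.Lib.E8Frame76.AutCases
import Cfsg.Agent.Lib.Compute.AutFast

/-!
# The automorphism check in parts
-/

set_option autoImplicit false

namespace Cfsg.Agent.Lib.E8Frame76

open Cfsg.Agent.Lib.Compute

/-- A slice of the intertwiners, by the first level. -/
noncomputable def twinSlice (O : Ops) (a b : ℕ) (start len : ℕ) : List Lvl → List ℕ
  | [] => []
  | l :: ls =>
    ((l.orb.toList.drop start).take len).flatMap fun e =>
      forceNat (O.act O.one e.x) fun y =>
        bif pairFits O a b l.b y l.b y then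
          forceNat (O.mul O.one e.v) fun g' => twinsFrom O a b ls [(l.b, y)] g'
        else []

/-- All candidates for the third image are excluded or explained, for all cases with a given second one. -/
noncomputable def sliceCheck (w n : ℕ) (L : List Lvl) (A : AutCert) (T : List Tri) (cases : List AutCase)
    (Z : List ℕ) : Bool :=
  cases.all fun cs => forceNat (powC (permOps w n) A.x1.1 cs.k) fun a =>
    Z.all fun z => (A.words.any fun u => Nat.blt 0 n && !Nat.beq (wordPt w ⟨a, cs.y, z⟩ u 0) 0) ||
      zExplained (permOps w n) L T cs.conjs ⟨a, cs.y, z⟩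

theorem mem_twinSlice {O : Ops} {a b size : ℕ} {l : Lvl} {ls : List Lvl} {z : ℕ}
    (hz : z ∈ twins O a b (l :: ls)) : ∀ {count : ℕ}, l.orb.toList.length ≤ count * size →
      ∃ i < count, z ∈ twinSlice O a b (i * size) size (l :: ls) := by
  intro count hc
  simp only [twins, twinsFrom, List.mem_flatMap, List.all_nil, Bool.and_true] at hz
  obtain ⟨e, he, hz⟩ := hz
  obtain ⟨p, hp, rfl⟩ := List.getElem_of_mem he
  have hs : 0 < size := Nat.pos_of_ne_zero fun h => by rw [h, Nat.mul_zero] at hc; omega
  refine ⟨p / size, (Nat.div_lt_iff_lt_mul hs).2 (by omega), ?_⟩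
  simp only [twinSlice, List.mem_flatMap]
  refine ⟨l.orb.toList[p], ?_, hz⟩
  have h1 : p / size * size ≤ p := Nat.div_mul_le_self p size
  have h2 : p % size < size := Nat.mod_lt _ hs
  have h3 : p / size * size + p % size = p := by rw [Nat.mul_comm]; exact Nat.div_add_mod p size
  refine List.mem_iff_getElem.2 ⟨p % size, ?_, ?_⟩
  · simp only [List.length_take, List.length_drop]
    omega
  · simp only [List.getElem_take, List.getElem_drop, h3]

theorem zCheck_of_fast {w n : ℕ} (hn : n ≤ 2 ^ w) {L : List Lvl} {A : AutCert} {T : List Tri}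
    {conjs : List (List ℕ × ℕ)} {t : Tri}
    (h : ((A.words.any fun u => Nat.blt 0 n && !Nat.beq (wordPt w t u 0) 0) || zExplained (permOps w n) L T conjs t) = true) :
    zCheck (permOps w n) L A T conjs t = true := by
  simp only [zCheck, Bool.or_eq_true] at h ⊢
  rcases h with hu | hc
  · obtain ⟨u, hu, hm⟩ := List.any_eq_true.1 hu
    simp only [Bool.and_eq_true] at hm
    refine Or.inl (List.any_eq_true.2 ⟨u, hu, wordVal_ne_one hn ?_⟩)
    exact List.any_eq_true.2 ⟨0, List.mem_range.2 (by simpa [Nat.blt_eq] using hm.1), hm.2⟩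
  · refine Or.inr ?_
    obtain ⟨q, hq, hc⟩ := List.any_eq_true.1 hc
    refine List.any_eq_true.2 ⟨q, hq, ?_⟩
    cases hT : T[q.2]? with
    | none => simp [hT] at hc
    | some s => simpa [hT, forceNat_eq] using hc

/-- The cases sharing a second image and a chain, from slices. -/
theorem tailCheck_of_slices {w n : ℕ} (hn : n ≤ 2 ^ w) {S : List (ℕ × ℕ)} {L : List Lvl}
    {A : AutCert} {T : List Tri} {cases : List AutCase} {y : ℕ} {l : Lvl} {ls : List Lvl}
    {count size : ℕ} (hy : ∀ cs ∈ cases, cs.y = y ∧ cs.chain3 = l :: ls)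
    (hch : chainCheck (permOps w n) S (l :: ls) = true) (hlen : l.orb.toList.length ≤ count * size)
    (hs : ∀ i < count, sliceCheck w n L A T cases
      (twinSlice (permOps w n) y (powC (permOps w n) y A.l) (i * size) size (l :: ls)) = true) :
    ∀ cs ∈ cases, tailCheck (permOps w n) S L A T cs = true := by
  intro cs hcs
  obtain ⟨rfl, hc⟩ := hy cs hcs
  simp only [tailCheck, forceNat_eq, Bool.and_eq_true, List.all_eq_true]
  refine ⟨hc ▸ hch, fun z hz => ?_⟩
  rw [hc] at hz
  obtain ⟨i, hi, hzi⟩ := mem_twinSlice hz hlen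
  have h := hs i hi
  simp only [sliceCheck, forceNat_eq, List.all_eq_true] at h
  exact zCheck_of_fast hn (h cs hcs z hzi)

end Cfsg.Agent.Lib.E8Frame76
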