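import Cfsg.Agent.Lib.E8Frame76.Adm

/-!
# The group on the even masks cannot be transitive on the nonzero ones
-/

set_option autoImplicit false

namespace Cfsg.Agent.Lib.E8Frame76

open Cfsg.Agent.Lib.Compute

variable {H : Subgroup (Equiv.Perm (MV false))}

theorem MV.even (x : MV false) : evenMask x.1 = true := x.2.2.resolve_left (by decide)

theorem Adm.card_stab (A : Adm H) :
    Nat.card ↥(H ⊓ MulAction.stabilizer (Equiv.Perm (MV false)) (vtop : MV false)) = 1344 := by
  classical
  choose g hg hgx using fun k : Fin 1344 => A.exists_agl k.isLt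
  have hst : ∀ k : Fin 1344, g k ∈ H ⊓ MulAction.stabilizer (Equiv.Perm (MV false)) (vtop : MV false) :=
    fun k => ⟨hg k, Subtype.ext ((hgx k vtop).trans (aglAct_top k.isLt))⟩
  rw [← Nat.card_eq_of_bijective (fun k => (⟨g k, hst k⟩ :
    ↥(H ⊓ MulAction.stabilizer (Equiv.Perm (MV false)) (vtop : MV false))))]
  · simp
  constructor
  · intro k l e
    have e : g k = g l := congrArg Subtype.val e
    have hv : ∀ v, InU false v → aglAct k v = aglAct l v := fun v hv => by
      have := hgx k ⟨v, hv⟩
      rw [e, hgx l] at this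
      exact this.symm
    have hs := agl_slots
    simp only [List.all_eq_true, List.mem_range] at hs
    have h1 := Nat.eq_of_beq_eq_true (hs k k.isLt)
    have h2 := Nat.eq_of_beq_eq_true (hs l l.isLt)
    rw [hv 3 ⟨by omega, Or.inr (by decide +kernel)⟩, hv 5 ⟨by omega, Or.inr (by decide +kernel)⟩,
      hv 17 ⟨by omega, Or.inr (by decide +kernel)⟩, h2] at h1
    exact Fin.ext h1.symm
  · rintro ⟨h, hh, hfix⟩
    obtain ⟨k, hk, t, ht⟩ := A.stab h hh hfix
    refine ⟨⟨k, hk⟩, Subtype.ext (Equiv.ext fun x => Subtype.ext ?_)⟩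
    show (g ⟨k, hk⟩ x).1 = (h x).1
    rw [hgx, ht, twistM_even ((aglAct_even hk x.2.1).trans x.even)]

theorem Adm.not_transitive (A : Adm H) (htr : ∀ x : MV false, x ≠ vzero → x ∈ orbSet H) : False := by
  classical
  haveI : Fact (Nat.Prime 127) := ⟨by norm_num⟩
  have hmem : ∀ {h : Equiv.Perm (MV false)}, h ∈ H → ∀ {x}, x ≠ vzero → h x ≠ vzero := by
    intro h hh x hx e
    exact hx (h.injective (e.trans (A.map_zero hh).symm))
  have horb : Nat.card {y : MV false // ∃ h ∈ H, h vtop = y} = 127 := by
    have he : ∀ y : MV false, (∃ h ∈ H, h vtop = y) ↔ ¬ y = vzero := by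
      refine fun y => ⟨?_, htr y⟩
      rintro ⟨h, hh, rfl⟩
      exact hmem hh (fun e => absurd (congrArg Subtype.val e) (by decide))
    rw [Nat.card_congr (Equiv.subtypeEquivRight he)]
    haveI : Fintype (MV false) := Fintype.ofFinite _
    rw [Nat.card_eq_fintype_card, Fintype.card_subtype_compl, Fintype.card_subtype_eq,
      ← Nat.card_eq_fintype_card, natCard_MV]
    rfl
  have hH : Nat.card H = 127 * 1344 := by
    rw [← natCard_orbit_mul H vtop, horb, A.card_stab]
  obtain ⟨σ, hσ⟩ := exists_prime_orderOf_dvd_card' (G := H) 127 (hH ▸ dvd_mul_right 127 1344)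
  -- an element of order 127 moves every nonzero mask
  have hfree : ∀ x : MV false, x ≠ vzero → (σ : Equiv.Perm (MV false)) x ≠ x := by
    intro x hx e
    obtain ⟨h, hh, rfl⟩ := htr x hx
    have h1 : h⁻¹ * (σ : Equiv.Perm (MV false)) * h ∈
        H ⊓ MulAction.stabilizer (Equiv.Perm (MV false)) (vtop : MV false) := by
      refine ⟨H.mul_mem (H.mul_mem (H.inv_mem hh) σ.2) hh, ?_⟩
      show (h⁻¹ * (σ : Equiv.Perm (MV false)) * h) vtop = vtop
      simp [e]
    have h2 := orderOf_dvd_natCard (⟨_, h1⟩ :
      ↥(H ⊓ MulAction.stabilizer (Equiv.Perm (MV false)) (vtop : MV false)))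
    rw [A.card_stab, ← Subgroup.orderOf_coe] at h2
    change orderOf (h⁻¹ * (σ : Equiv.Perm (MV false)) * h) ∣ 1344 at h2
    have h3 : orderOf (h⁻¹ * (σ : Equiv.Perm (MV false)) * h) = 127 := by
      have hc := (SemiconjBy.orderOf_eq (x := (σ : Equiv.Perm (MV false)))
        (y := h⁻¹ * (σ : Equiv.Perm (MV false)) * h) h⁻¹ (by
          show h⁻¹ * (σ : Equiv.Perm (MV false)) = h⁻¹ * (σ : Equiv.Perm (MV false)) * h * h⁻¹
          group))
      rw [← hc, Subgroup.orderOf_coe, hσ]
    rw [h3] at h2
    norm_num at h2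
  let P : Sylow 127 H := Sylow.ofCard (Subgroup.zpowers σ) (by
    rw [Nat.card_zpowers, hσ, hH, Nat.factorization_mul (by norm_num) (by norm_num), Finsupp.add_apply,
      (show Nat.Prime 127 by norm_num).factorization_self,
      Nat.factorization_eq_zero_of_not_dvd (show ¬ 127 ∣ 1344 by norm_num), pow_one])
  set Z : Subgroup H := Subgroup.zpowers σ with hZ
  have hZcard : Nat.card Z = 127 := by rw [Nat.card_zpowers, hσ]
  -- the centraliser acts freely
  have hC : Nat.card ↥(Subgroup.centralizer (Z : Set H)) ≤ 127 := by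
    have hsub : ∀ c d : ↥(Subgroup.centralizer (Z : Set H)),
        ((c : H) : Equiv.Perm (MV false)) vtop = ((d : H) : Equiv.Perm (MV false)) vtop → c = d := by
      intro c d e
      have hc : ∀ n : ℕ, Commute ((c : H) : Equiv.Perm (MV false)) ((σ : Equiv.Perm (MV false)) ^ n) :=
        fun n => ((Commute.map (c.2 σ (Subgroup.mem_zpowers σ)).symm H.subtype).pow_right n)
      have hd : ∀ n : ℕ, Commute ((d : H) : Equiv.Perm (MV false)) ((σ : Equiv.Perm (MV false)) ^ n) :=
        fun n => ((Commute.map (d.2 σ (Subgroup.mem_zpowers σ)).symm H.subtype).pow_right n)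
      -- the powers of σ reach every nonzero mask
      have hinj : Function.Injective fun n : Fin 127 =>
          ((⟨((σ : Equiv.Perm (MV false)) ^ n.1) vtop,
            hmem (pow_mem σ.2 _) (fun e => absurd (congrArg Subtype.val e) (by decide))⟩ :
            {y : MV false // ¬ y = vzero})) := by
        intro m n hmn
        have hmn : ((σ : Equiv.Perm (MV false)) ^ m.1) vtop = ((σ : Equiv.Perm (MV false)) ^ n.1) vtop :=
          congrArg Subtype.val hmn
        by_contra hne
        wlog hlt : m.1 ≤ n.1 generalizing m n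
        · exact this (Subtype.ext hmn.symm) hmn.symm (Ne.symm hne) (by omega)
        obtain ⟨j, hj⟩ := Nat.le.dest hlt
        have hj0 : 0 < j ∧ j < 127 := by
          have : m.1 ≠ n.1 := fun e => hne (Fin.ext e)
          omega
        rw [← hj, pow_add, Equiv.Perm.mul_apply] at hmn
        have hfix : ((σ : Equiv.Perm (MV false)) ^ j) vtop = vtop := (((σ : Equiv.Perm (MV false)) ^ m.1).injective hmn).symm
        obtain ⟨u, -, hu⟩ := Nat.exists_mul_mod_eq_one_of_coprime
          ((show Nat.Prime 127 by norm_num).coprime_iff_not_dvd.2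
            (Nat.not_dvd_of_pos_of_lt hj0.1 hj0.2)).symm (by norm_num)
        refine hfree vtop (fun e => absurd (congrArg Subtype.val e) (by decide)) ?_
        have hone : (σ : Equiv.Perm (MV false)) = ((σ : Equiv.Perm (MV false)) ^ j) ^ u := by
          rw [← pow_mul, ← pow_mod_orderOf, Subgroup.orderOf_coe, hσ, hu, pow_one]
        rw [hone]
        exact Equiv.Perm.pow_apply_eq_self_of_apply_eq_self hfix u
      have hbij := (Nat.bijective_iff_injective_and_card _).2 ⟨hinj, by
        rw [Nat.card_fin]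
        haveI : Fintype (MV false) := Fintype.ofFinite _
        rw [Nat.card_eq_fintype_card, Fintype.card_subtype_compl, Fintype.card_subtype_eq,
          ← Nat.card_eq_fintype_card, natCard_MV]
        rfl⟩
      refine Subtype.ext (Subtype.ext (Equiv.ext fun x => ?_))
      by_cases hx : x = vzero
      · rw [hx, A.map_zero (c : H).2, A.map_zero (d : H).2]
      obtain ⟨n, hn⟩ := hbij.2 ⟨x, hx⟩
      have hn : ((σ : Equiv.Perm (MV false)) ^ n.1) vtop = x := congrArg Subtype.val hn
      rw [← hn, ← Equiv.Perm.mul_apply, ← Equiv.Perm.mul_apply, (hc n.1).eq, (hd n.1).eq,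
        Equiv.Perm.mul_apply, Equiv.Perm.mul_apply, e]
    refine (Nat.card_le_card_of_injective (fun c : ↥(Subgroup.centralizer (Z : Set H)) =>
      (⟨((c : H) : Equiv.Perm (MV false)) vtop, hmem (c : H).2
        (fun e => absurd (congrArg Subtype.val e) (by decide))⟩ : {y : MV false // ¬ y = vzero}))
      fun c d e => hsub c d (congrArg Subtype.val e)).trans ?_
    haveI : Fintype (MV false) := Fintype.ofFinite _
    rw [Nat.card_eq_fintype_card, Fintype.card_subtype_compl, Fintype.card_subtype_eq,
      ← Nat.card_eq_fintype_card, natCard_MV]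
    rfl
  haveI : IsCyclic Z := inferInstanceAs (IsCyclic (Subgroup.zpowers σ))
  have hCeq : Nat.card ↥(Subgroup.centralizer (Z : Set H)) = 127 := by
    refine le_antisymm hC (hZcard ▸ Subgroup.card_le_of_le ?_)
    intro z hz y hy
    exact congrArg Subtype.val ((IsMulCommutative.is_comm (M := Z)).comm ⟨y, hy⟩ ⟨z, hz⟩)
  have hker := Subgroup.card_mul_index Z.normalizerMonoidHom.ker
  rw [Subgroup.normalizerMonoidHom_ker, Nat.card_congr (Subgroup.subgroupOfEquivOfLe
    (Subgroup.centralizer_le_normalizer _)).toEquiv, hCeq, ← Subgroup.normalizerMonoidHom_ker,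
    Subgroup.index_ker] at hker
  have hm := Subgroup.card_subgroup_dvd_card Z.normalizerMonoidHom.range
  rw [IsCyclic.card_mulAut, hZcard, Nat.totient_prime (by norm_num)] at hm
  have hn := card_sylow_modEq_one 127 H
  rw [Sylow.card_eq_index_normalizer P] at hn
  have hidx := (Subgroup.normalizer (Z : Set H)).card_mul_index
  rw [← hker, hH] at hidx
  have hPZ : Subgroup.normalizer (P : Set H) = Subgroup.normalizer (Z : Set H) := rfl
  rw [hPZ] at hn
  generalize (Subgroup.normalizer (Z : Set H)).index = n at hn hidx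
  generalize Nat.card Z.normalizerMonoidHom.range = m at hm hidx
  have key : ∀ m < 127, m ∣ 126 → ∀ n ≤ 1344, m * n = 1344 → n % 127 ≠ 1 := by decide +kernel
  have hmn : m * n = 1344 := by
    rw [mul_assoc] at hidx
    exact Nat.eq_of_mul_eq_mul_left (by norm_num) hidx
  have hm0 : 0 < m := Nat.pos_of_ne_zero fun e => by simp [e] at hmn
  refine key m (Nat.lt_succ_of_le (Nat.le_of_dvd (by norm_num) hm)) hm n ?_ hmn hn
  calc n ≤ m * n := Nat.le_mul_of_pos_left _ hm0
    _ = 1344 := hmn

end Cfsg.Agent.Lib.E8Frame76
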