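import Cfsg.Agent.Lib.E8Frame76.Frames

/-!
# No conjugate of the central involution commutes with it: no outer involution
-/

set_option autoImplicit false

namespace Cfsg.Agent.Lib.E8Frame76

open Cfsg

variable {G : Type*} [Group G] [Finite G] {L : Subgroup G}

namespace Conf

variable (S : Conf L)

/-- The frame map of the subgroup. -/
noncomputable def Φ (x : MV false) : G := S.j (pW x)

theorem Φ_inj : Function.Injective S.Φ := S.j_inj.comp pW_inj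

theorem Φ_add (x y : MV false) : S.Φ (vadd x y) = S.Φ x * S.Φ y := by rw [Φ, Φ, Φ, pW_add, map_mul]

theorem Φ_top : S.Φ vtop = S.w := rfl

/-- The action of an element fixing the central involution on the even frame subgroup. -/
theorem frame_stab (hE : EvenActStmt) {h : G} (hw : Commute h S.w)
    (hn : ∀ x, ∃ y, h * S.Φ x * h⁻¹ = S.Φ y) :
    ∃ k < 1344, ∀ x : MV false, ∃ y : MV false, y.1 = aglAct k x.1 ∧ h * S.Φ x * h⁻¹ = S.Φ y := by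
  obtain ⟨xh, hx⟩ := S.exists_acts (S.mem_N.2 hw)
  have key : ∀ x y : MV false, h * S.Φ x * h⁻¹ = S.Φ y → xh * eW x.1 * xh⁻¹ = eW y.1 := by
    intro x y e
    let b : ↥WP := ⟨xh * eW x.1 * xh⁻¹, (conj_plus hx.1 _ (pW x).2).1⟩
    exact congrArg Subtype.val (S.j_inj ((hx.2 (pW x) b rfl).symm.trans e) : b = pW y)
  obtain ⟨k, hk, hkv⟩ := hE xh hx.1 fun v hv hev => by
    obtain ⟨y, hy⟩ := hn ⟨v, hv, Or.inr hev⟩
    exact ⟨y.1, y.2.1, y.even, key ⟨v, hv, Or.inr hev⟩ y hy⟩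
  refine ⟨k, hk, fun x => ?_⟩
  obtain ⟨y, hy⟩ := hn x
  exact ⟨y, eW_injective y.2.1 (aglAct_lt hk x.2.1)
    ((key x y hy).symm.trans (hkv x.1 x.2.1 x.even)), hy⟩

theorem commute_frame (hE : EvenActStmt) (hG : GenStmt) {h : G}
    (hn : ∀ x, ∃ y, h * S.Φ x * h⁻¹ = S.Φ y) : Commute h S.w := by
  refine commute_of_frame S.Φ S.Φ_inj S.Φ_add S.Φ_top (fun a ha han => ?_) (fun j hj => ?_) hn
  · obtain ⟨k, hk, hy⟩ := S.frame_stab hE ha han
    refine ⟨k, hk, false, fun x => ?_⟩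
    obtain ⟨y, h1, h2⟩ := hy x
    exact ⟨y, by rw [twistM_false]; exact h1, h2⟩
  · obtain ⟨g, hg, hgv⟩ := hG j hj
    refine ⟨S.j ⟨g, hg⟩, fun x => ?_⟩
    refine ⟨⟨genAct j x.1, (genAct_spec hj x.2.1).1,
      Or.inr ((genAct_spec hj x.2.1).2.trans x.even)⟩, rfl, ?_⟩
    exact (S.acts_j ⟨g, hg⟩).2 (pW x) (pW _) (hgv x.1 x.2.1).symm

theorem no_conj_one (hInv : InvStmt) (h128 : El128Stmt) (hF : FiveStmt) (hE : EvenActStmt)
    (hG : GenStmt) (hA5 : AglFiveStmt)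
    (hI : ∀ n : G, Commute n S.w → n ^ 2 = 1 → S.InLC n) {g : G}
    (hs : Commute (g * S.w * g⁻¹) S.w) : g * S.w * g⁻¹ = S.w := by
  by_contra hne
  have hsL := S.conj_mem hs (hI _ hs (by rw [conj_pow, S.w_pow_two, mul_one, mul_inv_cancel]))
  obtain ⟨a, ha⟩ := S.exists_j hsL
  have ha2 : a ^ 2 = 1 :=
    S.j_inj (by rw [map_pow, ha, map_one, conj_pow, S.w_pow_two, mul_one, mul_inv_cancel])
  obtain ⟨c, hc, v, hv, hcv⟩ := hInv a (plus_le a.2) (congrArg Subtype.val ha2)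
  have hev : evenMask v = true := (eW_mem_iff hv).1 (hcv ▸ mul_mem (mul_mem hc a.2) (inv_mem hc))
  set u : MV false := ⟨v, hv, Or.inr hev⟩ with hu
  set g1 := S.j ⟨c, hc⟩ * g with hg1
  have hg1s : g1 * S.w * g1⁻¹ = S.Φ u := by
    rw [hg1, show S.j ⟨c, hc⟩ * g * S.w * (S.j ⟨c, hc⟩ * g)⁻¹ =
      S.j ⟨c, hc⟩ * (g * S.w * g⁻¹) * (S.j ⟨c, hc⟩)⁻¹ by group, ← ha, ← map_inv, ← map_mul, ← map_mul]
    exact congrArg S.j (Subtype.ext hcv)
  have hu_ne : S.Φ u ≠ S.w := by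
    intro e
    refine hne ?_
    rw [← hg1s, hg1] at e
    have hcw : Commute (S.j ⟨c, hc⟩) S.w := (S.zW_central ⟨c, hc⟩).map S.j
    calc g * S.w * g⁻¹
        = (S.j ⟨c, hc⟩)⁻¹ * (S.j ⟨c, hc⟩ * g * S.w * (S.j ⟨c, hc⟩ * g)⁻¹) * S.j ⟨c, hc⟩ := by group
      _ = (S.j ⟨c, hc⟩)⁻¹ * (S.w * S.j ⟨c, hc⟩) := by rw [e, mul_assoc]
      _ = S.w := by rw [← hcw.eq, ← mul_assoc, inv_mul_cancel, one_mul]
  set A0 : Subgroup G := AP.map S.j with hA0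
  have hΦ : ∀ e ∈ A0, ∃ x, e = S.Φ x := by
    rintro _ ⟨p, ⟨w', hw', hpw⟩, rfl⟩
    have hev' : evenMask w' = true := (eW_mem_iff hw').1 (by rw [← hpw]; exact p.2)
    exact ⟨⟨w', hw', Or.inr hev'⟩, congrArg S.j (Subtype.ext hpw)⟩
  have hΦ' : ∀ x, S.Φ x ∈ A0 := fun x => ⟨pW x, eW_mem_AW x.2.1, rfl⟩
  set E : Subgroup G := A0.map (MulAut.conj g1⁻¹).toMonoidHom with hE'
  have hEmem : ∀ x, g1⁻¹ * S.Φ x * g1 ∈ E := fun x => ⟨S.Φ x, hΦ' x, by simp⟩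
  have hEex : ∀ e ∈ E, ∃ x, e = g1⁻¹ * S.Φ x * g1 := by
    rintro _ ⟨q, hq, rfl⟩
    obtain ⟨x, rfl⟩ := hΦ q hq
    exact ⟨x, by simp⟩
  have hE2 : ∀ e ∈ E, e ^ 2 = 1 := by
    rintro _ ⟨q, ⟨p, hp, rfl⟩, rfl⟩
    have h1 : p ^ 2 = 1 := Subtype.ext (AW_sq _ hp)
    rw [← map_pow, ← map_pow, h1, map_one, map_one]
  have hEc : ∀ e ∈ E, ∀ f ∈ E, Commute e f := by
    rintro _ ⟨q, ⟨p, hp, rfl⟩, rfl⟩ _ ⟨q', ⟨p', hp', rfl⟩, rfl⟩
    exact ((show Commute p p' from Subtype.ext (AW_comm _ hp _ hp').eq).map S.j).map _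
  have hwE : S.w ∈ E := by
    have := hEmem u
    rwa [← hg1s, show g1⁻¹ * (g1 * S.w * g1⁻¹) * g1 = S.w by group] at this
  have hEin : E ≤ S.LC := fun e he => hI e (hEc e he _ hwE) (hE2 e he)
  have hcard : 128 ≤ Nat.card E := by
    rw [hE', Subgroup.card_map_of_injective (MulAut.conj g1⁻¹).injective, hA0,
      Subgroup.card_map_of_injective S.j_inj]
    exact card_AP
  have hEL := S.le_of_elem hE2 hEc hEin hcard
  set F : Subgroup PR := (E.comap S.j).map WP.subtype with hF'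
  have hFcard : 128 ≤ Nat.card F := by
    rw [hF', Subgroup.card_map_of_injective WP.subtype_injective]
    refine hcard.trans (Nat.card_le_card_of_surjective (fun p : E.comap S.j => (⟨S.j p.1, p.2⟩ : E)) ?_)
    rintro ⟨e, he⟩
    obtain ⟨p, rfl⟩ := S.exists_j (hEL he)
    exact ⟨⟨p, he⟩, rfl⟩
  have hFel : IsElem F := by
    refine ⟨?_, ?_⟩
    · rintro _ ⟨p, hp, rfl⟩
      exact congrArg Subtype.val (S.j_inj (a₁ := p ^ 2) (a₂ := 1) (by rw [map_pow, hE2 _ hp, map_one]))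
    · rintro _ ⟨p, hp, rfl⟩ _ ⟨q, hq, rfl⟩
      exact congrArg Subtype.val (S.j_inj (a₁ := p * q) (a₂ := q * p) (by
        rw [map_mul, map_mul, (hEc _ hp _ hq).eq]))
  have hFle : F ≤ WP := by rintro _ ⟨p, -, rfl⟩; exact p.2
  have hFmem : ∀ p : ↥WP, (p : PR) ∈ F ↔ S.j p ∈ E :=
    fun p => ⟨fun ⟨q, hq, e⟩ => (Subtype.ext e : q = p) ▸ hq, fun h => ⟨p, h, rfl⟩⟩
  rcases h128 F hFle hFel hFcard with ⟨d, hd, hdF⟩ | ⟨d, hd, hdF⟩
  · -- the frame case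
    set g2 := S.j ⟨d, hd⟩ * g1⁻¹ with hg2
    have hn : ∀ x, ∃ y, g2 * S.Φ x * g2⁻¹ = S.Φ y := by
      intro x
      obtain ⟨p, hp⟩ := S.exists_j (hEL (hEmem x))
      obtain ⟨u', hu', hev', e⟩ := (hdF p).1 ((hFmem p).2 (hp ▸ hEmem x))
      refine ⟨⟨u', hu', Or.inr hev'⟩, ?_⟩
      rw [hg2, show S.j ⟨d, hd⟩ * g1⁻¹ * S.Φ x * (S.j ⟨d, hd⟩ * g1⁻¹)⁻¹ =
        S.j ⟨d, hd⟩ * (g1⁻¹ * S.Φ x * g1) * (S.j ⟨d, hd⟩)⁻¹ by group, ← hp, ← map_inv, ← map_mul, ← map_mul]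
      exact congrArg S.j (Subtype.ext e)
    have hc2 := S.commute_frame hE hG hn
    have hdw : Commute (S.j ⟨d, hd⟩) S.w := (S.zW_central ⟨d, hd⟩).map S.j
    have hg1w : Commute g1 S.w := by
      have h' : Commute g1⁻¹ S.w := by
        have := hdw.inv_left.mul_left hc2
        rwa [hg2, inv_mul_cancel_left] at this
      simpa using h'.inv_left
    exact hu_ne (hg1s.symm.trans (by rw [hg1w.eq, mul_inv_cancel_right]))
  · -- the sign subgroup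
    obtain ⟨f, hf, hf5, hfD, s0, hs0, hs0f⟩ := hF
    set q : ↥WP := ⟨d, hd⟩⁻¹ * ⟨f, hf⟩ * ⟨d, hd⟩ with hq
    set f' := g1 * S.j q * g1⁻¹ with hf'
    have hn : ∀ x, ∃ y, f' * S.Φ x * f'⁻¹ = S.Φ y := by
      intro x
      obtain ⟨p, hp⟩ := S.exists_j (hEL (hEmem x))
      obtain ⟨s, hs', e⟩ := (hdF p).1 ((hFmem p).2 (hp ▸ hEmem x))
      obtain ⟨t, ht, hst⟩ := hfD s hs'
      have hp' : S.j (q * p * q⁻¹) ∈ E := by
        refine (hFmem _).1 ((hdF _).2 ⟨t, ht, ?_⟩)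
        rw [← hst, ← e]
        show d * ((d⁻¹ * f * d) * (p : PR) * (d⁻¹ * f * d)⁻¹) * d⁻¹ = _
        group
      obtain ⟨y, hy⟩ := hEex _ hp'
      refine ⟨y, ?_⟩
      rw [map_mul, map_mul, map_inv, hp] at hy
      rw [hf', show g1 * S.j q * g1⁻¹ * S.Φ x * (g1 * S.j q * g1⁻¹)⁻¹ =
        g1 * (S.j q * (g1⁻¹ * S.Φ x * g1) * (S.j q)⁻¹) * g1⁻¹ by group, hy]
      group
    have hfw := S.commute_frame hE hG hn
    obtain ⟨k, hk, hkx⟩ := S.frame_stab hE hfw hn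
    have hiter : ∀ (i : ℕ) (x : MV false), ∃ y : MV false,
        y.1 = (aglAct k)^[i] x.1 ∧ f' ^ i * S.Φ x * (f' ^ i)⁻¹ = S.Φ y := by
      intro i
      induction i with
      | zero => exact fun x => ⟨x, rfl, by simp⟩
      | succ i ih =>
        intro x
        obtain ⟨y, hy, hye⟩ := ih x
        obtain ⟨z, hz, hze⟩ := hkx y
        refine ⟨z, by rw [Function.iterate_succ_apply', ← hy, hz], ?_⟩
        rw [pow_succ', show f' * f' ^ i * S.Φ x * (f' * f' ^ i)⁻¹ =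
          f' * (f' ^ i * S.Φ x * (f' ^ i)⁻¹) * f'⁻¹ by group, hye, hze]
    have hf'5 : f' ^ 5 = 1 := by
      have hq5 : q ^ 5 = 1 := by
        refine Subtype.ext ?_
        show (d⁻¹ * f * d) ^ 5 = 1
        rw [show d⁻¹ * f * d = d⁻¹ * f * (d⁻¹)⁻¹ by rw [inv_inv], conj_pow, hf5]
        group
      rw [hf', conj_pow, ← map_pow, hq5, map_one, mul_one, mul_inv_cancel]
    have htriv : ∀ v < 256, evenMask v = true → aglAct k v = v := by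
      refine hA5 k hk fun w' hw' hev' => ?_
      obtain ⟨y, hy, hye⟩ := hiter 5 ⟨w', hw', Or.inr hev'⟩
      rw [hf'5, one_mul, inv_one, mul_one] at hye
      exact hy.symm.trans (congrArg Subtype.val (S.Φ_inj hye)).symm
    refine hs0f ?_
    -- every element of the sign subgroup is fixed
    have hsP : d⁻¹ * sW s0 * d ∈ F := (hdF _).2 ⟨s0, hs0, by group⟩
    obtain ⟨p, hpE, hpe⟩ := hsP
    obtain ⟨x, hx⟩ := hEex _ hpE
    obtain ⟨y, hy, hye⟩ := hkx x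
    rw [show y = x from Subtype.ext (hy.trans (htriv x.1 x.2.1 x.even))] at hye
    have h1 : S.j q * S.j p * (S.j q)⁻¹ = S.j p := by
      rw [hx]
      calc S.j q * (g1⁻¹ * S.Φ x * g1) * (S.j q)⁻¹ = g1⁻¹ * (f' * S.Φ x * f'⁻¹) * g1 := by
            rw [hf']; group
        _ = _ := by rw [hye]
    rw [← map_inv, ← map_mul, ← map_mul] at h1
    have h2 : d⁻¹ * f * d * (p : PR) * (d⁻¹ * f * d)⁻¹ = (p : PR) := congrArg Subtype.val (S.j_inj h1)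
    change (p : PR) = d⁻¹ * sW s0 * d at hpe
    rw [hpe] at h2
    calc f * sW s0 * f⁻¹ = d * (d⁻¹ * f * d * (d⁻¹ * sW s0 * d) * (d⁻¹ * f * d)⁻¹) * d⁻¹ := by group
      _ = sW s0 := by rw [h2]; group

end Conf

end Cfsg.Agent.Lib.E8Frame76
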