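import Cfsg.Agent.Lib.E8Frame76.CaseI

/-!
# No conjugate of the central involution commutes with it: an outer involution
-/

set_option autoImplicit false

namespace Cfsg.Agent.Lib.E8Frame76

open Cfsg

variable {G : Type*} [Group G] [Finite G] {L : Subgroup G}

theorem eW_255_mem_WF : eW 255 ∈ WF := eW_mem (by omega)

/-- An extension of the embedding to the Weyl group. -/
structure Ext (S : Conf L) where
  ψ : ↥WF →* G
  inj : Function.Injective ψ
  on : ∀ a : ↥WP, ψ ⟨a, plus_le a.2⟩ = S.j a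
  acts : ∀ y : ↥WF, S.Acts (ψ y) y

namespace Conf

variable (S : Conf L)

theorem exists_ext {o : G} (ho2 : o ^ 2 = 1) (hoN : Commute o S.w) (ho : ¬ S.InLC o) :
    ∃ (P : Ext S) (x : ↥WF), P.ψ x = o ∧ x ^ 2 = 1 ∧ (x : PR) ∉ WP := by
  classical
  obtain ⟨x, hx⟩ := S.exists_acts (S.mem_N.2 hoN)
  have hxP : x ∉ WP := fun e => ho (S.inLC_of_acts hx e)
  have hx2 : x * x = 1 := by
    have h := S.acts_pow hx 2
    rw [ho2] at h
    rcases S.acts_eq h S.acts_one with e | e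
    · rwa [pow_two] at e
    · exact absurd (show x ^ 2 ^ 1 = eW 255 by rw [pow_one, e, one_mul]) (S.odd x hx.1 hxP 1)
  have hxinv : x⁻¹ = x := inv_eq_of_mul_eq_one_right hx2
  have hmem : ∀ y : ↥WF, (y : PR) ∉ WP → (y : PR) * x ∈ WP := fun y hy =>
    (mul_mem_plus_iff y.2 hx.1).2 (iff_of_false hy hxP)
  have hswap : ∀ b : ↥WP, o * S.j b = S.j ⟨x * b * x⁻¹, (conj_plus hx.1 _ b.2).1⟩ * o := fun b => by
    rw [← hx.2 b ⟨x * b * x⁻¹, (conj_plus hx.1 _ b.2).1⟩ rfl, inv_mul_cancel_right]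
  have hoo : o * o = 1 := by rw [← pow_two, ho2]
  let f : ↥WF → G := fun y =>
    if h : (y : PR) ∈ WP then S.j ⟨y, h⟩ else S.j ⟨y * x, hmem y h⟩ * o
  have f0 : ∀ (y : ↥WF) (b : ↥WP), (b : PR) = y → f y = S.j b := fun y b e => by
    have h : (y : PR) ∈ WP := e ▸ b.2
    simp only [f, dif_pos h]
    exact congrArg S.j (Subtype.ext e.symm)
  have f1 : ∀ (y : ↥WF) (b : ↥WP), (b : PR) = y * x → f y = S.j b * o := fun y b e => by
    have h : (y : PR) ∉ WP := fun hy => hxP ((Subgroup.mul_mem_cancel_left _ hy).1 (e ▸ b.2))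
    simp only [f, dif_neg h]
    exact congrArg (fun z => S.j z * o) (Subtype.ext e.symm)
  have key : ∀ y z, f (y * z) = f y * f z := by
    intro y z
    by_cases hy : (y : PR) ∈ WP <;> by_cases hz : (z : PR) ∈ WP
    · rw [f0 y ⟨y, hy⟩ rfl, f0 z ⟨z, hz⟩ rfl, ← map_mul]
      exact f0 _ _ rfl
    · rw [f0 y ⟨y, hy⟩ rfl, f1 z ⟨z * x, hmem z hz⟩ rfl, ← mul_assoc, ← map_mul]
      exact f1 _ _ (show (y : PR) * (z * x) = y * z * x by group)
    · rw [f1 y ⟨y * x, hmem y hy⟩ rfl, f0 z ⟨z, hz⟩ rfl, mul_assoc, hswap, ← mul_assoc, ← map_mul]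
      refine f1 _ _ ?_
      show (y : PR) * x * (x * z * x⁻¹) = y * z * x
      rw [hxinv, ← mul_assoc, ← mul_assoc, mul_assoc (y : PR) x x, hx2, mul_one]
    · rw [f1 y ⟨y * x, hmem y hy⟩ rfl, f1 z ⟨z * x, hmem z hz⟩ rfl, mul_assoc, ← mul_assoc o, hswap,
        mul_assoc (S.j _) o o, hoo, mul_one, ← map_mul]
      refine f0 _ _ ?_
      show (y : PR) * x * (x * (z * x) * x⁻¹) = y * z
      rw [mul_assoc (x : PR), mul_inv_cancel_right, ← mul_assoc, mul_assoc (y : PR) x x, hx2, mul_one]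
  let ψ : ↥WF →* G := MonoidHom.mk' f key
  have hacts : ∀ y : ↥WF, S.Acts (ψ y) y := by
    intro y
    show S.Acts (f y) y
    by_cases hy : (y : PR) ∈ WP
    · rw [f0 y ⟨y, hy⟩ rfl]
      exact S.acts_j _
    · rw [f1 y ⟨y * x, hmem y hy⟩ rfl]
      have := S.acts_mul (S.acts_j ⟨y * x, hmem y hy⟩) hx
      rwa [show (y : PR) * x * x = y by rw [mul_assoc, hx2, mul_one]] at this
  refine ⟨⟨ψ, (injective_iff_map_eq_one ψ).2 fun y hy => ?_, fun a => f0 _ a rfl, hacts⟩, ⟨x, hx.1⟩, ?_,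
    Subtype.ext (by rw [Subgroup.coe_pow, Subgroup.coe_one, pow_two]; exact hx2), hxP⟩
  · have h1 := hacts y
    rw [hy] at h1
    have hyP : (y : PR) ∈ WP := (S.inLC_iff h1).1 ⟨1, 1, one_mem _, by simp⟩
    have h2 : S.j ⟨y, hyP⟩ = 1 := (f0 y ⟨y, hyP⟩ rfl).symm.trans hy
    exact Subtype.ext (congrArg Subtype.val (S.j_inj (h2.trans (map_one _).symm)) : (y : PR) = 1)
  · show f ⟨x, hx.1⟩ = o
    rw [f1 ⟨x, hx.1⟩ 1 (show (1 : PR) = x * x from hx2.symm), map_one, one_mul]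

variable {S}

theorem ext_top (P : Ext S) : P.ψ (fW vtop) = S.w := P.on zW

theorem ext_conj (P : Ext S) (c : ↥WP) (y : ↥WF) :
    S.j c * P.ψ y * (S.j c)⁻¹ = P.ψ ⟨c * y * (c : PR)⁻¹, mul_mem (mul_mem (plus_le c.2) y.2) (inv_mem (plus_le c.2))⟩ := by
  rw [← P.on, ← map_inv, ← map_mul, ← map_mul]
  rfl

theorem mem_ext (P : Ext S) {a : ↥WP} : S.j a ∈ P.ψ.range := ⟨_, P.on a⟩

/-- The action of an element fixing the central involution on the frame subgroup. -/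
theorem frame_stab' (hE : FullActStmt) (P : Ext S) {h : G} (hw : Commute h S.w)
    (hn : ∀ x, ∃ y, h * P.ψ (fW x) * h⁻¹ = P.ψ (fW y)) :
    ∃ k < 1344, ∃ t : Bool, ∀ x : MV true, ∃ y : MV true,
      y.1 = twistM t (aglAct k x.1) ∧ h * P.ψ (fW x) * h⁻¹ = P.ψ (fW y) := by
  obtain ⟨xh, hx⟩ := S.exists_acts (S.mem_N.2 hw)
  choose π hπ using hn
  have key : ∀ x : MV true, xh * eW x.1 * xh⁻¹ = eW (π x).1 ∨ xh * eW x.1 * xh⁻¹ = eW ((π x).1 ^^^ 255) := by
    intro x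
    have h1 := S.acts_mul (S.acts_mul hx (P.acts (fW x))) (S.acts_inv hx)
    rw [hπ] at h1
    rcases S.acts_eq h1 (P.acts (fW (π x))) with e | e
    · exact Or.inl e
    · exact Or.inr (e.trans (eW_xor (π x).2.1 (show 255 < 256 by omega)).symm)
  have keyE : ∀ x : MV true, evenMask x.1 = true → xh * eW x.1 * xh⁻¹ = eW (π x).1 := by
    intro x hev
    let a : ↥WP := ⟨eW x.1, eW_mem_plus x.2.1 hev⟩
    let b : ↥WP := ⟨xh * eW x.1 * xh⁻¹, (conj_plus hx.1 _ a.2).1⟩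
    have e : P.ψ ⟨b, plus_le b.2⟩ = P.ψ (fW (π x)) := by
      rw [P.on, ← hπ, ← hx.2 a b rfl, ← P.on]
      rfl
    exact congrArg Subtype.val (P.inj e)
  obtain ⟨k, hk, hkv⟩ := hE xh hx.1 fun v hv => by
    rcases key ⟨v, hv, Or.inl rfl⟩ with e | e
    · exact ⟨_, (π _).2.1, e⟩
    · exact ⟨_, xorM_lt (π _).2.1 (by omega), e⟩
  have heven : ∀ x : MV true, evenMask x.1 = true → (π x).1 = aglAct k x.1 := fun x hev =>
    eW_injective (π x).2.1 (aglAct_lt hk x.2.1) ((keyE x hev).symm.trans (hkv x.1 x.2.1))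
  let p1 : MV true := ⟨1, by omega, Or.inl rfl⟩
  obtain ⟨t, ht⟩ : ∃ t : Bool, (π p1).1 = twistM t (aglAct k 1) := by
    have hodd : evenMask (aglAct k 1) = false := by
      rw [aglAct_even hk (by omega)]; decide +kernel
    rcases key p1 with e | e
    · refine ⟨false, ?_⟩
      rw [twistM_false]
      exact eW_injective (π p1).2.1 (aglAct_lt (v := 1) hk (by omega))
        (e.symm.trans (hkv 1 (by omega)))
    · refine ⟨true, ?_⟩
      have e' := eW_injective (xorM_lt (π p1).2.1 (by omega)) (aglAct_lt (v := 1) hk (by omega))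
        (e.symm.trans (hkv 1 (by omega)))
      rw [show twistM true (aglAct k 1) = aglAct k 1 ^^^ 255 by simp [twistM, hodd], ← e',
        Nat.xor_assoc, Nat.xor_self, Nat.xor_zero]
  refine ⟨k, hk, t, fun x => ⟨π x, ?_, hπ x⟩⟩
  cases hev : evenMask x.1 with
  | true => rw [heven x hev, twistM_even ((aglAct_even hk x.2.1).trans hev)]
  | false =>
    let x' : MV true := ⟨x.1 ^^^ 1, xorM_lt x.2.1 (by omega), Or.inl rfl⟩
    have hev' : evenMask (x.1 ^^^ 1) = true := by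
      rw [show (1 : ℕ) = 2 ^ 0 from rfl, evenMask_flip x.2.1 (by omega), hev]; rfl
    have hxx : x = vadd x' p1 := Subtype.ext (by
      show x.1 = x.1 ^^^ 1 ^^^ 1
      rw [Nat.xor_assoc, Nat.xor_self, Nat.xor_zero])
    have e : π x = vadd (π x') (π p1) := by
      refine fW_inj (P.inj ?_)
      rw [← hπ, fW_add, map_mul, ← hπ, ← hπ]
      conv_lhs => rw [hxx, fW_add, map_mul]
      group
    rw [e]
    show (π x').1 ^^^ (π p1).1 = _
    rw [heven x' hev', ht]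
    show aglAct k (x.1 ^^^ 1) ^^^ twistM t (aglAct k 1) = _
    have hoddx : evenMask (aglAct k x.1) = false := (aglAct_even hk x.2.1).trans hev
    have hodd1 : evenMask (aglAct k 1) = false := by
      rw [aglAct_even hk (by omega)]; decide +kernel
    rw [aglAct_add]
    cases t
    · rw [twistM_false, twistM_false, Nat.xor_assoc, Nat.xor_self, Nat.xor_zero]
    · rw [show twistM true (aglAct k 1) = aglAct k 1 ^^^ 255 by simp [twistM, hodd1],
        show twistM true (aglAct k x.1) = aglAct k x.1 ^^^ 255 by simp [twistM, hoddx],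
        Nat.xor_assoc, ← Nat.xor_assoc (aglAct k 1) (aglAct k 1) 255, Nat.xor_self, Nat.zero_xor]

theorem commute_frame' (hE : FullActStmt) (hG : GenStmt) (P : Ext S) {h : G}
    (hn : ∀ x, ∃ y, h * P.ψ (fW x) * h⁻¹ = P.ψ (fW y)) : Commute h S.w := by
  refine commute_of_frame (fun x => P.ψ (fW x)) (P.inj.comp fW_inj)
    (fun x y => by show P.ψ _ = _; rw [fW_add, map_mul]) (ext_top P)
    (fun a ha han => frame_stab' hE P ha han) (fun j hj => ?_) hn
  obtain ⟨g, hg, hgv⟩ := hG j hj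
  refine ⟨S.j ⟨g, hg⟩, fun x => ⟨⟨genAct j x.1, (genAct_spec hj x.2.1).1, Or.inl rfl⟩, rfl, ?_⟩⟩
  rw [ext_conj]
  exact congrArg P.ψ (Subtype.ext (hgv x.1 x.2.1))

theorem no_conj_two (hInv : InvStmt) (h256 : El256Stmt) (hE : FullActStmt) (hG : GenStmt)
    {o : G} (ho2 : o ^ 2 = 1) (hoN : Commute o S.w) (ho : ¬ S.InLC o) {g : G}
    (hs : Commute (g * S.w * g⁻¹) S.w) : g * S.w * g⁻¹ = S.w := by
  by_contra hne
  have hs2 : (g * S.w * g⁻¹) ^ 2 = 1 := by rw [conj_pow, S.w_pow_two, mul_one, mul_inv_cancel]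
  obtain ⟨P, y, hy, hy2⟩ : ∃ (P : Ext S) (y : ↥WF), P.ψ y = g * S.w * g⁻¹ ∧ y ^ 2 = 1 := by
    by_cases hin : S.InLC (g * S.w * g⁻¹)
    · obtain ⟨a, ha⟩ := S.exists_j (S.conj_mem hs hin)
      obtain ⟨P, -, -, -, -⟩ := S.exists_ext ho2 hoN ho
      have ha2 : a ^ 2 = 1 := S.j_inj (by rw [map_pow, ha, map_one, hs2])
      exact ⟨P, ⟨a, plus_le a.2⟩, (P.on a).trans ha,
        Subtype.ext (show (a : PR) ^ 2 = 1 from congrArg Subtype.val ha2)⟩
    · obtain ⟨P, x, hx, hx2, -⟩ := S.exists_ext hs2 hs hin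
      exact ⟨P, x, hx, hx2⟩
  obtain ⟨c, hc, v, hv, hcv⟩ := hInv y y.2 (congrArg Subtype.val hy2)
  set u : MV true := ⟨v, hv, Or.inl rfl⟩ with hu
  set g1 := S.j ⟨c, hc⟩ * g with hg1
  have hg1s : g1 * S.w * g1⁻¹ = P.ψ (fW u) := by
    rw [hg1, show S.j ⟨c, hc⟩ * g * S.w * (S.j ⟨c, hc⟩ * g)⁻¹ =
      S.j ⟨c, hc⟩ * (g * S.w * g⁻¹) * (S.j ⟨c, hc⟩)⁻¹ by group, ← hy, ext_conj]
    exact congrArg P.ψ (Subtype.ext hcv)
  have hu_ne : P.ψ (fW u) ≠ S.w := by
    intro e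
    refine hne ?_
    rw [← hg1s, hg1] at e
    have hcw : Commute (S.j ⟨c, hc⟩) S.w := (S.zW_central ⟨c, hc⟩).map S.j
    calc g * S.w * g⁻¹
        = (S.j ⟨c, hc⟩)⁻¹ * (S.j ⟨c, hc⟩ * g * S.w * (S.j ⟨c, hc⟩ * g)⁻¹) * S.j ⟨c, hc⟩ := by group
      _ = (S.j ⟨c, hc⟩)⁻¹ * (S.w * S.j ⟨c, hc⟩) := by rw [e, mul_assoc]
      _ = S.w := by rw [← hcw.eq, ← mul_assoc, inv_mul_cancel, one_mul]
  set A : Subgroup G := (AW.subgroupOf WF).map P.ψ with hA
  set E : Subgroup G := A.map (MulAut.conj g1⁻¹).toMonoidHom with hEdef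
  have hEmem : ∀ x, g1⁻¹ * P.ψ (fW x) * g1 ∈ E := fun x =>
    ⟨P.ψ (fW x), ⟨fW x, eW_mem_AW x.2.1, rfl⟩, by simp⟩
  have hE2 : ∀ e ∈ E, e ^ 2 = 1 := by
    rintro _ ⟨q, ⟨p, hp, rfl⟩, rfl⟩
    have h1 : p ^ 2 = 1 := Subtype.ext (AW_sq _ hp)
    rw [← map_pow, ← map_pow, h1, map_one, map_one]
  have hEc : ∀ e ∈ E, ∀ f ∈ E, Commute e f := by
    rintro _ ⟨q, ⟨p, hp, rfl⟩, rfl⟩ _ ⟨q', ⟨p', hp', rfl⟩, rfl⟩
    exact ((show Commute p p' from Subtype.ext (AW_comm _ hp _ hp').eq).map P.ψ).map _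
  have hwE : S.w ∈ E := by
    have := hEmem u
    rwa [← hg1s, show g1⁻¹ * (g1 * S.w * g1⁻¹) * g1 = S.w by group] at this
  have hEN : ∀ e ∈ E, Commute e S.w := fun e he => hEc e he _ hwE
  have hcard : 256 ≤ Nat.card E := by
    rw [hEdef, Subgroup.card_map_of_injective (MulAut.conj g1⁻¹).injective, hA,
      Subgroup.card_map_of_injective P.inj, Nat.card_congr (Subgroup.subgroupOfEquivOfLe AW_le).toEquiv]
    exact card_AW
  -- the part in the product with the centraliser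
  have hhalf : 128 ≤ Nat.card ↥(E ⊓ S.LC) := by
    classical
    by_cases hall : ∀ e ∈ E, S.InLC e
    · rw [inf_eq_left.2 (show E ≤ S.LC from hall)]
      omega
    simp only [not_forall] at hall
    obtain ⟨e, he, hein⟩ := hall
    let f : ↥(E ⊓ S.LC) × Bool → ↥E := fun p => ⟨p.1.1 * (if p.2 then e else 1), mul_mem p.1.2.1 (by
      split <;> [exact he; exact one_mem E])⟩
    have hf : Function.Surjective f := by
      rintro ⟨q, hq⟩
      by_cases hqin : S.InLC q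
      · exact ⟨(⟨q, hq, hqin⟩, false), Subtype.ext (by simp [f])⟩
      · refine ⟨(⟨q * e, mul_mem hq he, S.outer_mul (S.mem_N.2 (hEN q hq)) (S.mem_N.2 (hEN e he)) hqin hein⟩,
          true), Subtype.ext ?_⟩
        have he' : e * e = 1 := by rw [← pow_two]; exact hE2 e he
        simp [f, mul_assoc, he']
    have := Nat.card_le_card_of_surjective f hf
    rw [Nat.card_prod, Nat.card_eq_fintype_card (α := Bool), Fintype.card_bool] at this
    omega
  have hEL : E ⊓ S.LC ≤ L :=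
    S.le_of_elem (fun e he => hE2 e he.1) (fun e he f hf => hEc e he.1 f hf.1) inf_le_right hhalf
  -- an outer involution in the conjugate
  obtain ⟨e0, he0, he0in⟩ : ∃ e ∈ E, ¬ S.InLC e := by
    by_contra hcon
    simp only [not_exists, not_and, not_not] at hcon
    have hsub : E ≤ L := fun e he => hEL ⟨he, hcon e he⟩
    set F : Subgroup PR := (E.comap S.j).map WP.subtype with hF'
    have hFcard : 256 ≤ Nat.card F := by
      rw [hF', Subgroup.card_map_of_injective WP.subtype_injective]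
      refine hcard.trans (Nat.card_le_card_of_surjective (fun p : E.comap S.j => (⟨S.j p.1, p.2⟩ : E)) ?_)
      rintro ⟨e, he⟩
      obtain ⟨p, rfl⟩ := S.exists_j (hsub he)
      exact ⟨⟨p, he⟩, rfl⟩
    have hFel : IsElem F := by
      refine ⟨?_, ?_⟩
      · rintro _ ⟨p, hp, rfl⟩
        exact congrArg Subtype.val (S.j_inj (a₁ := p ^ 2) (a₂ := 1) (by rw [map_pow, hE2 _ hp, map_one]))
      · rintro _ ⟨p, hp, rfl⟩ _ ⟨q, hq, rfl⟩
        exact congrArg Subtype.val (S.j_inj (a₁ := p * q) (a₂ := q * p) (by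
          rw [map_mul, map_mul, (hEc _ hp _ hq).eq]))
    obtain ⟨d, hd, hdF⟩ := h256 F (by rintro _ ⟨p, -, rfl⟩; exact plus_le p.2) hFel hFcard
    have h1 : d⁻¹ * eW 1 * d ∈ F := (hdF _).2 ⟨1, by omega, by group⟩
    obtain ⟨p, -, hp⟩ := h1
    change (p : PR) = d⁻¹ * eW 1 * d at hp
    apply eW_one_not_mem
    have := mul_mem (mul_mem hd p.2) (inv_mem hd)
    rwa [hp, show d * (d⁻¹ * eW 1 * d) * d⁻¹ = eW 1 by group] at this
  obtain ⟨Q, x', hx', -, -⟩ := S.exists_ext (hE2 e0 he0) (hEN e0 he0) he0in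
  have hrange : ∀ e ∈ E, e ∈ Q.ψ.range := by
    intro e he
    by_cases hein : S.InLC e
    · obtain ⟨p, rfl⟩ := S.exists_j (hEL ⟨he, hein⟩)
      exact mem_ext Q
    · obtain ⟨p, hp⟩ := S.exists_j
        (hEL ⟨mul_mem he he0, S.outer_mul (S.mem_N.2 (hEN e he)) (S.mem_N.2 (hEN e0 he0)) hein he0in⟩)
      have he' : e = S.j p * e0 := by
        rw [hp, mul_assoc, ← pow_two, hE2 e0 he0, mul_one]
      rw [he', ← hx']
      exact mul_mem (mem_ext Q) ⟨x', rfl⟩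
  set EW : Subgroup PR := (E.comap Q.ψ).map WF.subtype with hEW
  have hEWcard : 256 ≤ Nat.card EW := by
    rw [hEW, Subgroup.card_map_of_injective WF.subtype_injective]
    refine hcard.trans (Nat.card_le_card_of_surjective (fun p : E.comap Q.ψ => (⟨Q.ψ p.1, p.2⟩ : E)) ?_)
    rintro ⟨e, he⟩
    obtain ⟨p, rfl⟩ := hrange e he
    exact ⟨⟨p, he⟩, rfl⟩
  have hEWel : IsElem EW := by
    refine ⟨?_, ?_⟩
    · rintro _ ⟨p, hp, rfl⟩
      exact congrArg Subtype.val (Q.inj (a₁ := p ^ 2) (a₂ := 1) (by rw [map_pow, hE2 _ hp, map_one]))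
    · rintro _ ⟨p, hp, rfl⟩ _ ⟨q, hq, rfl⟩
      exact congrArg Subtype.val (Q.inj (a₁ := p * q) (a₂ := q * p) (by
        rw [map_mul, map_mul, (hEc _ hp _ hq).eq]))
  obtain ⟨d, hd, hdE⟩ := h256 EW (by rintro _ ⟨p, -, rfl⟩; exact p.2) hEWel hEWcard
  set g2 := S.j ⟨d, hd⟩ * g1⁻¹ with hg2
  -- `g2` carries one frame onto the other
  have hto : ∀ x, ∃ y, g2 * P.ψ (fW x) * g2⁻¹ = Q.ψ (fW y) := by
    intro x
    obtain ⟨p, hp⟩ := hrange _ (hEmem x)
    obtain ⟨u', hu', e⟩ := (hdE p).1 ⟨p, show Q.ψ p ∈ E from hp ▸ hEmem x, rfl⟩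
    refine ⟨⟨u', hu', Or.inl rfl⟩, ?_⟩
    rw [hg2, show S.j ⟨d, hd⟩ * g1⁻¹ * P.ψ (fW x) * (S.j ⟨d, hd⟩ * g1⁻¹)⁻¹ =
      S.j ⟨d, hd⟩ * (g1⁻¹ * P.ψ (fW x) * g1) * (S.j ⟨d, hd⟩)⁻¹ by group, ← hp, ext_conj]
    exact congrArg Q.ψ (Subtype.ext e)
  choose τ hτ using hto
  have hτinj : Function.Injective τ := fun a b e => fW_inj (P.inj
    (mul_left_cancel (mul_right_cancel ((hτ a).trans ((congrArg (fun z => Q.ψ (fW z)) e).trans (hτ b).symm)))))
  have hτsurj : Function.Surjective τ := Finite.injective_iff_surjective.1 hτinj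
  have hg2w : g2 * P.ψ (fW u) * g2⁻¹ = S.w := by
    rw [← hg1s, hg2]
    have hdw : Commute (S.j ⟨d, hd⟩) S.w := (S.zW_central ⟨d, hd⟩).map S.j
    calc S.j ⟨d, hd⟩ * g1⁻¹ * (g1 * S.w * g1⁻¹) * (S.j ⟨d, hd⟩ * g1⁻¹)⁻¹
        = S.j ⟨d, hd⟩ * S.w * (S.j ⟨d, hd⟩)⁻¹ := by group
      _ = S.w := by rw [hdw.eq, mul_inv_cancel_right]
  -- the affine group fixes the mask
  have hfix : ∀ j < 2, genAct j v = v := by
    intro j hj
    obtain ⟨γ, hγ, hγv⟩ := hG j hj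
    set T := S.j ⟨γ, hγ⟩ with hT
    have hTx : ∀ x : MV true, T * P.ψ (fW x) * T⁻¹ =
        P.ψ (fW ⟨genAct j x.1, (genAct_spec hj x.2.1).1, Or.inl rfl⟩) := fun x => by
      rw [hT, ext_conj]
      exact congrArg P.ψ (Subtype.ext (hγv x.1 x.2.1))
    have hn : ∀ z, ∃ y, g2 * T * g2⁻¹ * Q.ψ (fW z) * (g2 * T * g2⁻¹)⁻¹ = Q.ψ (fW y) := by
      intro z
      obtain ⟨x, rfl⟩ := hτsurj z
      refine ⟨τ ⟨genAct j x.1, (genAct_spec hj x.2.1).1, Or.inl rfl⟩, ?_⟩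
      rw [← hτ, ← hτ, ← hTx]
      group
    have h := commute_frame' hE hG Q hn
    have h' : T * P.ψ (fW u) * T⁻¹ = P.ψ (fW u) := by
      have hw' : P.ψ (fW u) = g2⁻¹ * S.w * g2 := by rw [← hg2w]; group
      rw [hw']
      calc T * (g2⁻¹ * S.w * g2) * T⁻¹
          = g2⁻¹ * (g2 * T * g2⁻¹ * S.w * (g2 * T * g2⁻¹)⁻¹) * g2 := by group
        _ = g2⁻¹ * S.w * g2 := by rw [h.eq, mul_inv_cancel_right]
    exact congrArg Subtype.val (fW_inj (P.inj ((hTx u).symm.trans h')))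
  rcases fixed_by_gens v hv (hfix 0 (by omega)) (hfix 1 (by omega)) with h0 | h255
  · apply S.w_ne
    have h1 : fW u = 1 := Subtype.ext (show eW v = 1 by rw [h0, eW_zero])
    rw [h1, map_one] at hg1s
    exact conj_eq_one_iff.1 hg1s
  · apply hu_ne
    rw [show u = vtop from Subtype.ext h255]
    exact ext_top P

end Conf

end Cfsg.Agent.Lib.E8Frame76
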