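import Cfsg.Agent.Lib.E8Frame76.CheckAgl
import Cfsg.Agent.Lib.Compute.Twin

/-! Further kernel checks for the orbit argument. -/

set_option autoImplicit false
set_option maxRecDepth 20000

namespace Cfsg.Agent.Lib.E8Frame76

open Cfsg.Agent.Lib.Compute

theorem drop_bit : ∀ v < 256, v ≠ 0 → ∃ i < 8, Nat.xor v (2 ^ i) < v := by decide +kernel

theorem even_flip : ((List.range 256).all fun v => (List.range 8).all fun i =>
    evenMask (Nat.xor v (2 ^ i)) == !evenMask v) = true := by decide +kernel

theorem v_count : (List.range 256).countP evenMask = 128 := by decide +kernel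

/-- The position of a single bit. -/
noncomputable def bitPos (v : ℕ) : ℕ :=
  (List.range 8).foldl (fun r i => bif v.testBit i then i else r) 0

/-- The slot of an affine permutation, from the images of three pairs of points. -/
noncomputable def slotOf (a b c : ℕ) : ℕ :=
  forceNat (Nat.land a b) fun p =>
    Nat.add (bitPos p) (Nat.add (Nat.mul 8 (bitPos (Nat.xor a p)))
      (Nat.add (Nat.mul 64 (bitPos (Nat.xor b p))) (Nat.mul 512 (bitPos (Nat.xor c p)))))

theorem agl_slots : ((List.range 1344).all fun k =>
    Nat.beq (getP 11 aglSlots (slotOf (aglAct k 3) (aglAct k 5) (aglAct k 17))) k) = true := by decide +kernel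

theorem twist_ok : ((List.range 256).all fun v => Nat.blt (twistM true v) 256 &&
    Nat.beq (twistM true (twistM true v)) v) = true := by decide +kernel

/-- The translations by the eight labels. -/
noncomputable def transIdx : List ℕ := [0,494,1305,419,505,390,341,1199]

/-- An element fixing four points. -/
noncomputable def axisIdx : ℕ := 974

theorem trans_spec : ((List.range 8).all fun a => forceNat (transIdx.getD a 0) fun k => Nat.blt k 1344 &&
    Nat.beq (aglAct k 255) 255 &&
    [(0, 170), (1, 204), (2, 240)].all (fun q =>
      Nat.beq (aglAct k q.2) (bif Nat.beq (Nat.mod (Nat.div a (2 ^ q.1)) 2) 1 then Nat.xor q.2 255 else q.2))) =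
    true := by decide +kernel

theorem axis_spec : (Nat.blt axisIdx 1344 && Nat.beq (aglAct axisIdx 170) 170 &&
    Nat.beq (aglAct axisIdx 255) 255 && Nat.beq (aglAct axisIdx 240) 240 &&
    Nat.beq (aglAct axisIdx 204) (Nat.xor 204 170)) = true := by decide +kernel

theorem plane_fix : ((List.range 1344).all fun k => Nat.beq k 0 ||
    [170, 204, 240].any fun v => !Nat.beq (aglAct k v) v) = true := by decide +kernel

theorem plane_span : ((List.range 256).all fun v => !inOpt 528 v ||
    [0, 255].any fun a => [0, 170].any fun b => [0, 204].any fun c => [0, 240].any fun d =>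
      Nat.beq v (Nat.xor a (Nat.xor b (Nat.xor c d)))) = true := by decide +kernel

/-- Number of fixed masks. -/
noncomputable def fixMasks (b : Bool) (f : ℕ → ℕ) : ℕ :=
  (List.range 256).countP fun v => (b || evenMask v) && Nat.beq (f v) v

theorem fix_differ : ([true, false].all fun b => [true, false].all fun t => (List.range 8).all fun a =>
    Nat.beq a 0 || forceNat (transIdx.getD a 0) fun k =>
      !Nat.beq (fixMasks b (aglAct k)) (fixMasks b fun v => twistM t (aglAct axisIdx v))) = true := by
  decide +kernel

theorem small_sums : ((List.range 8).all fun a => (List.range 8).all fun b => (List.range 8).all fun c =>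
    forceNat (2 ^ a) fun x => forceNat (2 ^ b) fun y => forceNat (2 ^ c) fun z =>
      Nat.beq a 0 || Nat.beq b 0 || Nat.beq c 0 ||
      ([0, 1, 254, 255].all (fun v => !Nat.beq x v) &&
        (Nat.beq a b || [0, 1, 254, 255].all (fun v => !Nat.beq (Nat.xor x y) v)) &&
        (Nat.beq a b || Nat.beq a c || Nat.beq b c ||
          [0, 1, 254, 255].all (fun v => !Nat.beq (Nat.xor x (Nat.xor y z)) v)))) = true := by
  decide +kernel

theorem e1_orbit : ((List.range 256).all fun v => (pointStab.any fun k => Nat.beq (aglAct k 2) v) ==
    (List.range 8).any fun i => !Nat.beq i 0 && Nat.beq v (2 ^ i)) = true := by decide +kernel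

theorem orbit_small : ((List.range 256).all fun u => forceNat (classOf u) fun c =>
    forceNat (classOf (twistM true u)) fun c' =>
      Nat.beq c 1 || Nat.beq c 8 || Nat.beq c 0 || Nat.beq c 9 ||
      ([Nat.pow 2 c, Nat.lor (Nat.pow 2 c) (Nat.pow 2 c')].all fun M =>
        forceNat ((List.range 256).countP (inOpt M)) fun n => !Nat.beq n 8 && !Nat.beq n 16)) = true := by
  decide +kernel

theorem orbit_one : ((List.range 256).countP (inOpt 2) = 8 ∧ (List.range 256).countP (inOpt 258) = 16) := by
  decide +kernel

/-- The two critical maps. -/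
noncomputable def tauMap (c : ℕ) : ℕ → ℕ :=
  linExt fun i => bif Nat.beq i 0 then (bif Nat.beq c 0 then 255 else 254) else Nat.xor (2 ^ i) c

/-- The critical word. -/
noncomputable def tauWord (c : ℕ) (v : ℕ) : ℕ :=
  let h := tauMap c
  let t := aglAct (transIdx.getD 1 0)
  bif Nat.beq c 0 then h (t (h (t (h v)))) else h (t (h (h (t (h v)))))

theorem tau_word : ([0, 1].all fun c => Nat.beq (tauWord c 255) 255 &&
    (List.range 1344).all fun k => [true, false].all fun t => (List.range 8).any fun i =>
      !Nat.beq (tauWord c (2 ^ i)) (twistM t (aglAct k (2 ^ i)))) = true := by decide +kernel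

end Cfsg.Agent.Lib.E8Frame76
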