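import Cfsg.Agent.Lib.E8Frame76.Defs
import Cfsg.Agent.Lib.E8Frame76.DataPlus
import Cfsg.Agent.Lib.E8Frame76.CheckOrbit

/-! Kernel checks: how the fixed points recognise reflections, pairs and planes. -/

set_option autoImplicit false
set_option maxRecDepth 20000

namespace Cfsg.Agent.Lib.E8Frame76

open Cfsg.Agent.Lib.Compute

/-- Sum of the labels of a mask. -/
noncomputable def labOf (v : ℕ) : ℕ := linExt (fun i => i) v

/-- The mask is a pair of points. -/
noncomputable def isPair (v : ℕ) : Bool := Nat.beq (classOf v) 2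

theorem fix_class : ((List.range 256).all fun v =>
    forceNat (fixCode (eCode v)) fun n => forceNat (classOf v) fun c =>
      (Nat.beq n 126 == Nat.beq c 1) &&
      ((Nat.beq n 60 && evenMask v) == Nat.beq c 2) &&
      (!(Nat.beq n 24 && evenMask v) || Nat.beq (labOf v) 0) &&
      (!Nat.beq c 1 || Nat.beq v (Nat.pow 2 (bitPos v))) &&
      (!Nat.beq c 2 || forceNat (bitPos v) fun b => forceNat (bitPos (Nat.xor v (Nat.pow 2 b))) fun a =>
        !Nat.beq a b && Nat.beq v (Nat.xor (Nat.pow 2 a) (Nat.pow 2 b)))) = true := by decide +kernel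

theorem single_class : ((List.range 8).all fun i => Nat.beq (classOf (2 ^ i)) 1) = true := by
  decide +kernel

theorem pair_class : ((List.range 8).all fun a => (List.range 8).all fun b =>
    Nat.beq a b || (Nat.beq (classOf (Nat.xor (2 ^ a) (2 ^ b))) 2 &&
      evenMask (Nat.xor (2 ^ a) (2 ^ b)))) = true := by decide +kernel

theorem plane_count : ([15, 51, 85, 150].all fun v =>
    Nat.beq (fixCode (eCode v)) 24 && evenMask v) = true := by decide +kernel

theorem star_ok : ((List.range 8).all fun a => (List.range 8).all fun b => (List.range 8).all fun c =>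
    (List.range 8).all fun p => (List.range 8).all fun q =>
      Nat.beq a b || Nat.beq a c || Nat.beq b c || Nat.beq p q ||
      Nat.beq p a || Nat.beq q a ||
      !isPair (Nat.xor (Nat.xor (2 ^ p) (2 ^ q)) (Nat.xor (2 ^ a) (2 ^ b))) ||
      !isPair (Nat.xor (Nat.xor (2 ^ p) (2 ^ q)) (Nat.xor (2 ^ a) (2 ^ c))) ||
      Nat.beq (Nat.xor (2 ^ p) (2 ^ q)) (Nat.xor (2 ^ b) (2 ^ c))) = true := by decide +kernel

theorem meet_ok : ((List.range 8).all fun a => (List.range 8).all fun b => (List.range 8).all fun c =>
    (List.range 8).all fun d => Nat.beq a b || Nat.beq c d ||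
      !isPair (Nat.xor (Nat.xor (2 ^ a) (2 ^ b)) (Nat.xor (2 ^ c) (2 ^ d))) ||
      ((Nat.beq a c && !Nat.beq b d) || (Nat.beq a d && !Nat.beq b c) ||
       (Nat.beq b c && !Nat.beq a d) || (Nat.beq b d && !Nat.beq a c))) = true := by decide +kernel

theorem four_points : ((List.range 8).all fun a => (List.range 8).all fun b => (List.range 8).all fun c =>
    (List.range 8).all fun d => Nat.beq a b || Nat.beq a c || Nat.beq a d || Nat.beq b c || Nat.beq b d ||
      Nat.beq c d || Nat.beq (Nat.xor (Nat.xor a b) c) d ||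
      forceNat (getP 11 aglSlots (a + 8 * b + 64 * c + 512 * d)) fun k => Nat.blt k 1344 &&
        Nat.beq (aglPerm k 0) a && Nat.beq (aglPerm k 1) b && Nat.beq (aglPerm k 2) c &&
        Nat.beq (aglPerm k 3) (Nat.xor (Nat.xor a b) c) && Nat.beq (aglPerm k 4) d &&
        Nat.beq (aglPerm k 5) (Nat.xor (Nat.xor a b) d) &&
        Nat.beq (aglPerm k 6) (Nat.xor (Nat.xor a c) d) &&
        Nat.beq (aglPerm k 7) (Nat.xor (Nat.xor b c) d)) = true := by decide +kernel

theorem five_fix : ((List.range 1344).all fun k =>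
    !((List.range 7).all fun i => forceNat (Nat.xor 1 (Nat.pow 2 (Nat.add i 1))) fun v =>
        Nat.beq (aglAct k (aglAct k (aglAct k (aglAct k (aglAct k v))))) v) ||
      (List.range 8).all fun i => Nat.beq (aglPerm k i) i) = true := by decide +kernel

theorem gen_paths : ((List.range 2).all fun j =>
    forceNat (pathEval (permOps 8 240) plusChain (aglPaths.getD j [])).1 fun c =>
      (List.range 8).all fun i =>
        Nat.beq (rmul c (eCode (2 ^ i))) (rmul (eCode (genAct j (2 ^ i))) c)) = true := by decide +kernel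

end Cfsg.Agent.Lib.E8Frame76
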