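import Cfsg.Agent.Lib.E8Frame76.Defs

/-! Kernel checks for the action of the affine group on the masks. -/

set_option autoImplicit false
set_option maxRecDepth 20000

namespace Cfsg.Agent.Lib.E8Frame76

open Cfsg.Agent.Lib.Compute

/-- Twist by the parity. -/
noncomputable def twistM (t : Bool) (v : ℕ) : ℕ := bif t && !evenMask v then Nat.xor v 255 else v

theorem gen_lin : ((List.range 2).all fun j => (List.range 256).all fun v =>
    Nat.blt (genAct j v) 256 && (evenMask (genAct j v) == evenMask v) &&
    (List.range 8).all fun i => Nat.beq (genAct j (Nat.xor v (2 ^ i))) (Nat.xor (genAct j v) (genAct j (2 ^ i)))) =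
    true := by decide +kernel

theorem agl_tree : ((List.range 1344).all fun k => (List.range 8).all fun i =>
    forceNat (getP 16 aglParent k) fun e =>
      bif Nat.beq k 0 then Nat.beq (aglPerm k i) i
      else Nat.blt (Nat.mod e 2048) k && Nat.blt (Nat.div e 2048) 2 &&
        Nat.beq (Nat.pow 2 (aglPerm k i)) (genAct (Nat.div e 2048) (Nat.pow 2 (aglPerm (Nat.mod e 2048) i)))) =
    true := by decide +kernel

/-- Act by a word. -/
noncomputable def wordAct (w : List ℕ) (v : ℕ) : ℕ := w.foldr (fun j r => genAct j r) v

theorem reach_ok : ((List.range 256).all fun v => forceNat (classOf v) fun c =>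
    forceNat (classRep.getD c 0) fun r => Nat.blt c 10 &&
      (reachWords.getD v ([], [])).1.all (fun j => Nat.blt j 2) &&
      (reachWords.getD v ([], [])).2.all (fun j => Nat.blt j 2) &&
      Nat.beq (wordAct (reachWords.getD v ([], [])).1 r) v &&
      Nat.beq (wordAct (reachWords.getD v ([], [])).2 v) r) = true := by decide +kernel

theorem class_facts : ((List.range 256).all fun v => forceNat (classOf v) fun c =>
    (Nat.beq c 9 == Nat.beq v 255) && (Nat.beq c 0 == Nat.beq v 0) &&
    (evenMask v == (Nat.beq c 0 || Nat.beq c 2 || Nat.beq c 4 || Nat.beq c 5 || Nat.beq c 7 || Nat.beq c 9))) =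
    true := by decide +kernel

/-- Membership in a union of classes. -/
noncomputable def inOpt (M v : ℕ) : Bool := Nat.beq (Nat.mod (Nat.div M (2 ^ classOf v)) 2) 1

/-- Number of sums of two members equal to `u`. -/
noncomputable def pairCount (M u : ℕ) : ℕ :=
  (List.range 256).countP fun p => inOpt M p && inOpt M (Nat.xor p u)

/-- The possible unions: the trivial one, fifteen, one hundred and twenty-seven, and sizes with a
prime nineteen or twenty-nine. -/
noncomputable def optList : List ℕ := [512, 528, 692, 520, 576, 640]

theorem opt_sizes : (Nat.beq ((List.range 256).countP (inOpt 520)) 57 &&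
    Nat.beq ((List.range 256).countP (inOpt 576)) 57 &&
    Nat.beq ((List.range 256).countP (inOpt 640)) 29 &&
    Nat.beq ((List.range 256).countP (inOpt 528)) 15 &&
    Nat.beq ((List.range 256).countP (inOpt 692)) 127 &&
    Nat.beq ((List.range 256).countP (inOpt 512)) 1) = true := by decide +kernel

theorem pointStab_eq : ((List.range 1344).all fun k =>
    pointStab.any (Nat.beq k) == Nat.beq (aglPerm k 0) 0) = true ∧
      (pointStab.all fun k => Nat.blt k 1344) = true := by decide +kernel

theorem stab_fix : ((List.range 1344).all fun k => Nat.beq (aglAct k 255) 255 &&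
    (Nat.beq (aglAct k 1) 1 == Nat.beq (aglAct k 254) 254) &&
    !Nat.beq (twistM true (aglAct k 1)) 1) = true := by decide +kernel

/-- The mask of three points is a line: the orbit of the point stabiliser has seven elements. -/
noncomputable def isLine (a b c : ℕ) : Bool := Nat.beq (Nat.xor a b) c

theorem line_agl : ((List.range 8).all fun a => (List.range 8).all fun b => (List.range 8).all fun c =>
    Nat.beq a 0 || Nat.beq b 0 || Nat.beq c 0 || Nat.beq a b || Nat.beq (Nat.xor a b) c ||
    Nat.beq a c || Nat.beq b c ||
    pointStab.any fun k => [(1, a), (2, b), (3, Nat.xor a b), (4, c), (5, Nat.xor a c), (6, Nat.xor b c),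
      (7, Nat.xor a (Nat.xor b c))].all fun q => Nat.beq (aglAct k (2 ^ q.1)) (2 ^ q.2)) = true := by
  decide +kernel

end Cfsg.Agent.Lib.E8Frame76
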