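import Cfsg.Agent.Lib.E8Frame76.Defs
import Cfsg.Agent.Lib.E8Frame76.DataW
import Cfsg.Agent.Lib.E8Frame76.DataPlus

/-! The reflections lie in one coset. -/

set_option autoImplicit false
set_option maxRecDepth 20000

namespace Cfsg.Agent.Lib.E8Frame76

open Cfsg.Agent.Lib.Compute

theorem full_coset : (fullGens.all fun p => sift (permOps 8 240) plusChain (rmul (eCode 1) p.1)) = true := by
  decide +kernel

theorem frame_sep : ((List.range 256).all fun v => Nat.beq v 0 || !Nat.beq (eCode v) (eCode 0)) = true := by
  decide +kernel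

theorem qMul_rinv : ((List.range 64).all fun r => (List.range 64).any fun s =>
    (List.range 64).all fun b => Nat.beq (qMul (qMul b r) s) b) = true := by decide +kernel

theorem qCancel : ∀ a < 64, ∀ b < 64, ∀ r < 64, qMul a r = qMul b r → a = b := by
  intro a ha b hb r hr h
  obtain ⟨s, -, hs⟩ := List.any_eq_true.1 (List.all_eq_true.1 qMul_rinv r (List.mem_range.2 hr))
  have h1 := Nat.eq_of_beq_eq_true (List.all_eq_true.1 hs a (List.mem_range.2 ha))
  have h2 := Nat.eq_of_beq_eq_true (List.all_eq_true.1 hs b (List.mem_range.2 hb))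
  rw [← h1, h, h2]

end Cfsg.Agent.Lib.E8Frame76
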