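import Cfsg.Agent.Lib.Compute.SchurLie.Cover
import Cfsg.Agent.Lib.E8Frame76.DataT
import Cfsg.Agent.Lib.E8Frame76.DataCovC

/-! Kernel checks for the certificate data. -/

set_option autoImplicit false
set_option maxRecDepth 20000

namespace Cfsg.Agent.Lib.E8Frame76

open Cfsg.Agent.Lib.Compute

theorem covCGens_ok : (covCGens.all fun p => permCheck 9 360 p.1 p.2 && Nat.beq (packP 9 (getP 9 p.1) 360) p.1 &&
      Nat.beq (packP 9 (getP 9 p.2) 360) p.2) = true := by decide +kernel

theorem covCChain_ok : chainCheck (permOps 9 360) covCGens covCChain = true := by decide +kernel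

theorem covCChain_size : chainSize covCChain = 348364800 := by decide +kernel

open Cfsg.Agent.Lib.Compute.Schur in
theorem covC_block : blockMapCheck 9 7 240 120 covCGens tGens = true := by decide +kernel

end Cfsg.Agent.Lib.E8Frame76
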