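import Cfsg.Agent.Lib.E8Frame76.Defs
import Cfsg.Agent.Lib.E8Frame76.DataW
import Cfsg.Agent.Lib.E8Frame76.DataPlus

/-! Kernel checks for the frame and the lifts. -/

set_option autoImplicit false
set_option maxRecDepth 20000

namespace Cfsg.Agent.Lib.E8Frame76

open Cfsg.Agent.Lib.Compute

theorem frame_len : frameTab.length = 256 ∧ liftTab.length = 64 := by decide +kernel

theorem frame_perm : (frameTab.all fun c => permCheck 8 240 c c && Nat.beq (packP 8 (getP 8 c) 240) c) =
    true := by decide +kernel

theorem lift_perm : (liftTab.all fun p => permCheck 8 240 p.1 p.2 &&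
    Nat.beq (packP 8 (getP 8 p.1) 240) p.1 && Nat.beq (packP 8 (getP 8 p.2) 240) p.2) = true := by
  decide +kernel

theorem frame_mul : ((List.range 256).all fun v => (List.range 8).all fun i =>
    Nat.beq (eCode (Nat.xor v (2 ^ i))) (rmul (eCode v) (eCode (2 ^ i)))) = true := by decide +kernel

theorem frame_zero : eCode 0 = (permOps 8 240).one ∧ lCode 0 = (permOps 8 240).one := by decide +kernel

theorem lift_frame : ((List.range 64).all fun q => (List.range 8).all fun i =>
    Nat.beq (rmul (lCode q) (eCode (2 ^ i))) (rmul (eCode (qAct q (2 ^ i))) (lCode q))) = true := by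
  decide +kernel

theorem qAct_xor : ((List.range 64).all fun q => (List.range 256).all fun v => (List.range 8).all fun i =>
    Nat.blt (qAct q v) 256 &&
    Nat.beq (qAct q (Nat.xor v (2 ^ i))) (Nat.xor (qAct q v) (qAct q (2 ^ i)))) = true := by
  decide +kernel

theorem frame_in_full : ((List.range 256).all fun v =>
    sift (permOps 8 240) fullChain (eCode v) &&
    (!evenMask v || sift (permOps 8 240) plusChain (eCode v))) = true := by decide +kernel

theorem lift_in_plus : ((List.range 64).all fun q => sift (permOps 8 240) plusChain (lCode q)) = true := by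
  decide +kernel

theorem lift_qMul : ((List.range 64).all fun a => (List.range 64).all fun b =>
    Nat.blt (qMul a b) 64 && Nat.beq (rmul (lCode a) (lCode b)) (lCode (qMul a b))) = true := by
  decide +kernel

theorem lift_sep : ((List.range 64).all fun q => Nat.beq q 0 || (List.range 256).all fun v =>
    !Nat.beq (lCode q) (eCode v)) = true := by decide +kernel

theorem lift_inv : ((List.range 64).all fun q => (List.range 64).any fun r => Nat.beq (qMul q r) 0) =
    true := by decide +kernel

end Cfsg.Agent.Lib.E8Frame76
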