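import Cfsg.Agent.Lib.E8Frame76.CheckAgl

/-! Kernel check: orbits of the lines. -/

set_option autoImplicit false
set_option maxRecDepth 20000

namespace Cfsg.Agent.Lib.E8Frame76

open Cfsg.Agent.Lib.Compute

theorem line_orbit : ((List.range 8).all fun a => (List.range 8).all fun b => (List.range 8).all fun c =>
    Nat.beq a 0 || Nat.beq b 0 || Nat.beq c 0 || Nat.beq a b || Nat.beq a c || Nat.beq b c ||
    (isLine a b c == Nat.ble
      (pointStab.map fun k => aglAct k (2 ^ a + 2 ^ b + 2 ^ c)).eraseDups.length 7)) = true := by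
  decide +kernel

end Cfsg.Agent.Lib.E8Frame76
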