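import Cfsg.Agent.Lib.Compute.Chain

/-! Generated certificate data: elementary subgroups of the lifts, as bit sets. -/

set_option autoImplicit false

namespace Cfsg.Agent.Lib.E8Frame76

/-- The elementary abelian 2-subgroups of the lifts. -/
def subTab : List ℕ := [1, 3, 5, 9, 17, 33, 257, 513, 4097, 8193, 16385, 32769, 65537, 131073, 262145, 524289, 268435457, 536870913, 1073741825, 2147483649, 4294967297, 68719476737, 2199023255553, 35184372088833, 1125899906842625, 36028797018963969, 288230376151711745, 9223372036854775809, 15, 51, 771, 12291, 49155, 196611, 786435, 805306371, 3221225475, 20485, 40965, 327685, 655365, 1342177285, 2684354565, 36873, 24585, 589833, 393225, 2415919113, 1610612745, 4369, 8721, 73014444049, 37383395344401, 8481, 4641, 37154696925806625, 9511602413006487585, 289356276058554625, 9259400833873740033, 2203318223361, 35253091566081, 268505089, 537006081, 1074008065, 2148012033, 536944641, 268574721, 2147753985, 1074274305, 35188667064321, 2267742740481, 9224497936761626625, 324259173170683905, 1073823745, 2147631105, 268713985, 537411585, 2147581953, 1073905665, 537165825, 268992513, 1125904202072065, 9223407221227126785, 288230444871712769, 36030996042743809, 36028866812182529, 288232576248709121,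 9223372043297226753, 1161086426415105, 61455, 983055, 4026531855, 13107, 805515267, 3222024195, 3221471235, 806141955, 1342525445, 2685030405, 2684723205, 1342873605, 2416545801, 1611042825, 1611227145, 2416336905, 37456409797137, 9548757109932302625, 9224533127576428545, 324261441987682305, 4027576335]

/-- The exceptional one. -/
def subZero : ℕ := 13107

end Cfsg.Agent.Lib.E8Frame76
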