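import Cfsg.Agent.Lib.E8Frame76.Defs
import Cfsg.Agent.Lib.E8Frame76.DataSubs
import Cfsg.Agent.Lib.E8Frame76.DataPlus

/-! Kernel checks in the model of a Sylow 2-subgroup. -/

set_option autoImplicit false
set_option maxRecDepth 20000

namespace Cfsg.Agent.Lib.E8Frame76

open Cfsg.Agent.Lib.Compute

/-- Square. -/
noncomputable def sSq (s : ℕ) : ℕ := sMul s s

/-- Commutation. -/
noncomputable def sComm (a b : ℕ) : Bool := Nat.beq (sMul a b) (sMul b a)

/-- Membership in a bit set. -/
noncomputable def inSet (Q q : ℕ) : Bool := Nat.beq (Nat.mod (Nat.div Q (2 ^ q)) 2) 1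

/-- Members of a bit set. -/
noncomputable def setList (Q : ℕ) : List ℕ := (List.range 64).filter (inSet Q)

/-- Union with the translate by `q`. -/
noncomputable def setStep (Q q : ℕ) : ℕ :=
  (setList Q).foldl (fun r x => Nat.lor r (2 ^ qMul q x)) Q

/-- Masks fixed by a bit set. -/
noncomputable def setFix (Q : ℕ) (ev : Bool) : ℕ :=
  (List.range 256).countP fun v => (!ev || evenMask v) && (setList Q).all fun q => Nat.beq (qAct q v) v

theorem subs_closed : (subTab.any (Nat.beq 1) && subTab.all fun Q => (List.range 64).all fun q =>
    !(!inSet Q q && Nat.beq (qMul q q) 0 && (setList Q).all fun x => Nat.beq (qMul q x) (qMul x q)) ||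
      subTab.any (Nat.beq (setStep Q q))) = true := by decide +kernel

theorem subs_bound : (subTab.all fun Q => Nat.beq Q 1 ||
    (Nat.blt (setFix Q false * (setList Q).length) 256 &&
      (Nat.beq Q subZero || Nat.blt (setFix Q true * (setList Q).length) 128))) = true := by
  decide +kernel

theorem subs_zero : subTab.any (Nat.beq subZero) = true ∧ (setList subZero).length = 8 := by
  decide +kernel

/-- Even elements above a lift with a given square. -/
noncomputable def lifts (sq q : ℕ) : List ℕ :=
  ((List.range 256).filter evenMask).filterMap fun v =>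
    bif Nat.beq (sSq (Nat.add v (Nat.mul 256 q))) sq then some (Nat.add v (Nat.mul 256 q)) else none

/-- For three independent lifts with commuting even elements above them, the first being an element of
square `sq` and the others involutions, the first has the property `good`. -/
noncomputable def triCheck (sq : ℕ) (good : ℕ → Bool) : Bool :=
  (setList subZero).all fun a => Nat.beq a 0 || (lifts sq a).all fun x => good x ||
    (setList subZero).all fun b => Nat.beq b 0 || Nat.beq b a ||
      (lifts 0 b).all fun y => !sComm x y ||
        (setList subZero).all fun c => Nat.beq c 0 || Nat.beq c a || Nat.beq c b || Nat.beq c (qMul a b) ||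
          (lifts 0 c).all fun z => !(sComm x z && sComm y z)

theorem tri_inv : triCheck 0 (fun x => dList.any (Nat.beq x)) = true := by decide +kernel

theorem tri_root : triCheck 255 (fun _ => false) = true := by decide +kernel

theorem fix_dList : ((List.range 256).all fun v =>
    !(evenMask v && (setList subZero).all fun q => Nat.beq (qAct q v) v) || dList.any (Nat.beq v)) = true := by
  decide +kernel

theorem dList_ok : ((dList.all fun x => Nat.blt x 16384) && Nat.beq dList.length 128) = true := by decide +kernel

theorem odd_squares : ((List.range 16384).all fun s => evenMask (Nat.mod s 256) ||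
    forceNat (sSq s) fun a => forceNat (sSq a) fun b => forceNat (sSq b) fun c => forceNat (sSq c) fun d =>
      forceNat (sSq d) fun e => !Nat.beq a 255 && !Nat.beq b 255 && !Nat.beq c 255 && !Nat.beq d 255 &&
        Nat.beq e 0) = true := by decide +kernel

/-- The listed conjugation for an involution. -/
noncomputable def invRow (s : ℕ) : Bool :=
  invTab.any fun r => Nat.beq r.1 s && Nat.blt r.2.1 16384 && Nat.blt r.2.2 repTab.length &&
    Nat.beq (sMul r.2.1 s) (sMul (repTab.getD r.2.2 (0, [], 0)).1 r.2.1)

theorem inv_cover : ((List.range 16384).all fun s => !Nat.beq (sSq s) 0 || invRow s) = true := by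
  decide +kernel

theorem rep_cover : (repTab.all fun r => Nat.blt r.1 16384 && Nat.blt r.2.2 256 &&
    forceNat (pathEval (permOps 8 240) plusChain r.2.1).1 fun c =>
      Nat.beq (rmul c (sCode r.1)) (rmul (eCode r.2.2) c)) = true := by decide +kernel

end Cfsg.Agent.Lib.E8Frame76
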