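import Cfsg.Agent.Lib.E8Frame76.CheckAgl

/-! Kernel check: the possible unions of classes. -/

set_option autoImplicit false
set_option maxRecDepth 20000

namespace Cfsg.Agent.Lib.E8Frame76

open Cfsg.Agent.Lib.Compute

theorem opts_ok : ((List.range 1024).all fun M =>
    !(Nat.beq (Nat.mod M 2) 0 && Nat.beq (Nat.mod (Nat.div M 512) 2) 1 &&
      Nat.beq (Nat.mod (Nat.div M 2) 2) 0 && Nat.beq (Nat.mod (Nat.div M 256) 2) 0) ||
    optList.any (Nat.beq M) || forceNat (pairCount M 255) fun n =>
      classRep.any fun u => Nat.blt u 256 && (inOpt M u && !Nat.beq (pairCount M u) n)) = true := by decide +kernel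

end Cfsg.Agent.Lib.E8Frame76
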