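import Cfsg.Agent.Lib.Compute.SchurLie.Cover
import Cfsg.Agent.Lib.E8Frame76.DataCovA
import Cfsg.Agent.Lib.E8Frame76.DataPlus
import Cfsg.Agent.Lib.E8Frame76.DataPlus

/-! Kernel checks for the certificate data. -/

set_option autoImplicit false
set_option maxRecDepth 20000

namespace Cfsg.Agent.Lib.E8Frame76

open Cfsg.Agent.Lib.Compute

theorem plusGens_ok : (plusGens.all fun p => permCheck 8 240 p.1 p.2 && Nat.beq (packP 8 (getP 8 p.1) 240) p.1 &&
      Nat.beq (packP 8 (getP 8 p.2) 240) p.2) = true := by decide +kernel

theorem plusChain_ok : chainCheck (permOps 8 240) plusGens plusChain = true := by decide +kernel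

theorem plusChain_size : chainSize plusChain = 348364800 := by decide +kernel

theorem plus_sift : (plusGens.all fun p => sift (permOps 8 240) plusChain p.1) = true := by
  decide +kernel

open Cfsg.Agent.Lib.Compute.Schur in
theorem plus_block : blockMapCheck 9 8 0 240 covAGens plusGens = true := by decide +kernel

end Cfsg.Agent.Lib.E8Frame76
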