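import Cfsg.Agent.Lib.Compute.SchurLie.FourCover
import Cfsg.Agent.Lib.Compute.SchurLie.OPlusEightData
import Cfsg.Agent.Lib.E8Frame76.DataT
import Cfsg.Agent.Lib.E8Frame76.DataCovA
import Cfsg.Agent.Lib.E8Frame76.DataCovB
import Cfsg.Agent.Lib.E8Frame76.DataCovC

/-! Two commuting pairs telling the three double covers apart. -/

set_option autoImplicit false
set_option maxRecDepth 20000

namespace Cfsg.Agent.Lib.E8Frame76

open Cfsg.Agent.Lib.Compute Cfsg.Agent.Lib.Compute.Schur

theorem tGens_eq : tGens = SchurLie.o8Gens := by decide +kernel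

theorem covA_sepOne : liftCommCheck 9 7 360 240 120 covAChain tChain
    [196, 144, 21, 25, 9, 24, 21] [168, 83, 12, 16, 21, 17, 21] [85, 85, 8, 80, 24, 64, 9] [5, 56, 1, 78, 96, 4, 9] false = true := by decide +kernel

theorem covB_sepOne : liftCommCheck 9 7 360 240 120 covBChain tChain
    [66, 166, 21, 17, 16, 12, 13] [3, 54, 5, 13, 16, 12, 13] [85, 85, 8, 80, 24, 64, 9] [5, 56, 1, 78, 96, 4, 9] false = true := by decide +kernel

theorem covC_sepOne : liftCommCheck 9 7 360 240 120 covCChain tChain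
    [186, 171, 16, 13, 13, 12, 13] [145, 192, 25, 4, 17, 24, 12] [85, 85, 8, 80, 24, 64, 9] [5, 56, 1, 78, 96, 4, 9] true = true := by decide +kernel

theorem covA_sepTwo : liftCommCheck 9 7 360 240 120 covAChain tChain
    [12, 166, 20, 9, 16, 21, 21] [12, 166, 8, 13, 17, 24, 21] [19, 44, 65, 22, 36, 64, 9] [21, 82, 80, 22, 36, 4, 13] true = true := by decide +kernel

theorem covB_sepTwo : liftCommCheck 9 7 360 240 120 covBChain tChain
    [110, 145, 12, 20, 16, 12, 12] [178, 162, 9, 16, 20, 12, 13] [19, 44, 65, 22, 36, 64, 9] [21, 82, 80, 22, 36, 4, 13] false = true := by decide +kernel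

theorem covC_sepTwo : liftCommCheck 9 7 360 240 120 covCChain tChain
    [84, 102, 25, 13, 17, 17, 12] [187, 206, 13, 21, 25, 16, 12] [19, 44, 65, 22, 36, 64, 9] [21, 82, 80, 22, 36, 4, 13] false = true := by decide +kernel

end Cfsg.Agent.Lib.E8Frame76
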