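import Cfsg.Agent.Lib.E8Frame76.CheckAgl

/-! Kernel check: orbits of seven masks. -/

set_option autoImplicit false
set_option maxRecDepth 20000

namespace Cfsg.Agent.Lib.E8Frame76

open Cfsg.Agent.Lib.Compute

theorem seven_size : ((List.range 256).all fun u =>
    forceNat u fun u =>
      let S := (pointStab.map fun k => aglAct k u).eraseDups
      !Nat.beq S.length 7 ||
      (S.any fun a => [0, 1, 254, 255].any (Nat.beq a)) ||
      (S.any fun a => S.any fun b => !Nat.beq a b && [0, 1, 254, 255].any (Nat.beq (Nat.xor a b))) ||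
      (S.any fun a => S.any fun b => S.any fun c => !Nat.beq a b && !Nat.beq a c && !Nat.beq b c &&
        [0, 1, 254, 255].any (Nat.beq (Nat.xor a (Nat.xor b c)))) ||
      (List.range 8).any fun j => !Nat.beq j 0 && [0, 1, 254, 255].any fun c =>
        Nat.beq u (Nat.xor (2 ^ j) c)) = true := by decide +kernel

end Cfsg.Agent.Lib.E8Frame76
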