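import Cfsg.Agent.Lib.Compute.Perm
import Cfsg.Agent.Lib.E8Frame76.DataT

/-! Kernel checks for the certificate data. -/

set_option autoImplicit false
set_option maxRecDepth 20000

namespace Cfsg.Agent.Lib.E8Frame76

open Cfsg.Agent.Lib.Compute

theorem tGens_ok : (tGens.all fun p => permCheck 7 120 p.1 p.2 && Nat.beq (packP 7 (getP 7 p.1) 120) p.1 &&
      Nat.beq (packP 7 (getP 7 p.2) 120) p.2) = true := by decide +kernel

theorem tChain_ok : chainCheck (permOps 7 120) tGens tChain = true := by decide +kernel

theorem tChain_size : chainSize tChain = 174182400 := by decide +kernel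

end Cfsg.Agent.Lib.E8Frame76
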