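import Cfsg.Agent.Lib.Compute.Perm
import Cfsg.Agent.Lib.E8Frame76.DataFrame
import Cfsg.Agent.Lib.E8Frame76.DataAgl

/-!
# The Weyl group of type E₈ on its roots: definitions for the computations

Masks are numbers below 256, the subsets of a frame of eight orthogonal roots. A number `v + 256 q`
names the product of the frame reflections in `v` with the lift number `q`.
-/

set_option autoImplicit false

namespace Cfsg.Agent.Lib.E8Frame76

open Cfsg.Agent.Lib.Compute

/-- Multiplication of codes. -/
noncomputable abbrev rmul : ℕ → ℕ → ℕ := mulP 8 240

/-- Code of a frame element. -/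
noncomputable def eCode (v : ℕ) : ℕ := frameTab.getD v 0

/-- Code of a lift. -/
noncomputable def lCode (q : ℕ) : ℕ := (liftTab.getD q (0, 0)).1

/-- The lift `q` applied to a mask. -/
noncomputable def qAct (q v : ℕ) : ℕ := getP 8 (liftMask.getD q 0) v

/-- Product of two lifts. -/
noncomputable def qMul (a b : ℕ) : ℕ := getP 8 (liftMul.getD a 0) b

/-- Product in the model. -/
noncomputable def sMul (a b : ℕ) : ℕ :=
  Nat.add (Nat.xor (Nat.mod a 256) (qAct (Nat.div a 256) (Nat.mod b 256)))
    (Nat.mul 256 (qMul (Nat.div a 256) (Nat.div b 256)))

/-- Code of an element of the model. -/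
noncomputable def sCode (s : ℕ) : ℕ := rmul (eCode (Nat.mod s 256)) (lCode (Nat.div s 256))

/-- Even number of bits. -/
noncomputable def evenMask (v : ℕ) : Bool :=
  (List.range 8).foldl (fun r i => bif v.testBit i then !r else r) true

/-- The fixed points of a code. -/
noncomputable def fixCode (c : ℕ) : ℕ := (List.range 240).countP fun i => Nat.beq (getP 8 c i) i

/-- Bitwise extension of a map on single bits. -/
noncomputable def linExt (f : ℕ → ℕ) (v : ℕ) : ℕ :=
  (List.range 8).foldl (fun r i => bif v.testBit i then Nat.xor r (f i) else r) 0

/-- An affine permutation of the eight points. -/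
noncomputable def aglPerm (k i : ℕ) : ℕ := getP 3 (getP 24 aglPack k) i

/-- The images of the masks under an affine permutation. -/
noncomputable def aglAct (k v : ℕ) : ℕ := linExt (fun i => Nat.pow 2 (aglPerm k i)) v

/-- The class of a mask. -/
noncomputable def classOf (v : ℕ) : ℕ := getP 8 classPack v

/-- A generator of the affine group on the masks. -/
noncomputable def genAct (j v : ℕ) : ℕ := getP 8 (aglGenTab.getD j 0) v

end Cfsg.Agent.Lib.E8Frame76
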