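import Cfsg.Agent.Lib.E8Frame76.Weyl

/-!
# A Sylow 2-subgroup of the Weyl group with its model
-/

set_option autoImplicit false

namespace Cfsg.Agent.Lib.E8Frame76

open Cfsg.Agent.Lib.Compute

/-- The element named by a number. -/
noncomputable def sW (s : ℕ) : PR := eW (s % 256) * lW (s / 256)

theorem sMul_eq (a b : ℕ) : sMul a b =
    (a % 256 ^^^ qAct (a / 256) (b % 256)) + 256 * qMul (a / 256) (b / 256) := rfl

theorem sMul_spec {a b : ℕ} (ha : a < 16384) (hb : b < 16384) :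
    sMul a b < 16384 ∧ (sMul a b) % 256 = a % 256 ^^^ qAct (a / 256) (b % 256) ∧
      (sMul a b) / 256 = qMul (a / 256) (b / 256) := by
  have h1 : a / 256 < 64 := by omega
  have h2 : b / 256 < 64 := by omega
  have h3 := (qAct_spec h1 (Nat.mod_lt b (show 256 > 0 by omega))).1
  have h4 := xorM_lt (Nat.mod_lt a (show 256 > 0 by omega)) h3
  have h5 := (qMul_spec h1 h2).1
  rw [sMul_eq]
  omega

theorem sW_mul {a b : ℕ} (ha : a < 16384) (hb : b < 16384) : sW a * sW b = sW (sMul a b) := by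
  have h1 : a / 256 < 64 := by omega
  have h2 : b / 256 < 64 := by omega
  have hm := Nat.mod_lt a (show 256 > 0 by omega)
  have hn := Nat.mod_lt b (show 256 > 0 by omega)
  obtain ⟨-, e1, e2⟩ := sMul_spec ha hb
  rw [sW, sW, sW, e1, e2, eW_xor hm (qAct_spec h1 hn).1, ← (qMul_spec h1 h2).2]
  calc eW (a % 256) * lW (a / 256) * (eW (b % 256) * lW (b / 256))
      = eW (a % 256) * (lW (a / 256) * eW (b % 256)) * lW (b / 256) := by group
    _ = _ := by rw [lW_eW h1 hn]; group

theorem sW_zero : sW 0 = 1 := by simp [sW, eW_zero, lW_zero]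

theorem sW_frame {v : ℕ} (hv : v < 256) : sW v = eW v := by
  rw [sW, Nat.mod_eq_of_lt hv, Nat.div_eq_of_lt hv, lW_zero, mul_one]

theorem eW_injective {v u : ℕ} (hv : v < 256) (hu : u < 256) (h : eW v = eW u) : v = u := by
  have h1 : eW (v ^^^ u) = eW 0 := by rw [eW_xor hv hu, h, eW_sq hu, eW_zero]
  have hs := frame_sep
  simp only [List.all_eq_true, List.mem_range, Bool.or_eq_true, Bool.not_eq_true'] at hs
  rcases hs (v ^^^ u) (xorM_lt hv hu) with e | e
  · exact Nat.xor_eq_zero_iff.1 (Nat.eq_of_beq_eq_true e)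
  · have := congrArg Cr.enc h1
    rw [enc_eW (xorM_lt hv hu), enc_eW (by omega)] at this
    rw [this, Nat.beq_refl] at e
    exact absurd e (by decide)

theorem lW_eq_eW {q v : ℕ} (hq : q < 64) (hv : v < 256) (h : lW q = eW v) : q = 0 := by
  have hs := lift_sep
  simp only [List.all_eq_true, List.mem_range, Bool.or_eq_true, Bool.not_eq_true'] at hs
  rcases hs q hq with e | e
  · exact Nat.eq_of_beq_eq_true e
  · have := e v hv
    rw [← enc_lW hq, ← enc_eW hv, h, Nat.beq_refl] at this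
    exact absurd this (by decide)

theorem qMul_unit : ∀ q < 64, qMul q 0 = q ∧ qMul 0 q = q := by decide +kernel

theorem exists_qInv {q : ℕ} (hq : q < 64) : ∃ r < 64, qMul q r = 0 := by
  have h := lift_inv
  simp only [List.all_eq_true, List.mem_range, List.any_eq_true] at h
  obtain ⟨r, hr, e⟩ := h q hq
  exact ⟨r, hr, Nat.eq_of_beq_eq_true e⟩

theorem sW_injective {a b : ℕ} (ha : a < 16384) (hb : b < 16384) (h : sW a = sW b) : a = b := by
  have h1 : a / 256 < 64 := by omega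
  have h2 : b / 256 < 64 := by omega
  have hm := Nat.mod_lt a (show 256 > 0 by omega)
  have hn := Nat.mod_lt b (show 256 > 0 by omega)
  obtain ⟨r, hr, hqr⟩ := exists_qInv h1
  have e1 : lW (a / 256) * lW r = 1 := by rw [(qMul_spec h1 hr).2, hqr, lW_zero]
  obtain ⟨hlt, e2⟩ := qMul_spec h2 hr
  have e3 : lW (qMul (b / 256) r) = eW (b % 256 ^^^ a % 256) := by
    rw [eW_xor hn hm, ← e2]
    have := congrArg (· * lW r) h
    simp only [sW, mul_assoc, e1, mul_one] at this
    rw [this, ← mul_assoc (eW (b % 256)) (eW (b % 256)), eW_sq hn, one_mul]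
  have hq0 := lW_eq_eW hlt (xorM_lt hn hm) e3
  rw [hq0, lW_zero] at e2
  have e4 : lW (b / 256) = lW (a / 256) := mul_right_cancel (e2.trans e1.symm)
  have e5 : a % 256 = b % 256 := eW_injective hm hn (by
    have := h
    simp only [sW, e4] at this
    exact mul_right_cancel this)
  have e6 : a / 256 = b / 256 := by
    have hra : qMul (b / 256) r = 0 := hq0
    exact qCancel _ h1 _ h2 r hr (hqr.trans hra.symm)
  omega

/-- The Sylow 2-subgroup. -/
noncomputable def SW : Subgroup PR where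
  carrier := sW '' {s | s < 16384}
  one_mem' := ⟨0, show 0 < 16384 by omega, sW_zero⟩
  mul_mem' := by
    rintro _ _ ⟨a, ha, rfl⟩ ⟨b, hb, rfl⟩
    exact ⟨sMul a b, (sMul_spec ha hb).1, (sW_mul ha hb).symm⟩
  inv_mem' := by
    rintro _ ⟨a, ha, rfl⟩
    have ha : a < 16384 := ha
    have h1 : a / 256 < 64 := by omega
    obtain ⟨r, hr, hqr⟩ := exists_qInv h1
    have hm := Nat.mod_lt a (show 256 > 0 by omega)
    obtain ⟨b1, -⟩ := qAct_spec hr hm
    refine ⟨qAct r (a % 256) + 256 * r, show _ < 16384 by omega, ?_⟩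
    refine (inv_eq_of_mul_eq_one_left ?_).symm
    have e0 : (qAct r (a % 256) + 256 * r) % 256 = qAct r (a % 256) := by omega
    have e0' : (qAct r (a % 256) + 256 * r) / 256 = r := by omega
    rw [sW, sW, e0, e0']
    have e1 : lW (a / 256) * lW r = 1 := by rw [(qMul_spec h1 hr).2, hqr, lW_zero]
    have e2 : lW r * lW (a / 256) = 1 := by
      rw [← inv_eq_of_mul_eq_one_left e1, mul_inv_cancel]
    calc eW (qAct r (a % 256)) * lW r * (eW (a % 256) * lW (a / 256))
        = eW (qAct r (a % 256)) * (lW r * eW (a % 256)) * lW (a / 256) := by group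
      _ = (eW (qAct r (a % 256)) * eW (qAct r (a % 256))) * (lW r * lW (a / 256)) := by
        rw [lW_eW hr hm]; group
      _ = 1 := by rw [eW_sq b1, one_mul, e2]

theorem sW_mem {s : ℕ} (hs : s < 16384) : sW s ∈ SW := ⟨s, hs, rfl⟩

theorem SW_le : SW ≤ WF := by
  rintro _ ⟨a, ha, rfl⟩
  have ha : a < 16384 := ha
  exact mul_mem (eW_mem (Nat.mod_lt _ (by omega))) (plus_le (lW_mem (by omega)))

theorem card_SW : Nat.card SW = 16384 := by
  rw [← Nat.card_fin 16384]
  refine (Nat.card_eq_of_bijective (fun s : Fin 16384 => (⟨sW s, sW_mem s.isLt⟩ : SW)) ⟨?_, ?_⟩).symm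
  · exact fun a b h => Fin.ext (sW_injective a.isLt b.isLt (congrArg Subtype.val h))
  · rintro ⟨_, a, ha, rfl⟩
    exact ⟨⟨a, ha⟩, rfl⟩

theorem sW_mem_plus {s : ℕ} (hs : s < 16384) : sW s ∈ WP ↔ evenMask (s % 256) = true :=
  mem_plus_iff_even (Nat.mod_lt _ (by omega)) (by omega)

/-- A 2-subgroup is conjugate into the Sylow subgroup. -/
theorem exists_conj_SW {Q : Subgroup PR} (hQ : Q ≤ WF) (h2 : IsPGroup 2 Q) :
    ∃ x ∈ WP, ∀ g ∈ Q, x * g * x⁻¹ ∈ SW := by
  haveI : Fact (Nat.Prime 2) := ⟨Nat.prime_two⟩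
  let S0 : Sylow 2 WF := Sylow.ofCard (SW.subgroupOf WF) (by
    rw [Nat.card_congr (Subgroup.subgroupOfEquivOfLe SW_le).toEquiv, card_SW, card_WF,
      show (696729600 : ℕ) = 2 ^ 14 * 42525 by norm_num,
      Nat.factorization_mul (by norm_num) (by norm_num), Finsupp.add_apply,
      Nat.prime_two.factorization_pow, Finsupp.single_eq_same,
      Nat.factorization_eq_zero_of_not_dvd (show ¬ 2 ∣ 42525 by norm_num)]
    norm_num)
  have hQ' : IsPGroup 2 ↥(Q.subgroupOf WF) := h2.of_equiv (Subgroup.subgroupOfEquivOfLe hQ).symm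
  obtain ⟨P, hP⟩ := hQ'.exists_le_sylow
  obtain ⟨x, hx⟩ := MulAction.exists_smul_eq WF P S0
  have hconj : ∀ g ∈ Q, (x : PR) * g * (x : PR)⁻¹ ∈ SW := by
    intro g hg
    have h1 : x * ⟨g, hQ hg⟩ * x⁻¹ ∈ (S0 : Subgroup WF) := by
      rw [← hx]
      exact Subgroup.smul_mem_pointwise_smul _ (MulAut.conj x) _ (hP hg)
    exact h1
  by_cases hxp : (x : PR) ∈ WP
  · exact ⟨x, hxp, hconj⟩
  have h1 : eW 1 ∈ SW := by rw [← sW_frame (v := 1) (by omega)]; exact sW_mem (by omega)
  refine ⟨eW 1 * x, (mul_mem_plus_iff (eW_mem (by omega)) x.2).2 (iff_of_false eW_one_not_mem hxp), fun g hg => ?_⟩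
  have := mul_mem (mul_mem h1 (hconj g hg)) (inv_mem h1)
  convert this using 1
  group

end Cfsg.Agent.Lib.E8Frame76
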