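import Cfsg.Prelude.Def_Classical
import Cfsg.Agent.Lib.E8Frame76.Sylow
import Cfsg.Agent.Lib.E8Frame76.CheckAgl
import Cfsg.Agent.Lib.E8Frame76.DataSubs

/-!
# The facts on the Weyl group used by the fusion argument
-/

set_option autoImplicit false

namespace Cfsg.Agent.Lib.E8Frame76

universe u v

/-- An elementary abelian 2-subgroup. -/
def IsElem (E : Subgroup PR) : Prop :=
  (∀ g ∈ E, g ^ 2 = 1) ∧ ∀ g ∈ E, ∀ h ∈ E, Commute g h

/-- Every automorphism of the rotation subgroup comes from the Weyl group. -/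
def AutStmt : Prop :=
  ∀ φ : MulAut ↥WP, ∃ x ∈ WF, ∀ a : ↥WP, ((φ a : ↥WP) : PR) = x * a * x⁻¹

/-- The centraliser of the rotation subgroup in the Weyl group. -/
def CentStmt : Prop :=
  ∀ x ∈ WF, (∀ a ∈ WP, Commute x a) → x = 1 ∨ x = eW 255

/-- The full mask is central. -/
def TopStmt : Prop :=
  ∀ x ∈ WF, Commute x (eW 255)

/-- An involution is conjugate into the frame subgroup. -/
def InvStmt : Prop :=
  ∀ x ∈ WF, x ^ 2 = 1 → ∃ c ∈ WP, ∃ v < 256, c * x * c⁻¹ = eW v

/-- Powers of an odd element miss the full mask. -/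
def OddStmt : Prop :=
  ∀ x ∈ WF, x ∉ WP → ∀ k : ℕ, x ^ (2 ^ k) ≠ eW 255

/-- A square root of the full mask centralises no large elementary subgroup. -/
def RankStmt : Prop :=
  ∀ a ∈ WP, a ^ 2 = eW 255 → ∀ F : Subgroup PR, F ≤ WP → IsElem F → 64 ≤ Nat.card F →
    (∀ f ∈ F, Commute a f) → False

/-- The elementary subgroups of order 256 are the conjugates of the frame subgroup. -/
def El256Stmt : Prop :=
  ∀ E : Subgroup PR, E ≤ WF → IsElem E → 256 ≤ Nat.card E →
    ∃ c ∈ WP, ∀ g : PR, g ∈ E ↔ ∃ v < 256, c * g * c⁻¹ = eW v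

/-- The two classes of elementary subgroups of order 128 of the rotation subgroup. -/
def El128Stmt : Prop :=
  ∀ E : Subgroup PR, E ≤ WP → IsElem E → 128 ≤ Nat.card E →
    (∃ c ∈ WP, ∀ g : PR, g ∈ E ↔ ∃ v < 256, evenMask v = true ∧ c * g * c⁻¹ = eW v) ∨
      ∃ c ∈ WP, ∀ g : PR, g ∈ E ↔ ∃ s ∈ dList, c * g * c⁻¹ = sW s

/-- An element of order five normalising the sign subgroup and moving it. -/
def FiveStmt : Prop :=
  ∃ f ∈ WP, f ^ 5 = 1 ∧ (∀ s ∈ dList, ∃ t ∈ dList, f * sW s * f⁻¹ = sW t) ∧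
    ∃ s ∈ dList, f * sW s * f⁻¹ ≠ sW s

/-- The action of an element normalising the even frame subgroup. -/
def EvenActStmt : Prop :=
  ∀ x ∈ WF, (∀ v < 256, evenMask v = true → ∃ u < 256, evenMask u = true ∧ x * eW v * x⁻¹ = eW u) →
    ∃ k < 1344, ∀ v < 256, evenMask v = true → x * eW v * x⁻¹ = eW (aglAct k v)

/-- The action of an element normalising the frame subgroup. -/
def FullActStmt : Prop :=
  ∀ x ∈ WF, (∀ v < 256, ∃ u < 256, x * eW v * x⁻¹ = eW u) →
    ∃ k < 1344, ∀ v < 256, x * eW v * x⁻¹ = eW (aglAct k v)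

/-- The generators of the affine group are induced by the rotation subgroup. -/
def GenStmt : Prop :=
  ∀ j < 2, ∃ g ∈ WP, ∀ v < 256, g * eW v * g⁻¹ = eW (genAct j v)

/-- An affine permutation whose fifth power fixes the even masks fixes them. -/
def AglFiveStmt : Prop :=
  ∀ k < 1344, (∀ v < 256, evenMask v = true → (aglAct k)^[5] v = v) →
    ∀ v < 256, evenMask v = true → aglAct k v = v

/-- The rotation subgroup is the double cover of the orthogonal group. -/
def IdentStmt : Prop :=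
  ∀ (L : Type u) [Group L] [Finite L] (F : Type v) [Field F] [Fintype F], Fintype.card F = 2 →
    commutator L = ⊤ → Nat.card ↥(Subgroup.center L) = 2 →
    Nonempty ((L ⧸ Subgroup.center L) ≃* Cfsg.POmega F (Cfsg.quadFormPlus 4 F)) →
    Nonempty (↥WP ≃* L)

end Cfsg.Agent.Lib.E8Frame76
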