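import Mathlib
import Cfsg.Agent.Lib.E8Frame76.Iface
import Cfsg.Agent.Lib.E8Frame76.CheckModel

/-!
# Elementary abelian subgroups of the Weyl group
-/

set_option autoImplicit false
set_option maxRecDepth 20000

namespace Cfsg.Agent.Lib.E8Frame76

open Cfsg.Agent.Lib.Compute

theorem top_gens : (fullGens.all fun p => Nat.beq (rmul (eCode 255) p.1) (rmul p.1 (eCode 255))) = true := by
  decide +kernel

theorem top_even : evenMask 255 = true := by decide +kernel

theorem top_central {x : PR} (hx : x ∈ WF) : Commute x (eW 255) := by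
  induction hx using Subgroup.closure_induction with
  | mem g hg =>
    obtain ⟨p, hp, hgp⟩ := hg
    refine Cr.inj ?_
    rw [enc_mul', enc_mul', hgp, enc_eW (by omega)]
    exact (Nat.eq_of_beq_eq_true (List.all_eq_true.1 top_gens p hp)).symm
  | one => exact Commute.one_left _
  | mul a b _ _ ha hb => exact ha.mul_left hb
  | inv a _ ha => exact ha.inv_left

theorem inSet_eq (Q q : ℕ) : inSet Q q = Q.testBit q := by
  rw [Nat.testBit_eq_decide_div_mod_eq]
  rw [inSet]
  rcases h : Nat.beq (Nat.mod (Nat.div Q (2 ^ q)) 2) 1 with _ | _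
  · refine (decide_eq_false fun e => ?_).symm
    have e' : Nat.mod (Nat.div Q (2 ^ q)) 2 = 1 := e
    rw [e'] at h
    exact absurd h (by decide)
  · exact (decide_eq_true (show Q / 2 ^ q % 2 = 1 from Nat.eq_of_beq_eq_true h)).symm

theorem mem_setList {Q q : ℕ} : q ∈ setList Q ↔ q < 64 ∧ inSet Q q = true := by
  simp [setList]

theorem mem_setStep {Q q z : ℕ} :
    inSet (setStep Q q) z = true ↔ inSet Q z = true ∨ ∃ x ∈ setList Q, z = qMul q x := by
  have key : ∀ (l : List ℕ) (r : ℕ), (l.foldl (fun r x => Nat.lor r (2 ^ qMul q x)) r).testBit z = true ↔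
      r.testBit z = true ∨ ∃ x ∈ l, z = qMul q x := by
    intro l
    induction l with
    | nil => simp
    | cons a l ih =>
      intro r
      rw [List.foldl_cons, ih, show Nat.lor r (2 ^ qMul q a) = r ||| 2 ^ qMul q a from rfl,
        Nat.testBit_lor, Bool.or_eq_true, Nat.testBit_two_pow]
      simp only [decide_eq_true_eq, List.exists_mem_cons_iff]
      constructor
      · rintro ((h | h) | h)
        · exact Or.inl h
        · exact Or.inr (Or.inl h.symm)
        · exact Or.inr (Or.inr h)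
      · rintro (h | h | h)
        · exact Or.inl (Or.inl h)
        · exact Or.inl (Or.inr h.symm)
        · exact Or.inr h
  rw [inSet_eq, inSet_eq]
  exact key _ _

theorem setList_one : setList 1 = [0] := by decide +kernel

/-- A set of commuting involutions of the lifts closed under products is listed. -/
theorem exists_subTab {P : ℕ → Prop} (h0 : P 0) (hlt : ∀ q, P q → q < 64)
    (hsq : ∀ q, P q → qMul q q = 0) (hmul : ∀ a b, P a → P b → P (qMul a b))
    (hcomm : ∀ a b, P a → P b → qMul a b = qMul b a) :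
    ∃ Q ∈ subTab, ∀ q, q ∈ setList Q ↔ P q := by
  by_contra hcon
  push Not at hcon
  have key : ∀ n, ∃ Q ∈ subTab, 0 ∈ setList Q ∧ (∀ q ∈ setList Q, P q) ∧ n ≤ (setList Q).length := by
    intro n
    induction n with
    | zero =>
      refine ⟨1, ?_, ?_, ?_, Nat.zero_le _⟩
      · have h := subs_closed
        simp only [Bool.and_eq_true, List.any_eq_true] at h
        obtain ⟨⟨Q, hQ, e⟩, -⟩ := h
        rwa [← Nat.eq_of_beq_eq_true e] at hQ
      · simp [setList_one]
      · simp [setList_one, h0]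
    | succ n ih =>
      obtain ⟨Q, hQ, hQ0, hQP, hn⟩ := ih
      have hex : ∃ q, P q ∧ q ∉ setList Q := by
        by_contra h
        push Not at h
        obtain ⟨q, hq⟩ := hcon Q hQ
        rcases hq with ⟨a, b⟩ | ⟨a, b⟩
        · exact b (hQP q a)
        · exact a (h q b)
      obtain ⟨q, hqP, hqQ⟩ := hex
      have hq64 := hlt q hqP
      have h := subs_closed
      simp only [Bool.and_eq_true, List.all_eq_true, Bool.or_eq_true, Bool.not_eq_true', List.mem_range] at h
      rcases h.2 Q hQ q hq64 with h1 | h1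
      · refine absurd h1 (Bool.not_eq_false _ |>.mpr ?_)
        simp only [Bool.and_eq_true, Bool.not_eq_true', List.all_eq_true]
        refine ⟨⟨?_, ?_⟩, fun x hx => ?_⟩
        · exact Bool.eq_false_iff.2 fun e => hqQ (mem_setList.2 ⟨hq64, e⟩)
        · rw [hsq q hqP]; rfl
        · rw [hcomm q x hqP (hQP x hx)]; exact Nat.beq_refl _
      obtain ⟨Q', hQ', e⟩ := List.any_eq_true.1 h1
      have e' : setStep Q q = Q' := Nat.eq_of_beq_eq_true e
      subst e'
      have hmem : ∀ x ∈ setList Q, x ∈ setList (setStep Q q) := fun x hx =>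
        mem_setList.2 ⟨(mem_setList.1 hx).1, mem_setStep.2 (Or.inl (mem_setList.1 hx).2)⟩
      have hqmem : q ∈ setList (setStep Q q) :=
        mem_setList.2 ⟨hq64, mem_setStep.2 (Or.inr ⟨0, hQ0, ((qMul_unit q hq64).1).symm⟩)⟩
      refine ⟨_, hQ', hmem 0 hQ0, fun x hx => ?_, ?_⟩
      · obtain ⟨hx64, hx⟩ := mem_setList.1 hx
        rcases mem_setStep.1 hx with hx | ⟨y, hy, rfl⟩
        · exact hQP x (mem_setList.2 ⟨hx64, hx⟩)
        · exact hmul q y hqP (hQP y hy)
      · have hsub : q :: setList Q ⊆ setList (setStep Q q) := by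
          intro x hx
          rcases List.mem_cons.1 hx with rfl | hx
          · exact hqmem
          · exact hmem x hx
        have hnd : (q :: setList Q).Nodup := List.nodup_cons.2 ⟨hqQ, List.nodup_range.filter _⟩
        have := (hnd.subperm hsub).length_le
        simp only [List.length_cons] at this
        omega
  obtain ⟨Q, -, -, -, h65⟩ := key 65
  have hle : (setList Q).length ≤ 64 := by
    have := (List.filter_sublist (l := List.range 64) (p := inSet Q)).length_le
    rwa [List.length_range] at this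
  omega

theorem sSq_eq (s : ℕ) : sSq s = sMul s s := rfl

/-- The lifts met by a subgroup. -/
def Over (A : Subgroup PR) (q : ℕ) : Prop := ∃ s < 16384, sW s ∈ A ∧ s / 256 = q

theorem exists_sW {A : Subgroup PR} (hA : A ≤ SW) {g : PR} (hg : g ∈ A) : ∃ s < 16384, sW s = g := by
  obtain ⟨s, hs, rfl⟩ := hA hg
  exact ⟨s, hs, rfl⟩

/-- The lifts of a commuting group with squares in the frame subgroup. -/
theorem over_spec {A : Subgroup PR} (hA : A ≤ SW) (hc : ∀ g ∈ A, ∀ h ∈ A, Commute g h)
    (hs : ∀ g ∈ A, ∃ v < 256, g * g = eW v) :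
    ∃ Q ∈ subTab, ∀ q, q ∈ setList Q ↔ Over A q := by
  refine exists_subTab ⟨0, by omega, by rw [sW_zero]; exact A.one_mem, rfl⟩ ?_ ?_ ?_ ?_
  · rintro q ⟨s, hs', -, rfl⟩; omega
  · rintro q ⟨s, hs', hsA, rfl⟩
    obtain ⟨v, hv, e⟩ := hs _ hsA
    rw [sW_mul hs' hs', ← sW_frame hv] at e
    have e1 := sW_injective (sMul_spec hs' hs').1 (by omega) e
    obtain ⟨-, -, e2⟩ := sMul_spec hs' hs'
    rw [e1] at e2
    omega
  · rintro a b ⟨s, hs', hsA, rfl⟩ ⟨t, ht', htA, rfl⟩
    obtain ⟨h1, -, h3⟩ := sMul_spec hs' ht'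
    exact ⟨sMul s t, h1, by rw [← sW_mul hs' ht']; exact A.mul_mem hsA htA, h3⟩
  · rintro a b ⟨s, hs', hsA, rfl⟩ ⟨t, ht', htA, rfl⟩
    have e := (hc _ hsA _ htA).eq
    rw [sW_mul hs' ht', sW_mul ht' hs'] at e
    have e1 := sW_injective (sMul_spec hs' ht').1 (sMul_spec ht' hs').1 e
    obtain ⟨-, -, e2⟩ := sMul_spec hs' ht'
    obtain ⟨-, -, e3⟩ := sMul_spec ht' hs'
    rw [← e2, ← e3, e1]

theorem fixed_mask {A : Subgroup PR} (hc : ∀ g ∈ A, ∀ h ∈ A, Commute g h) {v q : ℕ} (hv : v < 256)
    (hvA : eW v ∈ A) (hq : Over A q) : qAct q v = v := by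
  obtain ⟨s, hs, hsA, rfl⟩ := hq
  have hq' : s / 256 < 64 := by omega
  have hm : s % 256 < 256 := Nat.mod_lt _ (by omega)
  have e := (hc _ hsA _ hvA).eq
  obtain ⟨b1, -⟩ := qAct_spec hq' hv
  rw [sW] at e
  have e' : eW (s % 256) * eW (qAct (s / 256) v) * lW (s / 256) =
      eW (s % 256) * eW v * lW (s / 256) := by
    rw [mul_assoc, ← lW_eW hq' hv, ← mul_assoc, e, ← mul_assoc, (eW_comm hv hm).eq]
  exact eW_injective b1 hv (mul_left_cancel (mul_right_cancel e'))

theorem even_of_le {A : Subgroup PR} {v : ℕ} (hv : v < 256) (hvA : eW v ∈ A) (hP : A ≤ WP) :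
    evenMask v = true := by
  have h := hP hvA
  rw [← mul_one (eW v), ← lW_zero] at h
  exact (mem_plus_iff_even hv (by omega)).1 h

/-- The order is at most the number of fixed masks times the number of lifts. -/
theorem card_le_setFix {A : Subgroup PR} (hA : A ≤ SW) (hc : ∀ g ∈ A, ∀ h ∈ A, Commute g h)
    {Q : ℕ} (hQ : ∀ q, q ∈ setList Q ↔ Over A q) (hQ2 : ∀ q ∈ setList Q, qMul q q = 0)
    (ev : Bool) (hev : ev = true → A ≤ WP) :
    Nat.card A ≤ setFix Q ev * (setList Q).length := by
  classical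
  choose num hnum henum using fun g : A => exists_sW hA g.2
  choose rep hrep hrepA hrepq using fun q : {q // q ∈ setList Q} => (hQ q.1).1 q.2
  have hover : ∀ g : A, num g / 256 ∈ setList Q := fun g =>
    (hQ _).2 ⟨num g, hnum g, by rw [henum g]; exact g.2, rfl⟩
  let fx : ℕ → Bool := fun v => (!ev || evenMask v) && (setList Q).all fun q => Nat.beq (qAct q v) v
  let F : Finset ℕ := ((List.range 256).filter fx).toFinset
  have hF : F.card = setFix Q ev := by
    rw [List.toFinset_card_of_nodup (List.nodup_range.filter _), ← List.countP_eq_length_filter]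
    rfl
  let val : A → ℕ := fun g => num g % 256 ^^^ qAct (num g / 256) (rep ⟨_, hover g⟩ % 256)
  have hval : ∀ g : A, val g ∈ F := by
    intro g
    have hg := hnum g
    have hr := hrep ⟨_, hover g⟩
    obtain ⟨h1, h2, h3⟩ := sMul_spec hg hr
    have hmem : sW (sMul (num g) (rep ⟨_, hover g⟩)) ∈ A := by
      rw [← sW_mul hg hr, henum g]; exact A.mul_mem g.2 (hrepA _)
    rw [hrepq ⟨_, hover g⟩, hQ2 _ (hover g)] at h3
    have hlt : val g < 256 :=
      xorM_lt (Nat.mod_lt _ (by omega)) (qAct_spec (by omega) (Nat.mod_lt _ (by omega))).1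
    have hvA : eW (val g) ∈ A := by
      rw [sW, h3, lW_zero, mul_one, h2] at hmem
      exact hmem
    simp only [F, List.mem_toFinset, List.mem_filter, List.mem_range, fx, Bool.and_eq_true,
      Bool.or_eq_true, Bool.not_eq_true', List.all_eq_true]
    refine ⟨hlt, ?_, fun q hq => ?_⟩
    · cases ev with
      | false => exact Or.inl rfl
      | true => exact Or.inr (even_of_le hlt hvA (hev rfl))
    · rw [fixed_mask hc hlt hvA ((hQ q).1 hq)]; exact Nat.beq_refl _
  let f : A → {v // v ∈ F} × {q // q ∈ (setList Q).toFinset} := fun g =>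
    (⟨val g, hval g⟩, ⟨num g / 256, List.mem_toFinset.2 (hover g)⟩)
  have hf : Function.Injective f := by
    intro g h e
    have e1 : val g = val h := congrArg (fun p => p.1.1) e
    have e2 : num g / 256 = num h / 256 := congrArg (fun p => p.2.1) e
    have e3 : rep ⟨_, hover g⟩ = rep ⟨_, hover h⟩ := congrArg rep (Subtype.ext e2)
    simp only [val, e3, e2] at e1
    have e4 : num g % 256 = num h % 256 := Nat.xor_left_inj.1 e1
    have e5 : num g = num h := by omega
    exact Subtype.ext ((henum g).symm.trans ((congrArg sW e5).trans (henum h)))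
  refine (Nat.card_le_card_of_injective f hf).trans (le_of_eq ?_)
  rw [Nat.card_prod, Nat.card_eq_finsetCard, Nat.card_eq_finsetCard, hF,
    List.toFinset_card_of_nodup (l := setList Q) (List.nodup_range.filter _)]

theorem lift_choice : ((setList subZero).all fun a => (Nat.beq (qMul a a) 0 &&
    (setList subZero).all fun b => (setList subZero).any (Nat.beq (qMul a b))) &&
    (Nat.beq a 0 || (((setList subZero).any fun b => !Nat.beq b 0 && !Nat.beq b a &&
      !Nat.beq (qMul a b) 0 && !Nat.beq (qMul a b) a) &&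
      (setList subZero).all fun b => Nat.beq b 0 || Nat.beq b a ||
        (setList subZero).any fun c => !Nat.beq c 0 && !Nat.beq c a && !Nat.beq c b &&
          !Nat.beq c (qMul a b) && !Nat.beq (qMul a c) 0 && !Nat.beq (qMul a c) a &&
          !Nat.beq (qMul a c) b && !Nat.beq (qMul a c) (qMul a b)))) = true := by
  decide +kernel

theorem beq_false_of_ne {a b : ℕ} (h : a ≠ b) : Nat.beq a b = false :=
  Bool.eq_false_iff.2 fun e => h (Nat.eq_of_beq_eq_true e)

theorem ne_of_beq_false {a b : ℕ} (h : Nat.beq a b = false) : a ≠ b := by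
  rintro rfl
  rw [Nat.beq_refl] at h
  exact absurd h (by decide)

/-- Completing a lift to an independent triple by lifts from a subgroup of index two at most. -/
theorem triple_choice {P : ℕ → Prop} {a : ℕ} (ha : a ∈ setList subZero) (ha0 : a ≠ 0)
    (hP : ∀ q ∈ setList subZero, P q ∨ P (qMul a q)) :
    ∃ b c, b ∈ setList subZero ∧ c ∈ setList subZero ∧ P b ∧ P c ∧ b ≠ 0 ∧ b ≠ a ∧
      c ≠ 0 ∧ c ≠ a ∧ c ≠ b ∧ c ≠ qMul a b := by
  have h := List.all_eq_true.1 lift_choice a ha
  rw [beq_false_of_ne ha0, Bool.false_or] at h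
  simp only [Bool.and_eq_true, List.all_eq_true, List.any_eq_true, Bool.or_eq_true,
    Bool.not_eq_true'] at h
  obtain ⟨⟨-, hmem⟩, ⟨b0, hb0, ⟨⟨b1, b2⟩, b3⟩, b4⟩, hc⟩ := h
  have hb : ∃ b ∈ setList subZero, P b ∧ b ≠ 0 ∧ b ≠ a := by
    rcases hP b0 hb0 with p | p
    · exact ⟨b0, hb0, p, ne_of_beq_false b1, ne_of_beq_false b2⟩
    · obtain ⟨w, hw, e⟩ := hmem b0 hb0
      rw [← Nat.eq_of_beq_eq_true e] at hw
      exact ⟨_, hw, p, ne_of_beq_false b3, ne_of_beq_false b4⟩
  obtain ⟨b, hbm, hbP, hb0', hba⟩ := hb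
  rcases hc b hbm with (e | e) | e
  · exact absurd (Nat.eq_of_beq_eq_true e) hb0'
  · exact absurd (Nat.eq_of_beq_eq_true e) hba
  obtain ⟨c0, hc0, ⟨⟨⟨⟨⟨⟨c1, c2⟩, c3⟩, c4⟩, c5⟩, c6⟩, c7⟩, c8⟩ := e
  rcases hP c0 hc0 with p | p
  · exact ⟨b, c0, hbm, hc0, hbP, p, hb0', hba, ne_of_beq_false c1, ne_of_beq_false c2,
      ne_of_beq_false c3, ne_of_beq_false c4⟩
  · obtain ⟨w, hw, e⟩ := hmem c0 hc0
    rw [← Nat.eq_of_beq_eq_true e] at hw
    exact ⟨b, _, hbm, hw, hbP, p, hb0', hba, ne_of_beq_false c5, ne_of_beq_false c6,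
      ne_of_beq_false c7, ne_of_beq_false c8⟩

theorem mem_lifts {sq s : ℕ} (he : evenMask (s % 256) = true) (hsq : sSq s = sq) :
    s ∈ lifts sq (s / 256) := by
  have hs : Nat.add (s % 256) (Nat.mul 256 (s / 256)) = s := Nat.mod_add_div s 256
  rw [lifts, List.mem_filterMap]
  refine ⟨s % 256, List.mem_filter.2 ⟨List.mem_range.2 (Nat.mod_lt _ (by omega)), he⟩, ?_⟩
  rw [hs, hsq, Nat.beq_refl]
  rfl

theorem sComm_of_commute {s t : ℕ} (hs : s < 16384) (ht : t < 16384) (h : Commute (sW s) (sW t)) :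
    sComm s t = true := by
  have e := h.eq
  rw [sW_mul hs ht, sW_mul ht hs] at e
  rw [sComm, sW_injective (sMul_spec hs ht).1 (sMul_spec ht hs).1 e]
  exact Nat.beq_refl _

theorem sSq_eq_zero {s : ℕ} (hs : s < 16384) (h : sW s * sW s = 1) : sSq s = 0 := by
  rw [sW_mul hs hs, ← sW_zero] at h
  exact sW_injective (sMul_spec hs hs).1 (by omega) h

/-- Applying a check on triples of lifts. -/
theorem tri_use {sq : ℕ} {good : ℕ → Bool} (h : triCheck sq good = true) {A : Subgroup PR}
    (hc : ∀ g ∈ A, ∀ k ∈ A, Commute g k) (hP : A ≤ WP) {x : ℕ} (hx : x < 16384)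
    (hxA : sW x ∈ A) (hxs : sSq x = sq) (ha : x / 256 ∈ setList subZero) (ha0 : x / 256 ≠ 0)
    (hinv : ∀ q ∈ setList subZero, (∃ s < 16384, sW s ∈ A ∧ sSq s = 0 ∧ s / 256 = q) ∨
      ∃ s < 16384, sW s ∈ A ∧ sSq s = 0 ∧ s / 256 = qMul (x / 256) q) :
    good x = true := by
  obtain ⟨b, c, hb, hcm, ⟨y, hy, hyA, hy2, rfl⟩, ⟨z, hz, hzA, hz2, rfl⟩, hb0, hba, hc0, hca, hcb, hcab⟩ :=
    triple_choice (P := fun q => ∃ s < 16384, sW s ∈ A ∧ sSq s = 0 ∧ s / 256 = q) ha ha0 hinv
  have hev : ∀ {s}, s < 16384 → sW s ∈ A → evenMask (s % 256) = true := fun hs hsA =>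
    (sW_mem_plus hs).1 (hP hsA)
  have h1 := List.all_eq_true.1 h _ ha
  rw [beq_false_of_ne ha0, Bool.false_or] at h1
  have h2 := List.all_eq_true.1 h1 x (mem_lifts (hev hx hxA) hxs)
  rcases Bool.eq_false_or_eq_true (good x) with hg | hg
  · exact hg
  rw [hg, Bool.false_or] at h2
  have h3 := List.all_eq_true.1 h2 _ hb
  rw [beq_false_of_ne hb0, beq_false_of_ne hba, Bool.false_or, Bool.false_or] at h3
  have h4 := List.all_eq_true.1 h3 y (mem_lifts (hev hy hyA) hy2)
  rw [sComm_of_commute hx hy (hc _ hxA _ hyA), Bool.not_true, Bool.false_or] at h4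
  have h5 := List.all_eq_true.1 h4 _ hcm
  rw [beq_false_of_ne hc0, beq_false_of_ne hca, beq_false_of_ne hcb, beq_false_of_ne hcab,
    Bool.false_or, Bool.false_or, Bool.false_or, Bool.false_or] at h5
  have h6 := List.all_eq_true.1 h5 z (mem_lifts (hev hz hzA) hz2)
  rw [sComm_of_commute hx hz (hc _ hxA _ hzA), sComm_of_commute hy hz (hc _ hyA _ hzA)] at h6
  exact absurd h6 (by decide)

theorem subs_cases {Q : ℕ} (hQ : Q ∈ subTab) : Q = 1 ∨
    (setFix Q false * (setList Q).length < 256 ∧
      (Q = subZero ∨ setFix Q true * (setList Q).length < 128)) := by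
  have h := List.all_eq_true.1 subs_bound Q hQ
  simp only [Bool.or_eq_true, Bool.and_eq_true] at h
  rcases h with h | ⟨h1, h2⟩
  · exact Or.inl (Nat.eq_of_beq_eq_true h)
  refine Or.inr ⟨by simpa [Nat.blt_eq] using h1, ?_⟩
  rcases h2 with h2 | h2
  · exact Or.inl (Nat.eq_of_beq_eq_true h2)
  · exact Or.inr (by simpa [Nat.blt_eq] using h2)

theorem qMul_self_of_over {A : Subgroup PR} (hs : ∀ g ∈ A, ∃ v < 256, g * g = eW v) {q : ℕ}
    (hq : Over A q) : qMul q q = 0 := by
  obtain ⟨s, hs', hsA, rfl⟩ := hq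
  obtain ⟨v, hv, e⟩ := hs _ hsA
  rw [sW_mul hs' hs', ← sW_frame hv] at e
  have e1 := sW_injective (sMul_spec hs' hs').1 (by omega) e
  obtain ⟨-, -, e2⟩ := sMul_spec hs' hs'
  rw [e1] at e2
  omega

theorem in_frame_of_one {A : Subgroup PR} (hA : A ≤ SW) (hQ : ∀ q, q ∈ setList 1 ↔ Over A q) {g : PR}
    (hg : g ∈ A) : ∃ v < 256, g = eW v := by
  obtain ⟨s, hs, rfl⟩ := exists_sW hA hg
  have h := (hQ _).2 ⟨s, hs, hg, rfl⟩
  rw [setList_one, List.mem_singleton] at h
  exact ⟨s, by omega, sW_frame (by omega)⟩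

theorem eq_of_listed {A : Subgroup PR} (f : ℕ → PR) (L : List ℕ) (n : ℕ) (hn : L.length = n)
    (hAL : ∀ g ∈ A, ∃ v ∈ L, g = f v) (hcard : n ≤ Nat.card A) (g : PR) :
    g ∈ A ↔ ∃ v ∈ L, g = f v := by
  classical
  refine ⟨hAL g, ?_⟩
  rintro ⟨v, hv, rfl⟩
  have hsub : (A : Set PR) ⊆ ↑(L.toFinset.image f) := by
    intro y hy
    obtain ⟨w, hw, rfl⟩ := hAL y hy
    simpa using ⟨w, hw, rfl⟩
  have hle : (↑(L.toFinset.image f) : Set PR).ncard ≤ (A : Set PR).ncard := by
    rw [Set.ncard_coe_finset, ← Nat.card_coe_set_eq]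
    refine (Finset.card_image_le.trans (List.toFinset_card_le _)).trans ?_
    rw [hn]
    exact hcard
  have heq := Set.eq_of_subset_of_ncard_le hsub hle (Finset.finite_toSet _)
  show f v ∈ (A : Set PR)
  rw [heq]
  simpa using ⟨v, hv, rfl⟩

/-- The conjugate of a subgroup. -/
noncomputable def cmap (x : PR) (E : Subgroup PR) : Subgroup PR := E.map (MulAut.conj x).toMonoidHom

theorem mem_cmap {x : PR} {E : Subgroup PR} {g : PR} : x * g * x⁻¹ ∈ cmap x E ↔ g ∈ E := by
  constructor
  · rintro ⟨h, hh, e⟩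
    have e : x * h * x⁻¹ = x * g * x⁻¹ := e
    rwa [mul_left_cancel (mul_right_cancel e)] at hh
  · exact fun h => ⟨g, h, rfl⟩

theorem cmap_spec {x : PR} {E : Subgroup PR} {g : PR} (hg : g ∈ cmap x E) :
    ∃ h ∈ E, g = x * h * x⁻¹ := by
  obtain ⟨h, hh, rfl⟩ := hg
  exact ⟨h, hh, rfl⟩

theorem card_cmap (x : PR) (E : Subgroup PR) : Nat.card (cmap x E) = Nat.card E :=
  (Nat.card_congr (Subgroup.equivMapOfInjective E _ (MulAut.conj x).injective).toEquiv).symm

theorem isPGroup_of_sq {E : Subgroup PR} (h : ∀ g ∈ E, g ^ 4 = 1) : IsPGroup 2 E := fun g =>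
  ⟨2, Subtype.ext (h g g.2)⟩

theorem exists_elem_conj {E : Subgroup PR} (hE : E ≤ WF) (he : IsElem E) :
    ∃ x ∈ WP, cmap x E ≤ SW ∧ IsElem (cmap x E) := by
  obtain ⟨x, hx, hS⟩ := exists_conj_SW hE (isPGroup_of_sq fun g hg => by
    rw [show 4 = 2 * 2 from rfl, pow_mul, he.1 g hg, one_pow])
  refine ⟨x, hx, fun g hg => ?_, fun g hg => ?_, fun g hg h hh => ?_⟩
  · obtain ⟨h, hh, rfl⟩ := cmap_spec hg
    exact hS h hh
  · obtain ⟨h, hh, rfl⟩ := cmap_spec hg
    rw [conj_pow, he.1 h hh, mul_one, mul_inv_cancel]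
  · obtain ⟨g', hg', rfl⟩ := cmap_spec hg
    obtain ⟨h', hh', rfl⟩ := cmap_spec hh
    exact (he.2 g' hg' h' hh').map (MulAut.conj x).toMonoidHom

theorem sq_frame_of_elem {A : Subgroup PR} (he : IsElem A) :
    ∀ g ∈ A, ∃ v < 256, g * g = eW v :=
  fun g hg => ⟨0, by omega, by rw [← pow_two, he.1 g hg, eW_zero]⟩

/-- The elementary subgroups of order 256 are the conjugates of the frame subgroup. -/
theorem el256 : El256Stmt := by
  intro E hE he hcard
  obtain ⟨x, hx, hS, heA⟩ := exists_elem_conj hE he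
  have hs := sq_frame_of_elem heA
  obtain ⟨Q, hQ, hQo⟩ := over_spec hS heA.2 hs
  rw [← card_cmap x E] at hcard
  have hle := card_le_setFix hS heA.2 hQo (fun q hq => qMul_self_of_over hs ((hQo q).1 hq)) false
    (fun h => absurd h (by decide))
  obtain rfl : Q = 1 := (subs_cases hQ).resolve_right fun h => by omega
  have hmem := eq_of_listed (A := cmap x E) eW (List.range 256) 256 List.length_range
    (fun g hg => by
      obtain ⟨v, hv, e⟩ := in_frame_of_one hS hQo hg
      exact ⟨v, List.mem_range.2 hv, e⟩) hcard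
  refine ⟨x, hx, fun g => ?_⟩
  rw [← mem_cmap (x := x), hmem]
  simp only [List.mem_range]

theorem dList_card : dList.length = 128 ∧ ∀ s ∈ dList, s < 16384 := by
  have h := dList_ok
  simp only [Bool.and_eq_true, List.all_eq_true] at h
  exact ⟨Nat.eq_of_beq_eq_true h.2, fun s hs => by simpa [Nat.blt_eq] using h.1 s hs⟩

/-- The two classes of elementary subgroups of order 128 of the rotation subgroup. -/
theorem el128 : El128Stmt := by
  intro E hE he hcard
  obtain ⟨x, hx, hS, heA⟩ := exists_elem_conj (hE.trans plus_le) he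
  have hP : cmap x E ≤ WP := fun g hg => by
    obtain ⟨h, hh, rfl⟩ := cmap_spec hg
    exact mul_mem (mul_mem hx (hE hh)) (inv_mem hx)
  have hs := sq_frame_of_elem heA
  obtain ⟨Q, hQ, hQo⟩ := over_spec hS heA.2 hs
  rw [← card_cmap x E] at hcard
  have hle := card_le_setFix hS heA.2 hQo (fun q hq => qMul_self_of_over hs ((hQo q).1 hq)) true
    (fun _ => hP)
  rcases subs_cases hQ with rfl | ⟨-, rfl | hlt⟩
  · refine Or.inl ⟨x, hx, fun g => ?_⟩
    have hmem := eq_of_listed (A := cmap x E) eW ((List.range 256).filter evenMask) 128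
      (by rw [← List.countP_eq_length_filter]; exact v_count)
      (fun g hg => by
        obtain ⟨v, hv, e⟩ := in_frame_of_one hS hQo hg
        exact ⟨v, List.mem_filter.2 ⟨List.mem_range.2 hv, even_of_le hv (e ▸ hg) hP⟩, e⟩) hcard
    rw [← mem_cmap (x := x), hmem]
    simp only [List.mem_filter, List.mem_range]
    exact ⟨fun ⟨v, ⟨a, b⟩, c⟩ => ⟨v, a, b, c⟩, fun ⟨v, a, b, c⟩ => ⟨v, ⟨a, b⟩, c⟩⟩
  · refine Or.inr ⟨x, hx, fun g => ?_⟩
    have hmem := eq_of_listed (A := cmap x E) sW dList 128 dList_card.1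
      (fun g hg => by
        obtain ⟨s, hs', rfl⟩ := exists_sW hS hg
        refine ⟨s, ?_, rfl⟩
        by_cases h0 : s / 256 = 0
        · have hv : s < 256 := by omega
          have hvA : eW s ∈ cmap x E := by rw [← sW_frame hv]; exact hg
          have h := List.all_eq_true.1 fix_dList s (List.mem_range.2 hv)
          simp only [Bool.or_eq_true, Bool.not_eq_true', List.any_eq_true] at h
          rcases h with h | ⟨w, hw, e⟩
          · refine absurd h (Bool.not_eq_false _ |>.mpr ?_)
            simp only [Bool.and_eq_true, List.all_eq_true]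
            exact ⟨even_of_le hv hvA hP, fun q hq => by
              rw [fixed_mask heA.2 hv hvA ((hQo q).1 hq)]; exact Nat.beq_refl _⟩
          · rwa [Nat.eq_of_beq_eq_true e]
        · have hsq : ∀ {t}, t < 16384 → sW t ∈ cmap x E → sSq t = 0 := fun ht htA =>
            sSq_eq_zero ht (by rw [← pow_two]; exact heA.1 _ htA)
          have h := tri_use tri_inv heA.2 hP hs' hg (hsq hs' hg) ((hQo _).2 ⟨s, hs', hg, rfl⟩) h0
            (fun q hq => by
              obtain ⟨t, ht, htA, e⟩ := (hQo q).1 hq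
              exact Or.inl ⟨t, ht, htA, hsq ht htA, e⟩)
          obtain ⟨w, hw, e⟩ := List.any_eq_true.1 h
          rwa [Nat.eq_of_beq_eq_true e]) hcard
    rw [← mem_cmap (x := x), hmem]
  · omega

/-- A square root of the full mask centralises no large elementary subgroup. -/
theorem rankFact : RankStmt := by
  intro a ha ha2 F hF he hcard hcomm
  classical
  have hz : eW 255 ∈ WP := eW_mem_plus (by omega) top_even
  have hzc : ∀ g ∈ WF, Commute g (eW 255) := fun g hg => top_central hg
  have hz1 : eW 255 ≠ 1 := fun h => by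
    rw [← eW_zero] at h
    exact absurd (eW_injective (by omega) (by omega) h) (by omega)
  have hz2 : eW 255 * eW 255 = 1 := eW_sq (by omega)
  let F' : Subgroup PR :=
    { carrier := {g | g ∈ F ∨ eW 255 * g ∈ F}
      one_mem' := Or.inl F.one_mem
      mul_mem' := by
        rintro g h (hg | hg) (hh | hh)
        · exact Or.inl (mul_mem hg hh)
        · refine Or.inr ?_
          have : eW 255 * (g * h) = g * (eW 255 * h) := by
            rw [← mul_assoc, ← (hzc g (plus_le (hF hg))).eq, mul_assoc]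
          rw [this]; exact mul_mem hg hh
        · refine Or.inr ?_
          rw [← mul_assoc]; exact mul_mem hg hh
        · refine Or.inl ?_
          have hgF : g ∈ WF := by
            have := mul_mem (inv_mem (plus_le hz)) (plus_le (hF hg))
            rwa [inv_mul_cancel_left] at this
          have : g * h = eW 255 * g * (eW 255 * h) := by
            rw [← (hzc g hgF).eq, mul_assoc g, ← mul_assoc (eW 255) (eW 255), hz2, one_mul]
          rw [this]; exact mul_mem hg hh
      inv_mem' := by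
        rintro g (hg | hg)
        · exact Or.inl (inv_mem hg)
        · refine Or.inr ?_
          have hgF : g ∈ WF := by
            have := mul_mem (inv_mem (plus_le hz)) (plus_le (hF hg))
            rwa [inv_mul_cancel_left] at this
          have : eW 255 * g⁻¹ = (eW 255 * g)⁻¹ := by
            rw [mul_inv_rev, eW_inv (by omega), ((hzc g hgF).inv_left).eq]
          rw [this]; exact inv_mem hg }
  have hFF : F ≤ F' := fun g hg => Or.inl hg
  have hzF : eW 255 ∈ F' := Or.inr (by rw [hz2]; exact F.one_mem)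
  have hF'P : F' ≤ WP := by
    rintro g (hg | hg)
    · exact hF hg
    · have := mul_mem (inv_mem hz) (hF hg)
      rwa [inv_mul_cancel_left] at this
  have hca : ∀ g ∈ F', Commute a g := by
    rintro g (hg | hg)
    · exact hcomm g hg
    · have := ((hzc a (plus_le ha)).inv_right).mul_right (hcomm _ hg)
      rwa [inv_mul_cancel_left] at this
  have hcF : ∀ g ∈ F', ∀ h ∈ F', Commute g h := by
    have key : ∀ g ∈ F', ∀ h ∈ F, Commute g h := by
      rintro g (hg | hg) h hh
      · exact he.2 g hg h hh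
      · have := (((hzc h (plus_le (hF hh))).symm).inv_left).mul_left (he.2 _ hg h hh)
        rwa [inv_mul_cancel_left] at this
    rintro g hg h (hh | hh)
    · exact key g hg h hh
    · have := ((hzc g (plus_le (hF'P hg))).inv_right).mul_right (key g hg _ hh)
      rwa [inv_mul_cancel_left] at this
  have hsF : ∀ g ∈ F', g * g = 1 := by
    rintro g (hg | hg)
    · rw [← pow_two]; exact he.1 g hg
    · have h1 := he.1 _ hg
      rw [((hzc g (plus_le (hF'P (Or.inr hg)))).symm).mul_pow, pow_two, pow_two, hz2, one_mul] at h1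
      exact h1
  have haF : a ∉ F' := fun h => hz1 (ha2 ▸ (by rw [pow_two]; exact hsF a h))
  have haa : a * a = eW 255 := by rw [← pow_two]; exact ha2
  let A : Subgroup PR :=
    { carrier := {g | g ∈ F' ∨ a * g ∈ F'}
      one_mem' := Or.inl F'.one_mem
      mul_mem' := by
        rintro g h (hg | hg) (hh | hh)
        · exact Or.inl (mul_mem hg hh)
        · refine Or.inr ?_
          rw [← mul_assoc, (hca g hg).eq, mul_assoc]; exact mul_mem hg hh
        · exact Or.inr (by rw [← mul_assoc]; exact mul_mem hg hh)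
        · refine Or.inl ?_
          have hga : Commute a g := by
            have := ((Commute.refl a).inv_right).mul_right (hca _ hg)
            rwa [inv_mul_cancel_left] at this
          have : a * g * (a * h) = eW 255 * (g * h) := by
            rw [hga.eq, mul_assoc g a, ← mul_assoc a a, haa, ← mul_assoc,
              (hzc g (by
                have := mul_mem (inv_mem (plus_le ha)) (plus_le (hF'P hg))
                rwa [inv_mul_cancel_left] at this)).eq, mul_assoc]
          have h2 := mul_mem hzF (mul_mem hg hh)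
          rw [this, ← mul_assoc (eW 255) (eW 255), hz2, one_mul] at h2
          exact h2
      inv_mem' := by
        rintro g (hg | hg)
        · exact Or.inl (inv_mem hg)
        · refine Or.inr ?_
          have hga : Commute a g := by
            have := ((Commute.refl a).inv_right).mul_right (hca _ hg)
            rwa [inv_mul_cancel_left] at this
          have : a * g⁻¹ = a * a * (a * g)⁻¹ := by rw [mul_inv_rev, ← (hga.inv_right).inv_left.eq]; group
          rw [this, haa]; exact mul_mem hzF (inv_mem hg) }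
  have hcA : ∀ g ∈ A, ∀ h ∈ A, Commute g h := by
    have key : ∀ g ∈ A, ∀ h ∈ F', Commute g h := by
      rintro g (hg | hg) h hh
      · exact hcF g hg h hh
      · have := ((hca h hh).inv_left).mul_left (hcF _ hg h hh)
        rwa [inv_mul_cancel_left] at this
    have keya : ∀ g ∈ A, Commute g a := by
      rintro g (hg | hg)
      · exact (hca g hg).symm
      · have := ((Commute.refl a).inv_left).mul_left (hca _ hg).symm
        rwa [inv_mul_cancel_left] at this
    rintro g hg h (hh | hh)
    · exact key g hg h hh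
    · have := (keya g hg).inv_right.mul_right (key g hg _ hh)
      rwa [inv_mul_cancel_left] at this
  have hAP : A ≤ WP := by
    rintro g (hg | hg)
    · exact hF'P hg
    · have := mul_mem (inv_mem ha) (hF'P hg)
      rwa [inv_mul_cancel_left] at this
  have haA : a ∈ A := Or.inr (by rw [haa]; exact hzF)
  have hsA : ∀ g ∈ A, g * g = 1 ∨ g * g = eW 255 := by
    rintro g (hg | hg)
    · exact Or.inl (hsF g hg)
    · refine Or.inr ?_
      have hga : Commute a g := hcA a haA g (Or.inr hg)
      have h1 := hsF _ hg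
      rw [hga.symm.mul_mul_mul_comm, haa] at h1
      calc g * g = eW 255 * (eW 255 * (g * g)) := by rw [← mul_assoc, hz2, one_mul]
        _ = _ := by rw [h1, mul_one]
  have hbig : 128 ≤ Nat.card A := by
    let f : Bool × F → A := fun p => ⟨(bif p.1 then a else 1) * p.2.1, by
      cases p.1 with
      | false => simpa using (show (p.2 : PR) ∈ A from Or.inl (hFF p.2.2))
      | true => exact mul_mem haA (Or.inl (hFF p.2.2))⟩
    have hf : Function.Injective f := by
      rintro ⟨i, g⟩ ⟨j, h⟩ e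
      have e : (bif i then a else 1) * (g : PR) = (bif j then a else 1) * h := congrArg Subtype.val e
      cases i <;> cases j <;> simp only [cond_true, cond_false, one_mul] at e
      · rw [Subtype.ext e]
      · exact absurd (eq_mul_inv_of_mul_eq e.symm ▸ mul_mem (hFF g.2) (inv_mem (hFF h.2))) haF
      · exact absurd (eq_mul_inv_of_mul_eq e ▸ mul_mem (hFF h.2) (inv_mem (hFF g.2))) haF
      · rw [Subtype.ext (mul_left_cancel e)]
    have h1 := Nat.card_le_card_of_injective f hf
    rw [Nat.card_prod, Nat.card_eq_fintype_card (α := Bool), Fintype.card_bool] at h1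
    omega
  obtain ⟨x, hx, hS⟩ := exists_conj_SW (hAP.trans plus_le) (isPGroup_of_sq fun g hg => by
    rw [show 4 = 2 + 2 from rfl, pow_add, pow_two]
    rcases hsA g hg with h | h <;> rw [h]
    · exact one_mul _
    · exact hz2)
  have hB : cmap x A ≤ SW := fun g hg => by
    obtain ⟨h, hh, rfl⟩ := cmap_spec hg
    exact hS h hh
  have hBP : cmap x A ≤ WP := fun g hg => by
    obtain ⟨h, hh, rfl⟩ := cmap_spec hg
    exact mul_mem (mul_mem hx (hAP hh)) (inv_mem hx)
  have hBc : ∀ g ∈ cmap x A, ∀ h ∈ cmap x A, Commute g h := by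
    intro g hg h hh
    obtain ⟨g', hg', rfl⟩ := cmap_spec hg
    obtain ⟨h', hh', rfl⟩ := cmap_spec hh
    exact (hcA g' hg' h' hh').map (MulAut.conj x).toMonoidHom
  have hxz : x * eW 255 * x⁻¹ = eW 255 := by
    rw [(hzc x (plus_le hx)).eq, mul_inv_cancel_right]
  have hsB : ∀ g ∈ cmap x A, ∃ v < 256, g * g = eW v := by
    intro g hg
    obtain ⟨h, hh, rfl⟩ := cmap_spec hg
    rcases hsA h hh with e | e
    · exact ⟨0, by omega, by rw [eW_zero, conj_mul, e, mul_one, mul_inv_cancel]⟩
    · exact ⟨255, by omega, by rw [conj_mul, e, hxz]⟩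
  obtain ⟨Q, hQ, hQo⟩ := over_spec hB hBc hsB
  rw [← card_cmap x A] at hbig
  have hle := card_le_setFix hB hBc hQo (fun q hq => qMul_self_of_over hsB ((hQo q).1 hq)) true
    (fun _ => hBP)
  have haB : x * a * x⁻¹ ∈ cmap x A := mem_cmap.2 haA
  have hab : x * a * x⁻¹ * (x * a * x⁻¹) = eW 255 := by rw [conj_mul, haa, hxz]
  rcases subs_cases hQ with rfl | ⟨-, rfl | hlt⟩
  · obtain ⟨v, hv, e⟩ := in_frame_of_one hB hQo haB
    rw [e, eW_sq hv] at hab
    exact hz1 hab.symm
  · obtain ⟨s, hs', es⟩ := exists_sW hB haB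
    have h0 : s / 256 ≠ 0 := fun h => by
      rw [← es, sW_frame (by omega : s < 256), eW_sq (by omega)] at hab
      exact hz1 hab.symm
    have hsB' : sW s ∈ cmap x A := es ▸ haB
    have hs255 : sSq s = 255 := by
      rw [← es, sW_mul hs' hs', ← sW_frame (by omega : 255 < 256)] at hab
      exact sW_injective (sMul_spec hs' hs').1 (by omega) hab
    have h := tri_use tri_root hBc hBP hs' hsB' hs255 ((hQo _).2 ⟨s, hs', hsB', rfl⟩) h0
      (fun q hq => by
        obtain ⟨t, ht, htA, e⟩ := (hQo q).1 hq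
        obtain ⟨g, hg, eg⟩ := cmap_spec htA
        rcases hg with hg | hg
        · refine Or.inl ⟨t, ht, htA, sSq_eq_zero ht ?_, e⟩
          rw [eg, conj_mul, hsF g hg, mul_one, mul_inv_cancel]
        · refine Or.inr ⟨sMul s t, (sMul_spec hs' ht).1, ?_, sSq_eq_zero (sMul_spec hs' ht).1 ?_, ?_⟩
          · rw [← sW_mul hs' ht]; exact mul_mem hsB' htA
          · rw [← sW_mul hs' ht, es, eg, conj_mul, conj_mul, hsF _ hg, mul_one, mul_inv_cancel]
          · rw [(sMul_spec hs' ht).2.2, e])
    exact absurd h (by decide)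
  · omega

end Cfsg.Agent.Lib.E8Frame76
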