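import Cfsg.Agent.Lib.E8Frame76.Adm

/-!
# The orbit of fifteen is impossible

Two involutions of the affine group act as transvections on the orbit's span but have different
numbers of fixed masks.
-/

set_option autoImplicit false

namespace Cfsg.Agent.Lib.E8Frame76

open Cfsg.Agent.Lib.Compute

variable {b : Bool} {H : Subgroup (Equiv.Perm (MV b))}

theorem inOpt_basis : inOpt 528 255 = true ∧ inOpt 528 170 = true ∧ inOpt 528 204 = true ∧
    inOpt 528 240 = true ∧ inOpt 528 0 = false := by decide +kernel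

theorem inOpt_even : ∀ v < 256, inOpt 528 v = true → evenMask v = true := by decide +kernel

theorem perm_of_inOpt {v : ℕ} (hv : v < 256) (h : inOpt 528 v = true) :
    ∃ a b c d : Bool, v = (bif a then 255 else 0) ^^^ ((bif b then 170 else 0) ^^^
      ((bif c then 204 else 0) ^^^ (bif d then 240 else 0))) := by
  have h' := plane_span
  simp only [List.all_eq_true, List.mem_range, Bool.or_eq_true, Bool.not_eq_true'] at h'
  rcases h' v hv with h'' | h''
  · rw [h] at h''; exact absurd h'' (by decide)
  simp only [List.any_eq_true] at h''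
  obtain ⟨a, ha, b, hb, c, hc, d, hd, e⟩ := h''
  simp only [List.mem_cons, List.not_mem_nil, or_false] at ha hb hc hd
  refine ⟨a == 255, b == 170, c == 204, d == 240, ?_⟩
  rw [Nat.eq_of_beq_eq_true e]
  rcases ha with rfl | rfl <;> rcases hb with rfl | rfl <;> rcases hc with rfl | rfl <;>
    rcases hd with rfl | rfl <;> rfl

theorem InU.of_even {v : ℕ} (hv : v < 256) (h : evenMask v = true) : InU b v := ⟨hv, Or.inr h⟩

/-- The span of the orbit, as masks. -/
def inSpan (v : ℕ) : Prop := v = 0 ∨ inOpt 528 v = true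

theorem Adm.not_fifteen (A : Adm H) (hO : ∀ x : MV b, x ∈ orbSet H ↔ inOpt 528 x.1 = true) : False := by
  classical
  let mk : ∀ v : ℕ, v < 256 → inOpt 528 v = true → MV b := fun v hv h => ⟨v, InU.of_even hv (inOpt_even v hv h)⟩
  let m0 : MV b := mk 170 (by omega) inOpt_basis.2.1
  let m1 : MV b := mk 204 (by omega) inOpt_basis.2.2.1
  let m2 : MV b := mk 240 (by omega) inOpt_basis.2.2.2.1
  -- an element of the group moving the full mask to the centre
  obtain ⟨h, hh, hhc⟩ := (hO m0).2 inOpt_basis.2.1
  -- the axis functional, pulled back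
  let φ : MV b → Bool := fun x => !Nat.beq (aglAct axisIdx x.1) x.1
  obtain ⟨p, hp, hpx⟩ := A.exists_agl (k := axisIdx) (by
    have := axis_spec
    simp only [Bool.and_eq_true] at this
    simpa [Nat.blt_eq] using this.1.1.1.1)
  have hax := axis_spec
  simp only [Bool.and_eq_true] at hax
  obtain ⟨⟨⟨⟨hk, hp0⟩, hpw⟩, hp2⟩, hp1⟩ := hax
  have hp0 : p m0 = m0 := Subtype.ext ((hpx m0).trans (Nat.eq_of_beq_eq_true hp0))
  have hpw : p vtop = vtop := Subtype.ext ((hpx vtop).trans (Nat.eq_of_beq_eq_true hpw))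
  have hp2 : p m2 = m2 := Subtype.ext ((hpx m2).trans (Nat.eq_of_beq_eq_true hp2))
  have hp1 : p m1 = vadd m1 m0 := Subtype.ext ((hpx m1).trans (Nat.eq_of_beq_eq_true hp1))
  -- every member of the span
  have hspan : ∀ x : MV b, x ∈ orbSet H → ∃ a c d e : Bool, x = vadd (bif a then vtop else vzero)
      (vadd (bif c then m0 else vzero) (vadd (bif d then m1 else vzero) (bif e then m2 else vzero))) := by
    intro x hx
    obtain ⟨a, c, d, e, he⟩ := perm_of_inOpt x.2.1 ((hO x).1 hx)
    refine ⟨a, c, d, e, Subtype.ext ?_⟩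
    rw [he]
    cases a <;> cases c <;> cases d <;> cases e <;> rfl
  have hadd := A.add
  have hv0 : ∀ x : MV b, vadd x vzero = x := fun x => Subtype.ext (Nat.xor_zero _)
  have hv0' : ∀ x : MV b, vadd vzero x = x := fun x => Subtype.ext (Nat.zero_xor _)
  have hself : ∀ x : MV b, vadd x x = vzero := fun x => Subtype.ext (Nat.xor_self _)
  have hcomm : ∀ x y : MV b, vadd x y = vadd y x := fun x y => Subtype.ext (Nat.xor_comm _ _)
  have hassoc : ∀ x y z : MV b, vadd (vadd x y) z = vadd x (vadd y z) := fun x y z =>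
    Subtype.ext (Nat.xor_assoc _ _ _)
  have hlc : ∀ x y z : MV b, vadd x (vadd y z) = vadd y (vadd x z) := fun x y z => by
    rw [← hassoc, hcomm x y, hassoc]
  -- on the span the axis element adds a multiple of the centre
  have hpform : ∀ y ∈ orbSet H, p y = y ∨ p y = vadd y m0 := by
    intro y hy
    obtain ⟨a, c, d, e, rfl⟩ := hspan y hy
    cases a <;> cases c <;> cases d <;> cases e <;>
      simp only [cond_true, cond_false, hadd p hp, hpw, hp0, hp1, hp2, A.map_zero hp] <;>
      first
        | exact Or.inl trivial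
        | exact Or.inl rfl
        | (right; simp only [hassoc, hcomm m0, hlc m0, hv0, hv0']; done)
        | (right; exact Subtype.ext rfl)
    -- the values on the basis choose a translation
  have hm : ∀ {v : ℕ} (hv : v < 256) (hi : inOpt 528 v = true), h (mk v hv hi) ∈ orbSet H :=
    fun hv hi => orbSet_smul ((hO _).2 hi) hh
  let bit : MV b → ℕ := fun y => bif φ y then 1 else 0
  set a := bit (h m0) + 2 * bit (h m1) + 4 * bit (h m2) with ha
  have hbit : ∀ y, bit y < 2 := fun y => by cases hφ : φ y <;> simp [bit, hφ]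
  have halt : a < 8 := by
    have := hbit (h m0); have := hbit (h m1); have := hbit (h m2)
    omega
  have htr := trans_spec
  simp only [List.all_eq_true, List.mem_range, forceNat_eq, Bool.and_eq_true] at htr
  obtain ⟨⟨hkt, htw⟩, htm⟩ := htr a halt
  have hkt : transIdx.getD a 0 < 1344 := by simpa [Nat.blt_eq] using hkt
  obtain ⟨t, ht, htx⟩ := A.exists_agl hkt
  have htw : t vtop = vtop := Subtype.ext ((htx vtop).trans (Nat.eq_of_beq_eq_true htw))
  have htb : ∀ (q v : ℕ) (hv : v < 256) (hi : inOpt 528 v = true), (q, v) ∈ [(0, 170), (1, 204), (2, 240)] →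
      t (mk v hv hi) = bif Nat.beq (Nat.mod (Nat.div a (2 ^ q)) 2) 1 then vadd (mk v hv hi) vtop
        else mk v hv hi := by
    intro q v hv hi hmem
    have := Nat.eq_of_beq_eq_true (List.all_eq_true.1 (List.all_eq_true.2 htm) _ hmem)
    refine Subtype.ext ((htx _).trans (this.trans ?_))
    cases Nat.beq (Nat.mod (Nat.div a (2 ^ q)) 2) 1 <;> rfl
  have hφ : ∀ y, y ∈ orbSet H → p y = bif φ y then vadd y m0 else y := by
    intro y hy
    cases hb : φ y with
    | false =>
      refine Subtype.ext ((hpx y).trans ?_)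
      simp only [φ, Bool.not_eq_false'] at hb
      exact Nat.eq_of_beq_eq_true hb
    | true =>
      rcases hpform y hy with e | e
      · simp only [φ, Bool.not_eq_true'] at hb
        rw [← hpx, e, Nat.beq_refl] at hb
        exact absurd hb (by decide)
      · exact e
  -- the conjugate of the translation agrees with the axis element on the basis
  have hconj : ∀ (q v : ℕ) (hv : v < 256) (hi : inOpt 528 v = true), (q, v) ∈ [(0, 170), (1, 204), (2, 240)] →
      Nat.beq (Nat.mod (Nat.div a (2 ^ q)) 2) 1 = φ (h (mk v hv hi)) →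
      p (h (mk v hv hi)) = h (t (mk v hv hi)) := by
    intro q v hv hi hmem hb
    rw [hφ _ (hm hv hi), htb q v hv hi hmem, hb]
    cases φ (h (mk v hv hi))
    · rfl
    · rw [cond_true, cond_true, hadd h hh, hhc]
  have hba : Nat.beq (Nat.mod (Nat.div a (2 ^ 0)) 2) 1 = φ (h m0) ∧
      Nat.beq (Nat.mod (Nat.div a (2 ^ 1)) 2) 1 = φ (h m1) ∧
      Nat.beq (Nat.mod (Nat.div a (2 ^ 2)) 2) 1 = φ (h m2) := by
    rw [ha]
    simp only [bit]
    cases φ (h m0) <;> cases φ (h m1) <;> cases φ (h m2) <;> decide +kernel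
  have e0 := hconj 0 170 (by omega) inOpt_basis.2.1 (by simp) hba.1
  have e1 := hconj 1 204 (by omega) inOpt_basis.2.2.1 (by simp) hba.2.1
  have e2 := hconj 2 240 (by omega) inOpt_basis.2.2.2.1 (by simp) hba.2.2
  -- the quotient fixes the basis, hence is the twist
  have hg : (p⁻¹ * (h * t * h⁻¹)) ∈ H := mul_mem (inv_mem hp) (mul_mem (mul_mem hh ht) (inv_mem hh))
  set g := p⁻¹ * (h * t * h⁻¹) with hgdef
  have hgh : ∀ y, p (h y) = h (t y) → g (h y) = h y := by
    intro y e
    simp [g, ← e]
  have hgw : g (h vtop) = h vtop := hgh _ (by rw [htw, hhc]; exact hp0)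
  have hgfix : ∀ x ∈ orbSet H, g x = x := by
    intro x hx
    obtain ⟨a', c, d, e, he⟩ := hspan (h⁻¹ x) (orbSet_smul hx (inv_mem hh))
    have hx' : x = h (h⁻¹ x) := by simp
    rw [hx', he]
    cases a' <;> cases c <;> cases d <;> cases e <;>
      simp only [cond_true, cond_false, hadd h hh, hadd g hg, hgw, hgh _ e0, hgh _ e1, hgh _ e2,
        A.map_zero hh, A.map_zero hg, m0, m1, m2]
  obtain ⟨k, hk', s, hgs⟩ := A.stab g hg (hgfix _ orbSet_top)
  have hk0 : k = 0 := by
    by_contra hne
    have h' := plane_fix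
    simp only [List.all_eq_true, List.mem_range, Bool.or_eq_true] at h'
    rcases h' k hk' with e | e
    · exact hne (Nat.eq_of_beq_eq_true e)
    simp only [List.any_eq_true, Bool.not_eq_true'] at e
    obtain ⟨v, hv, hv'⟩ := e
    have hvv : v < 256 ∧ inOpt 528 v = true := by
      simp only [List.mem_cons, List.not_mem_nil, or_false] at hv
      rcases hv with rfl | rfl | rfl
      · exact ⟨by omega, inOpt_basis.2.1⟩
      · exact ⟨by omega, inOpt_basis.2.2.1⟩
      · exact ⟨by omega, inOpt_basis.2.2.2.1⟩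
    have := hgs (mk v hvv.1 hvv.2)
    rw [hgfix _ ((hO _).2 hvv.2),
      twistM_even ((aglAct_even hk' hvv.1).trans (inOpt_even v hvv.1 hvv.2))] at this
    rw [show aglAct k v = v from this.symm, Nat.beq_refl] at hv'
    exact absurd hv' (by decide)
  subst hk0
  -- the fixed counts
  have hk : axisIdx < 1344 := by simpa [Nat.blt_eq] using hk
  have hfix : ∀ x : MV b, (t x).1 = x.1 ↔ (h * t * h⁻¹) (h x) = h x := by
    intro x
    simp [Subtype.ext_iff.symm]
  have hrel : ∀ y, ((h * t * h⁻¹) y).1 = twistM s (aglAct axisIdx y.1) := by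
    intro y
    have e : (h * t * h⁻¹) y = p (g y) := by simp [g]
    rw [e, hpx, hgs, aglAct_zero_eq y.2.1]
    cases s
    · rfl
    · exact aglAct_twist hk y.2.1
  have hcard : Nat.card {x : MV b // Nat.beq (aglAct (transIdx.getD a 0) x.1) x.1 = true} =
      Nat.card {x : MV b // Nat.beq (twistM s (aglAct axisIdx x.1)) x.1 = true} := by
    refine Nat.card_congr (Equiv.subtypeEquiv h fun x => ?_)
    rw [← hrel, ← htx]
    constructor
    · intro e
      rw [(hfix x).1 (Nat.eq_of_beq_eq_true e)]
      exact Nat.beq_refl _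
    · intro e
      rw [(hfix x).2 (Subtype.ext (Nat.eq_of_beq_eq_true e))]
      exact Nat.beq_refl _
  rw [natCard_filter b fun v => Nat.beq (aglAct (transIdx.getD a 0) v) v,
    natCard_filter b fun v => Nat.beq (twistM s (aglAct axisIdx v)) v] at hcard
  have hd := fix_differ
  simp only [List.all_eq_true, List.mem_range, forceNat_eq, Bool.or_eq_true] at hd
  have hd := hd b (by cases b <;> simp) s (by cases s <;> simp) a halt
  rcases hd with e | e
  · -- the translation is trivial: the axis element would fix the span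
    have ha0 := Nat.eq_of_beq_eq_true e
    have h1 := hba
    rw [ha0] at h1
    have := hpform (h m0) (hm (by omega) inOpt_basis.2.1)
    have hm1 : p m1 = m1 := by
      obtain ⟨c1, c2, c3, c4, he⟩ := hspan (h⁻¹ m1) (orbSet_smul ((hO m1).2 inOpt_basis.2.2.1) (inv_mem hh))
      have hx' : m1 = h (h⁻¹ m1) := by simp
      rw [hx', he]
      have z0 : Nat.beq (Nat.mod (Nat.div 0 (2 ^ 0)) 2) 1 = false ∧ Nat.beq (Nat.mod (Nat.div 0 (2 ^ 1)) 2) 1 = false ∧
          Nat.beq (Nat.mod (Nat.div 0 (2 ^ 2)) 2) 1 = false := by decide +kernel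
      obtain ⟨z0, z1, z2⟩ := z0
      have f0 : p (h m0) = h m0 := by rw [hφ _ (hm (by omega) inOpt_basis.2.1), ← h1.1, z0]; rfl
      have f1 : p (h m1) = h m1 := by rw [hφ _ (hm (by omega) inOpt_basis.2.2.1), ← h1.2.1, z1]; rfl
      have f2 : p (h m2) = h m2 := by rw [hφ _ (hm (by omega) inOpt_basis.2.2.2.1), ← h1.2.2, z2]; rfl
      have fw : p (h vtop) = h vtop := by rw [hhc]; exact hp0
      cases c1 <;> cases c2 <;> cases c3 <;> cases c4 <;>
        simp only [cond_true, cond_false, hadd h hh, hadd p hp, fw, f0, f1, f2, A.map_zero hh, A.map_zero hp]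
    rw [hp1] at hm1
    exact absurd (show (204 : ℕ) ^^^ 170 = 204 from congrArg Subtype.val hm1) (by decide)
  · simp only [Bool.not_eq_true', Bool.eq_false_iff, ne_eq] at e
    refine e ?_
    show Nat.beq (fixMasks b _) (fixMasks b _) = true
    rw [show fixMasks b (aglAct (transIdx.getD a 0)) = fixMasks b (fun v => twistM s (aglAct axisIdx v)) from hcard]
    exact Nat.beq_refl _

end Cfsg.Agent.Lib.E8Frame76
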