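import Cfsg.Agent.Lib.E8Frame76.Iface
import Cfsg.Agent.Lib.E8Frame76.CheckAct

/-!
# The elements normalising the frame subgroup act on the masks through the affine group
-/

set_option autoImplicit false

namespace Cfsg.Agent.Lib.E8Frame76

open Cfsg.Agent.Lib.Compute

/-- Number of roots fixed by a permutation. -/
def fixNum (g : PR) : ℕ := (Finset.univ.filter fun i : Fin 240 => g i = i).card

theorem fixNum_conj (x g : PR) : fixNum (x * g * x⁻¹) = fixNum g := by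
  unfold fixNum
  rw [← Finset.card_map x.toEmbedding (s := Finset.univ.filter fun i => g i = i)]
  refine congrArg Finset.card ?_
  ext i
  rw [Finset.mem_map_equiv, Finset.mem_filter, Finset.mem_filter]
  simp only [Finset.mem_univ, true_and, Equiv.Perm.mul_apply, Equiv.Perm.inv_def]
  exact (Equiv.eq_symm_apply x).symm

theorem fixCode_enc (g : PR) : fixCode (Cr.enc g) = fixNum g := by
  unfold fixCode fixNum
  rw [List.countP_eq_length_filter]
  have hn : ((List.range 240).filter fun i => Nat.beq (getP 8 (Cr.enc g) i) i).Nodup :=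
    List.nodup_range.filter _
  rw [← List.toFinset_card_of_nodup hn]
  refine (Finset.card_bij (s := Finset.univ.filter fun i : Fin 240 => g i = i) (fun i _ => (i : ℕ)) ?_ ?_ ?_).symm
  · intro i hi
    simp only [Finset.mem_filter, Finset.mem_univ, true_and] at hi
    simp only [List.mem_toFinset, List.mem_filter, List.mem_range, Nat.beq_eq]
    refine ⟨i.isLt, ?_⟩
    rw [permCoding_enc, getP_encP le_256 (Equiv.refl _) g i.isLt]
    simp [imgP, hi]
  · exact fun a _ b _ h => Fin.ext h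
  · intro i hi
    simp only [List.mem_toFinset, List.mem_filter, List.mem_range, Nat.beq_eq] at hi
    obtain ⟨hi, h⟩ := hi
    rw [permCoding_enc, getP_encP le_256 (Equiv.refl _) g hi] at h
    refine ⟨⟨i, hi⟩, ?_, rfl⟩
    simp only [Finset.mem_filter, Finset.mem_univ, true_and]
    exact Fin.ext (by simpa [imgP, hi] using h)

/-- Fixed points are kept by conjugation. -/
theorem fixCode_eq {x : PR} {v u : ℕ} (hv : v < 256) (hu : u < 256) (h : x * eW v * x⁻¹ = eW u) :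
    fixCode (eCode u) = fixCode (eCode v) := by
  rw [← enc_eW hu, ← enc_eW hv, fixCode_enc, fixCode_enc, ← h, fixNum_conj]

theorem class_facts' {v : ℕ} (hv : v < 256) :
    (fixCode (eCode v) = 126 ↔ classOf v = 1) ∧
    (fixCode (eCode v) = 60 ∧ evenMask v = true ↔ classOf v = 2) ∧
    (fixCode (eCode v) = 24 → evenMask v = true → labOf v = 0) ∧
    (classOf v = 1 → v = 2 ^ bitPos v) ∧
    (classOf v = 2 → ∃ a b, a < 8 ∧ b < 8 ∧ a ≠ b ∧ v = 2 ^ a ^^^ 2 ^ b) := by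
  have h := List.all_eq_true.1 fix_class v (List.mem_range.2 hv)
  simp only [forceNat_eq, Bool.and_eq_true, beq_iff_eq, Bool.or_eq_true, Bool.not_eq_true',
    Nat.beq_eq] at h
  obtain ⟨⟨⟨⟨h1, h2⟩, h3⟩, h4⟩, h5⟩ := h
  have e : ∀ n m : ℕ, Nat.beq n m = true ↔ n = m := fun n m =>
    ⟨Nat.eq_of_beq_eq_true, fun h => h ▸ Nat.beq_refl n⟩
  have hb : ∀ w, bitPos w < 8 := by
    intro w
    unfold bitPos
    have : ∀ (l : List ℕ) (r : ℕ), r < 8 → (∀ i ∈ l, i < 8) →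
        l.foldl (fun r i => bif w.testBit i then i else r) r < 8 := by
      intro l
      induction l with
      | nil => exact fun r hr _ => hr
      | cons i l ih =>
        intro r hr hl
        refine ih _ ?_ fun j hj => hl j (List.mem_cons_of_mem _ hj)
        show (bif w.testBit i then i else r) < 8
        cases w.testBit i
        · exact hr
        · exact hl i List.mem_cons_self
    exact this _ 0 (by omega) fun i hi => List.mem_range.1 hi
  refine ⟨?_, ?_, fun hn he => ?_, fun hc => ?_, fun hc => ?_⟩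
  · rw [← e, ← e, h1]
  · rw [← e, ← e, ← Bool.and_eq_true, h2]
  · rcases h3 with h3 | h3
    · rw [he, hn] at h3; simp at h3
    · exact h3
  · rcases h4 with h4 | h4
    · rw [hc] at h4; simp at h4
    · exact h4
  · rcases h5 with h5 | h5
    · rw [hc] at h5; simp at h5
    · exact ⟨_, _, hb _, hb _, fun hab => by rw [hab] at h5; simp at h5, h5.2⟩

theorem pair_spec {a b : ℕ} (ha : a < 8) (hb : b < 8) (hab : a ≠ b) :
    classOf (2 ^ a ^^^ 2 ^ b) = 2 ∧ evenMask (2 ^ a ^^^ 2 ^ b) = true := by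
  have h := List.all_eq_true.1 (List.all_eq_true.1 pair_class a (List.mem_range.2 ha)) b
    (List.mem_range.2 hb)
  simp only [Bool.or_eq_true, Bool.and_eq_true, Nat.beq_eq] at h
  exact h.resolve_left hab

theorem single_spec {a : ℕ} (ha : a < 8) : classOf (2 ^ a) = 1 :=
  Nat.eq_of_beq_eq_true (List.all_eq_true.1 single_class a (List.mem_range.2 ha))

theorem plane_spec {v : ℕ} (hv : v ∈ [15, 51, 85, 150]) :
    fixCode (eCode v) = 24 ∧ evenMask v = true := by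
  have h := List.all_eq_true.1 plane_count v hv
  simp only [Bool.and_eq_true, Nat.beq_eq] at h
  exact h

theorem four_spec {a b c d : ℕ} (ha : a < 8) (hb : b < 8) (hc : c < 8) (hd : d < 8)
    (hab : a ≠ b) (hac : a ≠ c) (had : a ≠ d) (hbc : b ≠ c) (hbd : b ≠ d) (hcd : c ≠ d)
    (habcd : a ^^^ b ^^^ c ≠ d) :
    ∃ k < 1344, aglPerm k 0 = a ∧ aglPerm k 1 = b ∧ aglPerm k 2 = c ∧ aglPerm k 3 = a ^^^ b ^^^ c ∧
      aglPerm k 4 = d ∧ aglPerm k 5 = a ^^^ b ^^^ d ∧ aglPerm k 6 = a ^^^ c ^^^ d ∧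
      aglPerm k 7 = b ^^^ c ^^^ d := by
  have h := List.all_eq_true.1 (List.all_eq_true.1 (List.all_eq_true.1 (List.all_eq_true.1 four_points
    a (List.mem_range.2 ha)) b (List.mem_range.2 hb)) c (List.mem_range.2 hc)) d (List.mem_range.2 hd)
  simp only [forceNat_eq, Bool.or_eq_true, Bool.and_eq_true, Nat.beq_eq] at h
  rcases h with ((((((h | h) | h) | h) | h) | h) | h) | h
  · exact absurd h hab
  · exact absurd h hac
  · exact absurd h had
  · exact absurd h hbc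
  · exact absurd h hbd
  · exact absurd h hcd
  · exact absurd h habcd
  · obtain ⟨⟨⟨⟨⟨⟨⟨⟨h0, h1⟩, h2⟩, h3⟩, h4⟩, h5⟩, h6⟩, h7⟩, h8⟩ := h
    exact ⟨_, by simpa [Nat.blt_eq] using h0, h1, h2, h3, h4, h5, h6, h7, h8⟩

/-- An injective map of the points keeping the sums along four planes is affine. -/
theorem exists_agl (σ : ℕ → ℕ) (hlt : ∀ i < 8, σ i < 8)
    (hinj : ∀ i < 8, ∀ j < 8, σ i = σ j → i = j)
    (h3 : σ 0 ^^^ σ 1 ^^^ σ 2 ^^^ σ 3 = 0) (h5 : σ 0 ^^^ σ 1 ^^^ σ 4 ^^^ σ 5 = 0)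
    (h6 : σ 0 ^^^ σ 2 ^^^ σ 4 ^^^ σ 6 = 0) (h7 : σ 1 ^^^ σ 2 ^^^ σ 4 ^^^ σ 7 = 0) :
    ∃ k < 1344, ∀ i < 8, aglPerm k i = σ i := by
  have e3 := Nat.xor_eq_zero_iff.1 h3
  have hne : ∀ i j : ℕ, i < 8 → j < 8 → i ≠ j → σ i ≠ σ j := fun i j hi hj h e => h (hinj i hi j hj e)
  obtain ⟨k, hk, k0, k1, k2, k3, k4, k5, k6, k7⟩ := four_spec (hlt 0 (by omega)) (hlt 1 (by omega))
    (hlt 2 (by omega)) (hlt 4 (by omega)) (hne 0 1 (by omega) (by omega) (by omega))
    (hne 0 2 (by omega) (by omega) (by omega)) (hne 0 4 (by omega) (by omega) (by omega))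
    (hne 1 2 (by omega) (by omega) (by omega)) (hne 1 4 (by omega) (by omega) (by omega))
    (hne 2 4 (by omega) (by omega) (by omega))
    (e3 ▸ hne 3 4 (by omega) (by omega) (by omega))
  refine ⟨k, hk, fun i hi => ?_⟩
  interval_cases i
  · exact k0
  · exact k1
  · exact k2
  · exact k3.trans e3
  · exact k4
  · exact k5.trans (Nat.xor_eq_zero_iff.1 h5)
  · exact k6.trans (Nat.xor_eq_zero_iff.1 h6)
  · exact k7.trans (Nat.xor_eq_zero_iff.1 h7)

theorem labOf_xor (v u : ℕ) : labOf (v ^^^ u) = labOf v ^^^ labOf u := linExt_xor _ v u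

theorem labOf_pow {a : ℕ} (ha : a < 8) : labOf (2 ^ a) = a := linExt_pow _ ha

theorem conj_mul' {x : PR} {v u v' u' : ℕ} (hv : v < 256) (hv' : v' < 256) (hu : u < 256)
    (hu' : u' < 256) (h : x * eW v * x⁻¹ = eW u) (h' : x * eW v' * x⁻¹ = eW u') :
    x * eW (v ^^^ v') * x⁻¹ = eW (u ^^^ u') := by
  rw [eW_xor hv hv', eW_xor hu hu', ← h, ← h']
  group

theorem conj_inj {x : PR} {v v' u : ℕ} (hv : v < 256) (hv' : v' < 256)
    (h : x * eW v * x⁻¹ = eW u) (h' : x * eW v' * x⁻¹ = eW u) : v = v' :=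
  eW_injective hv hv' (mul_left_cancel (mul_right_cancel (h.trans h'.symm)))

theorem planeEven (σ : ℕ → ℕ) (hlt : ∀ i < 8, σ i < 8) {x : PR}
    (hpair : ∀ i < 8, ∀ j < 8, i ≠ j →
      x * eW (2 ^ i ^^^ 2 ^ j) * x⁻¹ = eW (2 ^ σ i ^^^ 2 ^ σ j))
    {p q r s : ℕ} (hp : p < 8) (hq : q < 8) (hr : r < 8) (hs : s < 8) (hpq : p ≠ q) (hrs : r ≠ s)
    (hmem : 2 ^ p ^^^ 2 ^ q ^^^ (2 ^ r ^^^ 2 ^ s) ∈ [15, 51, 85, 150])
    (hσ : σ p ≠ σ q ∧ σ r ≠ σ s) : σ p ^^^ σ q ^^^ σ r ^^^ σ s = 0 := by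
  have b : ∀ i < 8, (2 : ℕ) ^ i < 256 := fun i hi => pow_lt_256 hi
  have hv := xorM_lt (xorM_lt (b p hp) (b q hq)) (xorM_lt (b r hr) (b s hs))
  have hu := xorM_lt (xorM_lt (b _ (hlt p hp)) (b _ (hlt q hq)))
    (xorM_lt (b _ (hlt r hr)) (b _ (hlt s hs)))
  have he := conj_mul' (xorM_lt (b p hp) (b q hq)) (xorM_lt (b r hr) (b s hs))
    (xorM_lt (b _ (hlt p hp)) (b _ (hlt q hq))) (xorM_lt (b _ (hlt r hr)) (b _ (hlt s hs)))
    (hpair p hp q hq hpq) (hpair r hr s hs hrs)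
  have hev : evenMask (2 ^ σ p ^^^ 2 ^ σ q ^^^ (2 ^ σ r ^^^ 2 ^ σ s)) = true := by
    rw [evenMask_xor (xorM_lt (b _ (hlt p hp)) (b _ (hlt q hq)))
      (xorM_lt (b _ (hlt r hr)) (b _ (hlt s hs))),
      (pair_spec (hlt p hp) (hlt q hq) hσ.1).2, (pair_spec (hlt r hr) (hlt s hs) hσ.2).2]
    rfl
  have h := (class_facts' hu).2.2.1 ((fixCode_eq hv hu he).trans (plane_spec hmem).1) hev
  simp only [labOf_xor, labOf_pow (hlt p hp), labOf_pow (hlt q hq), labOf_pow (hlt r hr),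
    labOf_pow (hlt s hs)] at h
  rwa [← Nat.xor_assoc] at h

/-- From the images of the pairs to an affine permutation. -/
theorem agl_of_pairs (σ : ℕ → ℕ) (hlt : ∀ i < 8, σ i < 8)
    (hinj : ∀ i < 8, ∀ j < 8, σ i = σ j → i = j) {x : PR}
    (hpair : ∀ i < 8, ∀ j < 8, i ≠ j →
      x * eW (2 ^ i ^^^ 2 ^ j) * x⁻¹ = eW (2 ^ σ i ^^^ 2 ^ σ j)) :
    ∃ k < 1344, ∀ i < 8, aglPerm k i = σ i := by
  have hne : ∀ i j : ℕ, i < 8 → j < 8 → i ≠ j → σ i ≠ σ j := fun i j hi hj h e => h (hinj i hi j hj e)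
  refine exists_agl σ hlt hinj ?_ ?_ ?_ ?_
  · exact planeEven σ hlt hpair (p := 0) (q := 1) (r := 2) (s := 3) (by omega) (by omega) (by omega)
      (by omega) (by omega) (by omega) (by decide) ⟨hne _ _ (by omega) (by omega) (by omega),
      hne _ _ (by omega) (by omega) (by omega)⟩
  · exact planeEven σ hlt hpair (p := 0) (q := 1) (r := 4) (s := 5) (by omega) (by omega) (by omega)
      (by omega) (by omega) (by omega) (by decide) ⟨hne _ _ (by omega) (by omega) (by omega),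
      hne _ _ (by omega) (by omega) (by omega)⟩
  · exact planeEven σ hlt hpair (p := 0) (q := 2) (r := 4) (s := 6) (by omega) (by omega) (by omega)
      (by omega) (by omega) (by omega) (by decide) ⟨hne _ _ (by omega) (by omega) (by omega),
      hne _ _ (by omega) (by omega) (by omega)⟩
  · exact planeEven σ hlt hpair (p := 1) (q := 2) (r := 4) (s := 7) (by omega) (by omega) (by omega)
      (by omega) (by omega) (by omega) (by decide) ⟨hne _ _ (by omega) (by omega) (by omega),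
      hne _ _ (by omega) (by omega) (by omega)⟩

theorem fullAct : FullActStmt := by
  intro x _ hx
  choose f hf hfx using hx
  let g : ℕ → ℕ := fun v => if h : v < 256 then f v h else 0
  have hg : ∀ v < 256, g v < 256 ∧ x * eW v * x⁻¹ = eW (g v) := fun v hv => by
    simp only [g, dif_pos hv]; exact ⟨hf v hv, hfx v hv⟩
  let σ : ℕ → ℕ := fun i => bitPos (g (2 ^ i))
  have hsingle : ∀ i < 8, g (2 ^ i) = 2 ^ σ i := by
    intro i hi
    obtain ⟨hu, he⟩ := hg _ (pow_lt_256 hi)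
    refine (class_facts' hu).2.2.2.1 ((class_facts' hu).1.1 ?_)
    rw [fixCode_eq (pow_lt_256 hi) hu he]
    exact (class_facts' (pow_lt_256 hi)).1.2 (single_spec hi)
  have hlt : ∀ i < 8, σ i < 8 := by
    intro i hi
    by_contra hc
    have := (hg _ (pow_lt_256 hi)).1
    rw [hsingle i hi] at this
    have h2 := Nat.pow_le_pow_right (show 1 ≤ 2 by omega) (Nat.le_of_not_lt hc)
    omega
  have hone : ∀ i < 8, x * eW (2 ^ i) * x⁻¹ = eW (2 ^ σ i) := fun i hi => by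
    rw [← hsingle i hi]; exact (hg _ (pow_lt_256 hi)).2
  have hinj : ∀ i < 8, ∀ j < 8, σ i = σ j → i = j := by
    intro i hi j hj h
    have h' := hone j hj
    rw [← h] at h'
    exact Nat.pow_right_injective le_rfl (conj_inj (pow_lt_256 hi) (pow_lt_256 hj) (hone i hi) h')
  obtain ⟨k, hk, hks⟩ := agl_of_pairs σ hlt hinj (x := x) fun i hi j hj _ =>
    conj_mul' (pow_lt_256 hi) (pow_lt_256 hj) (pow_lt_256 (hlt i hi)) (pow_lt_256 (hlt j hj))
      (hone i hi) (hone j hj)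
  refine ⟨k, hk, mask_induction _ ?_ ?_⟩
  · rw [aglAct_null, eW_zero]; group
  · intro v hv i hi h
    rw [aglAct_add, aglAct_bit k hi, hks i hi]
    exact conj_mul' hv (pow_lt_256 hi) (aglAct_lt hk hv) (pow_lt_256 (hlt i hi)) h (hone i hi)

theorem star_spec {a b c p q : ℕ} (ha : a < 8) (hb : b < 8) (hc : c < 8) (hp : p < 8) (hq : q < 8)
    (hab : a ≠ b) (hac : a ≠ c) (hbc : b ≠ c) (hpq : p ≠ q)
    (h1 : classOf (2 ^ p ^^^ 2 ^ q ^^^ (2 ^ a ^^^ 2 ^ b)) = 2)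
    (h2 : classOf (2 ^ p ^^^ 2 ^ q ^^^ (2 ^ a ^^^ 2 ^ c)) = 2)
    (h3 : 2 ^ p ^^^ 2 ^ q ≠ 2 ^ b ^^^ 2 ^ c) : p = a ∨ q = a := by
  have h := List.all_eq_true.1 (List.all_eq_true.1 (List.all_eq_true.1 (List.all_eq_true.1
    (List.all_eq_true.1 star_ok a (List.mem_range.2 ha)) b (List.mem_range.2 hb)) c
    (List.mem_range.2 hc)) p (List.mem_range.2 hp)) q (List.mem_range.2 hq)
  simp only [Bool.or_eq_true, Nat.beq_eq, Bool.not_eq_true', isPair] at h
  rcases h with (((((((h | h) | h) | h) | h) | h) | h) | h) | h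
  · exact absurd h hab
  · exact absurd h hac
  · exact absurd h hbc
  · exact absurd h hpq
  · exact Or.inl h
  · exact Or.inr h
  · exact absurd h (Bool.eq_false_iff.not.2 (not_not.2 (by
      show Nat.beq (classOf (2 ^ p ^^^ 2 ^ q ^^^ (2 ^ a ^^^ 2 ^ b))) 2 = true
      rw [h1]; rfl)))
  · exact absurd h (Bool.eq_false_iff.not.2 (not_not.2 (by
      show Nat.beq (classOf (2 ^ p ^^^ 2 ^ q ^^^ (2 ^ a ^^^ 2 ^ c))) 2 = true
      rw [h2]; rfl)))
  · exact absurd h h3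

theorem meet_spec {a b c d : ℕ} (ha : a < 8) (hb : b < 8) (hc : c < 8) (hd : d < 8) (hab : a ≠ b)
    (hcd : c ≠ d) (h : classOf (2 ^ a ^^^ 2 ^ b ^^^ (2 ^ c ^^^ 2 ^ d)) = 2) :
    ∃ m p q, m < 8 ∧ p < 8 ∧ q < 8 ∧ m ≠ p ∧ m ≠ q ∧ p ≠ q ∧
      2 ^ a ^^^ 2 ^ b = 2 ^ m ^^^ 2 ^ p ∧ 2 ^ c ^^^ 2 ^ d = 2 ^ m ^^^ 2 ^ q := by
  have h' := List.all_eq_true.1 (List.all_eq_true.1 (List.all_eq_true.1 (List.all_eq_true.1 meet_ok
    a (List.mem_range.2 ha)) b (List.mem_range.2 hb)) c (List.mem_range.2 hc)) d (List.mem_range.2 hd)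
  simp only [Bool.or_eq_true, Bool.and_eq_true, Nat.beq_eq, Bool.not_eq_true', isPair] at h'
  have nb : ∀ {n m : ℕ}, Nat.beq n m = false → n ≠ m := fun {n m} e he => by
    rw [he, Nat.beq_refl] at e; exact Bool.noConfusion e
  rcases h' with ((h' | h') | h') | ((h' | h') | h') | h'
  · exact absurd h' hab
  · exact absurd h' hcd
  · exact absurd h (nb h')
  · obtain ⟨rfl, e⟩ := h'
    exact ⟨a, b, d, ha, hb, hd, hab, hcd, nb e, rfl, rfl⟩
  · obtain ⟨rfl, e⟩ := h'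
    exact ⟨a, b, c, ha, hb, hc, hab, hcd.symm, nb e, rfl, Nat.xor_comm _ _⟩
  · obtain ⟨rfl, e⟩ := h'
    exact ⟨b, a, d, hb, ha, hd, hab.symm, hcd, nb e, Nat.xor_comm _ _, rfl⟩
  · obtain ⟨rfl, e⟩ := h'
    exact ⟨b, a, c, hb, ha, hc, hab.symm, hcd.symm, nb e, Nat.xor_comm _ _, Nat.xor_comm _ _⟩

theorem xor_pairs (a b c : ℕ) : (a ^^^ b) ^^^ (a ^^^ c) = b ^^^ c := by
  rw [Nat.xor_assoc, ← Nat.xor_assoc b, Nat.xor_comm b a, Nat.xor_assoc a b, ← Nat.xor_assoc,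
    Nat.xor_self, Nat.zero_xor]

theorem evenAct : EvenActStmt := by
  intro x _ hx
  choose f hf hfe hfx using hx
  let g : ℕ → ℕ := fun v => if h : v < 256 ∧ evenMask v = true then f v h.1 h.2 else 0
  have hg : ∀ v < 256, evenMask v = true →
      g v < 256 ∧ evenMask (g v) = true ∧ x * eW v * x⁻¹ = eW (g v) := fun v hv he => by
    simp only [g, dif_pos (And.intro hv he)]; exact ⟨hf v hv he, hfe v hv he, hfx v hv he⟩
  have b8 : ∀ i < 8, ∀ j < 8, (2 : ℕ) ^ i ^^^ 2 ^ j < 256 := fun i hi j hj =>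
    xorM_lt (pow_lt_256 hi) (pow_lt_256 hj)
  -- pairs go to pairs
  have hP : ∀ i < 8, ∀ j < 8, i ≠ j → ∃ a b, a < 8 ∧ b < 8 ∧ a ≠ b ∧
      x * eW (2 ^ i ^^^ 2 ^ j) * x⁻¹ = eW (2 ^ a ^^^ 2 ^ b) := by
    intro i hi j hj hij
    obtain ⟨h1, h2⟩ := pair_spec hi hj hij
    obtain ⟨hu, hue, he⟩ := hg _ (b8 i hi j hj) h2
    have hc : classOf (g (2 ^ i ^^^ 2 ^ j)) = 2 := (class_facts' hu).2.1.1
      ⟨(fixCode_eq (b8 i hi j hj) hu he).trans ((class_facts' (b8 i hi j hj)).2.1.2 h1).1, hue⟩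
    obtain ⟨a, b, ha, hb, hab, e⟩ := (class_facts' hu).2.2.2.2 hc
    exact ⟨a, b, ha, hb, hab, e ▸ he⟩
  have sumP : ∀ {v v' u u' : ℕ}, v < 256 → v' < 256 → u < 256 → u' < 256 →
      evenMask (u ^^^ u') = true → classOf (v ^^^ v') = 2 →
      x * eW v * x⁻¹ = eW u → x * eW v' * x⁻¹ = eW u' → classOf (u ^^^ u') = 2 := by
    intro v v' u u' hv hv' hu hu' hev hc h h'
    exact (class_facts' (xorM_lt hu hu')).2.1.1
      ⟨(fixCode_eq (xorM_lt hv hv') (xorM_lt hu hu') (conj_mul' hv hv' hu hu' h h')).trans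
        ((class_facts' (xorM_lt hv hv')).2.1.2 hc).1, hev⟩
  have evp : ∀ {a b c d : ℕ}, a < 8 → b < 8 → c < 8 → d < 8 → a ≠ b → c ≠ d →
      evenMask (2 ^ a ^^^ 2 ^ b ^^^ (2 ^ c ^^^ 2 ^ d)) = true := by
    intro a b c d ha hb hc hd hab hcd
    rw [evenMask_xor (b8 a ha b hb) (b8 c hc d hd), (pair_spec ha hb hab).2, (pair_spec hc hd hcd).2]
    rfl
  -- the common point of the images of the pairs at the first point
  obtain ⟨a₁, b₁, ha₁, hb₁, h₁, e₁⟩ := hP 0 (by omega) 1 (by omega) (by omega)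
  obtain ⟨a₂, b₂, ha₂, hb₂, h₂, e₂⟩ := hP 0 (by omega) 2 (by omega) (by omega)
  have hm := sumP (b8 0 (by omega) 1 (by omega)) (b8 0 (by omega) 2 (by omega)) (b8 _ ha₁ _ hb₁)
    (b8 _ ha₂ _ hb₂) (evp ha₁ hb₁ ha₂ hb₂ h₁ h₂)
    (by rw [xor_pairs]; exact (pair_spec (by omega) (by omega) (by omega)).1) e₁ e₂
  obtain ⟨m, p₁, p₂, hm8, hp₁, hp₂, hmp₁, hmp₂, hp12, f₁, f₂⟩ := meet_spec ha₁ hb₁ ha₂ hb₂ h₁ h₂ hm
  rw [f₁] at e₁
  rw [f₂] at e₂
  have e12 : x * eW (2 ^ 1 ^^^ 2 ^ 2) * x⁻¹ = eW (2 ^ p₁ ^^^ 2 ^ p₂) := by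
    have := conj_mul' (b8 0 (by omega) 1 (by omega)) (b8 0 (by omega) 2 (by omega))
      (b8 _ hm8 _ hp₁) (b8 _ hm8 _ hp₂) e₁ e₂
    rwa [xor_pairs, xor_pairs] at this
  have hstar : ∀ i < 8, i ≠ 0 → ∃ s < 8, m ≠ s ∧
      x * eW (2 ^ 0 ^^^ 2 ^ i) * x⁻¹ = eW (2 ^ m ^^^ 2 ^ s) := by
    intro i hi hi0
    by_cases h1 : i = 1
    · subst h1; exact ⟨p₁, hp₁, hmp₁, e₁⟩
    by_cases h2 : i = 2
    · subst h2; exact ⟨p₂, hp₂, hmp₂, e₂⟩
    obtain ⟨a, b, ha, hb, hab, e⟩ := hP 0 (by omega) i hi (Ne.symm hi0)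
    have s1 := sumP (b8 0 (by omega) i hi) (b8 0 (by omega) 1 (by omega)) (b8 _ ha _ hb)
      (b8 _ hm8 _ hp₁) (evp ha hb hm8 hp₁ hab hmp₁)
      (by rw [xor_pairs]; exact (pair_spec hi (by omega) h1).1) e e₁
    have s2 := sumP (b8 0 (by omega) i hi) (b8 0 (by omega) 2 (by omega)) (b8 _ ha _ hb)
      (b8 _ hm8 _ hp₂) (evp ha hb hm8 hp₂ hab hmp₂)
      (by rw [xor_pairs]; exact (pair_spec hi (by omega) h2).1) e e₂
    have s3 : 2 ^ a ^^^ 2 ^ b ≠ 2 ^ p₁ ^^^ 2 ^ p₂ := by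
      intro h
      rw [h] at e
      have h' := conj_inj (b8 0 (by omega) i hi) (b8 1 (by omega) 2 (by omega)) e e12
      revert h'
      interval_cases i <;> decide
    rcases star_spec hm8 hp₁ hp₂ ha hb hmp₁ hmp₂ hp12 hab s1 s2 s3 with rfl | rfl
    · exact ⟨b, hb, hab, e⟩
    · exact ⟨a, ha, hab.symm, by rw [e, Nat.xor_comm]⟩
  choose s hs8 hsm hse using hstar
  let σ : ℕ → ℕ := fun i => if h : i < 8 ∧ i ≠ 0 then s i h.1 h.2 else m
  have hσ : ∀ i, (hi : i < 8) → (h0 : i ≠ 0) → σ i = s i hi h0 := fun i hi h0 => by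
    simp only [σ, dif_pos (And.intro hi h0)]
  have hσ0 : σ 0 = m := dif_neg (by omega)
  have hlt : ∀ i < 8, σ i < 8 := fun i hi => by
    by_cases h0 : i = 0
    · rw [h0, hσ0]; exact hm8
    · rw [hσ i hi h0]; exact hs8 i hi h0
  have hzero : ∀ i < 8, i ≠ 0 → x * eW (2 ^ 0 ^^^ 2 ^ i) * x⁻¹ = eW (2 ^ σ 0 ^^^ 2 ^ σ i) :=
    fun i hi h0 => by rw [hσ0, hσ i hi h0]; exact hse i hi h0
  have hpair : ∀ i < 8, ∀ j < 8, i ≠ j →
      x * eW (2 ^ i ^^^ 2 ^ j) * x⁻¹ = eW (2 ^ σ i ^^^ 2 ^ σ j) := by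
    intro i hi j hj hij
    by_cases h0 : i = 0
    · subst h0; exact hzero j hj (Ne.symm hij)
    by_cases h0' : j = 0
    · subst h0'; rw [Nat.xor_comm, hzero i hi h0, Nat.xor_comm]
    have := conj_mul' (b8 0 (by omega) i hi) (b8 0 (by omega) j hj)
      (b8 _ (hlt 0 (by omega)) _ (hlt i hi)) (b8 _ (hlt 0 (by omega)) _ (hlt j hj))
      (hzero i hi h0) (hzero j hj h0')
    rwa [xor_pairs, xor_pairs] at this
  have hinj : ∀ i < 8, ∀ j < 8, σ i = σ j → i = j := by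
    intro i hi j hj h
    by_contra hij
    have h' := hpair i hi j hj hij
    rw [h, Nat.xor_self, eW_zero] at h'
    have h1 : eW (2 ^ i ^^^ 2 ^ j) = eW 0 := by
      rw [eW_zero]; exact conj_eq_one_iff.1 h'
    have h2 := Nat.xor_eq_zero_iff.1 (eW_injective (b8 i hi j hj) (by omega) h1)
    exact hij (Nat.pow_right_injective le_rfl h2)
  obtain ⟨k, hk, hks⟩ := agl_of_pairs σ hlt hinj hpair
  refine ⟨k, hk, fun v hv he => ?_⟩
  have key : ∀ v < 256, ∀ v', v' = (if evenMask v then v else v ^^^ 1) →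
      x * eW v' * x⁻¹ = eW (aglAct k v') := by
    refine mask_induction _ ?_ ?_
    · rintro v' rfl
      rw [if_pos (by decide +kernel : evenMask 0 = true), aglAct_null, eW_zero]
      group
    · rintro v hv i hi h v' rfl
      have h' := h _ rfl
      have hpr : x * eW (1 ^^^ 2 ^ i) * x⁻¹ = eW (aglAct k (1 ^^^ 2 ^ i)) := by
        by_cases h0 : i = 0
        · subst h0
          rw [pow_zero, Nat.xor_self, aglAct_null, eW_zero]; group
        · rw [show (1 : ℕ) = 2 ^ 0 from rfl, aglAct_add, aglAct_bit k (by omega : 0 < 8),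
            aglAct_bit k hi, hks 0 (by omega), hks i hi]
          exact hpair 0 (by omega) i hi (Ne.symm h0)
      have hw : (if evenMask v then v else v ^^^ 1) < 256 := by
        split
        · exact hv
        · exact xorM_lt hv (by omega)
      have h1 : (1 : ℕ) ^^^ 2 ^ i < 256 := xorM_lt (by omega) (pow_lt_256 hi)
      have e : (if evenMask (v ^^^ 2 ^ i) then v ^^^ 2 ^ i else v ^^^ 2 ^ i ^^^ 1) =
          (if evenMask v then v else v ^^^ 1) ^^^ (1 ^^^ 2 ^ i) := by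
        rw [evenMask_flip hv hi]
        cases evenMask v <;> simp [Nat.xor_assoc, Nat.xor_comm (2 ^ i) 1]
      rw [e, aglAct_add]
      exact conj_mul' hw h1 (aglAct_lt hk hw) (aglAct_lt hk h1) h' hpr
  exact key v hv v (by rw [if_pos he])

theorem genFact : GenStmt := by
  intro j hj
  obtain ⟨g, hg, hg1, -⟩ := pairOK_pathEval Cr plusOK plusChain_ok (aglPaths.getD j [])
  refine ⟨g, hg, mask_induction _ ?_ ?_⟩
  · rw [genAct_zero j hj, eW_zero]; group
  · intro v hv i hi h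
    rw [genAct_bit hj hv hi]
    refine conj_mul' hv (pow_lt_256 hi) (genAct_spec hj hv).1 (genAct_spec hj (pow_lt_256 hi)).1 h ?_
    rw [mul_inv_eq_iff_eq_mul]
    refine Cr.inj ?_
    rw [enc_mul', enc_mul', enc_eW (pow_lt_256 hi), enc_eW (genAct_spec hj (pow_lt_256 hi)).1, hg1]
    have hc := List.all_eq_true.1 gen_paths j (List.mem_range.2 hj)
    rw [forceNat_eq] at hc
    exact Nat.eq_of_beq_eq_true (List.all_eq_true.1 hc i (List.mem_range.2 hi))

theorem aglFive : AglFiveStmt := by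
  intro k hk h v hv _
  have hc := List.all_eq_true.1 five_fix k (List.mem_range.2 hk)
  simp only [Bool.or_eq_true, Bool.not_eq_true', List.all_eq_false, List.all_eq_true, List.mem_range,
    forceNat_eq] at hc
  rcases hc with ⟨i, hi, hc⟩ | hc
  · refine absurd ?_ hc
    show Nat.beq _ _ = true
    have hp := pair_spec (a := 0) (b := i + 1) (by omega) (by omega) (by omega)
    have h5 := h _ (xorM_lt (pow_lt_256 (by omega : 0 < 8)) (pow_lt_256 (by omega : i + 1 < 8))) hp.2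
    simp only [Function.iterate_succ, Function.iterate_zero, Function.comp_apply, id_eq] at h5
    rw [show Nat.xor 1 (Nat.pow 2 (Nat.add i 1)) = 2 ^ 0 ^^^ 2 ^ (i + 1) from rfl, h5]
    exact Nat.beq_refl _
  · refine mask_induction (fun v => aglAct k v = v) (aglAct_null k) (fun u _ i hi e => ?_) v hv
    rw [aglAct_add, e, aglAct_bit k hi, Nat.eq_of_beq_eq_true (hc i hi)]

end Cfsg.Agent.Lib.E8Frame76
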