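import Cfsg.Agent.Lib.E8Frame76.Orbit

/-!
# The normaliser of a frame subgroup centralises the image of the full mask
-/

set_option autoImplicit false

namespace Cfsg.Agent.Lib.E8Frame76

variable {G : Type*} [Group G] {b : Bool}

theorem commute_of_frame (Φ : MV b → G) (hinj : Function.Injective Φ)
    (hadd : ∀ x y, Φ (vadd x y) = Φ x * Φ y) {w : G} (htop : Φ vtop = w)
    (hstab : ∀ h : G, Commute h w → (∀ x, ∃ y, h * Φ x * h⁻¹ = Φ y) →
      ∃ k < 1344, ∃ t : Bool, ∀ x : MV b, ∃ y : MV b,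
        y.1 = twistM t (aglAct k x.1) ∧ h * Φ x * h⁻¹ = Φ y)
    (hgen : ∀ j < 2, ∃ h : G, ∀ x : MV b, ∃ y : MV b, y.1 = genAct j x.1 ∧ h * Φ x * h⁻¹ = Φ y)
    {h : G} (hh : ∀ x, ∃ y, h * Φ x * h⁻¹ = Φ y) : Commute h w := by
  have hperm : ∀ {h : G}, (∀ x, ∃ y, h * Φ x * h⁻¹ = Φ y) →
      ∃ π : Equiv.Perm (MV b), ∀ x, h * Φ x * h⁻¹ = Φ (π x) := by
    intro h hh
    choose f hf using hh
    refine ⟨Equiv.ofBijective f (Finite.injective_iff_bijective.1 fun x y e => hinj ?_), hf⟩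
    have := (hf x).trans ((congrArg Φ e).trans (hf y).symm)
    exact mul_left_cancel (mul_right_cancel this)
  let H : Subgroup (Equiv.Perm (MV b)) :=
    { carrier := {π | ∃ h : G, ∀ x, h * Φ x * h⁻¹ = Φ (π x)}
      one_mem' := ⟨1, fun x => by simp⟩
      mul_mem' := by
        rintro π σ ⟨a, ha⟩ ⟨c, hc⟩
        refine ⟨a * c, fun x => ?_⟩
        rw [Equiv.Perm.mul_apply, ← ha, ← hc]
        group
      inv_mem' := by
        rintro π ⟨a, ha⟩
        refine ⟨a⁻¹, fun x => ?_⟩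
        have := ha (π⁻¹ x)
        rw [show π (π⁻¹ x) = x from π.apply_symm_apply x] at this
        rw [← this]
        group }
  have A : Adm H := by
    refine ⟨?_, ?_, ?_⟩
    · rintro π ⟨a, ha⟩ x y
      refine hinj ?_
      rw [hadd, ← ha, ← ha, ← ha, hadd]
      group
    · rintro π ⟨a, ha⟩ e
      have hc : Commute a w := by
        have := ha vtop
        rw [e, htop] at this
        exact mul_inv_eq_iff_eq_mul.1 this
      obtain ⟨k, hk, t, ht⟩ := hstab a hc fun x => ⟨π x, ha x⟩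
      refine ⟨k, hk, t, fun x => ?_⟩
      obtain ⟨y, hy, hye⟩ := ht x
      rw [hinj ((ha x).symm.trans hye), hy]
    · intro j hj
      obtain ⟨a, ha⟩ := hgen j hj
      obtain ⟨π, hπ⟩ := hperm (h := a) fun x => let ⟨y, _, hy⟩ := ha x; ⟨y, hy⟩
      refine ⟨π, ⟨a, hπ⟩, fun x => ?_⟩
      obtain ⟨y, hy, hye⟩ := ha x
      rw [hinj ((hπ x).symm.trans hye), hy]
  obtain ⟨π, hπ⟩ := hperm hh
  have h1 := hπ vtop
  rw [A.fix_top π ⟨h, hπ⟩, htop] at h1
  exact mul_inv_eq_iff_eq_mul.1 h1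

end Cfsg.Agent.Lib.E8Frame76
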