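import Cfsg.Agent.Lib.E8Frame76.Inner
import Cfsg.Agent.Lib.E8Frame76.FrameFix

/-!
# The frame subgroups of the Weyl group
-/

set_option autoImplicit false

namespace Cfsg.Agent.Lib.E8Frame76

/-- The frame subgroup. -/
def AW : Subgroup PR where
  carrier := {x | ∃ v < 256, x = eW v}
  one_mem' := ⟨0, by omega, eW_zero.symm⟩
  mul_mem' := by
    rintro _ _ ⟨v, hv, rfl⟩ ⟨u, hu, rfl⟩
    exact ⟨v ^^^ u, xorM_lt hv hu, (eW_xor hv hu).symm⟩
  inv_mem' := by
    rintro _ ⟨v, hv, rfl⟩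
    exact ⟨v, hv, eW_inv hv⟩

theorem eW_mem_iff {v : ℕ} (hv : v < 256) : eW v ∈ WP ↔ evenMask v = true := by
  have := mem_plus_iff_even hv (q := 0) (by omega)
  rwa [lW_zero, mul_one] at this

theorem eW_mem_AW {v : ℕ} (hv : v < 256) : eW v ∈ AW := ⟨v, hv, rfl⟩

theorem AW_sq : ∀ x ∈ AW, x ^ 2 = 1 := by
  rintro _ ⟨v, hv, rfl⟩
  rw [pow_two, eW_sq hv]

theorem AW_comm : ∀ x ∈ AW, ∀ y ∈ AW, Commute x y := by
  rintro _ ⟨v, hv, rfl⟩ _ ⟨u, hu, rfl⟩
  exact eW_comm hv hu

theorem AW_le : AW ≤ WF := by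
  rintro _ ⟨v, hv, rfl⟩
  exact eW_mem hv

theorem card_AW : 256 ≤ Nat.card AW := by
  refine le_of_eq_of_le (Nat.card_fin 256).symm
    (Nat.card_le_card_of_injective (fun v : Fin 256 => (⟨eW v, eW_mem_AW v.2⟩ : AW)) fun a b h => ?_)
  exact Fin.ext (eW_injective a.2 b.2 (congrArg Subtype.val h))

/-- The even frame subgroup. -/
noncomputable def AP : Subgroup ↥WP := AW.comap WP.subtype

theorem evenRep_spec : ∀ i < 128, evenMask (bif evenMask (2 * i) then 2 * i else 2 * i + 1) = true := by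
  decide +kernel

theorem card_AP : 128 ≤ Nat.card AP := by
  let f : Fin 128 → AP := fun i =>
    ⟨⟨eW (bif evenMask (2 * i.1) then 2 * i.1 else 2 * i.1 + 1),
      eW_mem_plus (by cases evenMask (2 * i.1) <;> simp <;> omega) (evenRep_spec i.1 i.2)⟩,
      ⟨_, by cases evenMask (2 * i.1) <;> simp <;> omega, rfl⟩⟩
  refine le_of_eq_of_le (Nat.card_fin 128).symm (Nat.card_le_card_of_injective f fun a b h => ?_)
  have h' := eW_injective (by cases evenMask (2 * a.1) <;> simp <;> omega)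
    (by cases evenMask (2 * b.1) <;> simp <;> omega)
    (congrArg (fun z : AP => ((z : ↥WP) : PR)) h)
  have hc : ∀ (p q : Bool) (i j : ℕ),
      (bif p then 2 * i else 2 * i + 1) = (bif q then 2 * j else 2 * j + 1) → i = j := by
    intro p q i j
    cases p <;> cases q <;> simp only [cond_true, cond_false] <;> omega
  exact Fin.ext (hc _ _ _ _ h')

/-- A point of the frame subgroup. -/
noncomputable def fW (x : MV true) : ↥WF := ⟨eW x.1, eW_mem x.2.1⟩

/-- A point of the even frame subgroup. -/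
noncomputable def pW (x : MV false) : ↥WP := ⟨eW x.1, eW_mem_plus x.2.1 x.even⟩

theorem fW_add (x y : MV true) : fW (vadd x y) = fW x * fW y := Subtype.ext (eW_xor x.2.1 y.2.1)

theorem pW_add (x y : MV false) : pW (vadd x y) = pW x * pW y := Subtype.ext (eW_xor x.2.1 y.2.1)

theorem fW_inj : Function.Injective fW := fun x y h =>
  Subtype.ext (eW_injective x.2.1 y.2.1 (congrArg Subtype.val h))

theorem pW_inj : Function.Injective pW := fun x y h =>
  Subtype.ext (eW_injective x.2.1 y.2.1 (congrArg Subtype.val h))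

theorem pW_top : pW vtop = zW := rfl

end Cfsg.Agent.Lib.E8Frame76
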