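import Cfsg.Prelude.Def_KGroupFacts
import Cfsg.Agent.Lib.Schur.Cover
import Cfsg.Agent.Lib.Compute.SchurLie.FourCover

/-!
# A perfect double cover is one of three given ones

If the multiplier of `T` is at most a four-group and three double covers of `T` are told apart by two
commuting pairs, then every perfect double cover of `T` is isomorphic to one of the three.
-/

set_option autoImplicit false

namespace Cfsg.Agent.Lib.E8Frame76

open Subgroup
open scoped commutatorElement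

theorem ker_two_cases {X T : Type} [Group X] [Group T] (τ : X →* T) (hk : Nat.card τ.ker = 2)
    {x y : X} (hx : τ x = 1) (hy : τ y = 1) (hx1 : x ≠ 1) (hy1 : y ≠ 1) : x = y ∧ x * y = 1 := by
  obtain ⟨w, -, huniq⟩ := (Nat.card_eq_two_iff' (1 : τ.ker)).1 hk
  have hu : ∀ {z : X} (hz : τ z = 1), z ≠ 1 → z = (w : X) := fun {z} hz hz1 =>
    congrArg Subtype.val (huniq ⟨z, hz⟩ fun h => hz1 (congrArg Subtype.val h))
  have hxy : x = y := (hu hx hx1).trans (hu hy hy1).symm
  refine ⟨hxy, ?_⟩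
  subst hxy
  by_contra hne
  have h2 : x * x = x := (hu (by rw [map_mul, hx, one_mul]) hne).trans (hu hx hx1).symm
  exact hx1 (mul_eq_left.1 h2)

theorem surjective_of_two {D X T : Type} [Group D] [Group X] [Group T] (τ : X →* T)
    (hk : Nat.card τ.ker = 2) (f : D →* X) (σ : D →* T) (hσ : Function.Surjective σ)
    (hf : ∀ d, τ (f d) = σ d) {z : D} (hz : σ z = 1) (hz1 : f z ≠ 1) : Function.Surjective f := by
  intro x
  obtain ⟨d, hd⟩ := hσ (τ x)
  by_cases he : (f d)⁻¹ * x = 1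
  · exact ⟨d, inv_mul_eq_one.1 he⟩
  · refine ⟨d * z, ?_⟩
    have hkx : τ ((f d)⁻¹ * x) = 1 := by rw [map_mul, map_inv, hf, hd, inv_mul_cancel]
    rw [map_mul, (ker_two_cases τ hk (show τ (f z) = 1 by rw [hf, hz]) hkx hz1 he).1,
      mul_inv_cancel_left]

theorem iso_of_four {D L X T : Type} [Group D] [Group L] [Group X] [Group T]
    (π : L →* T) (hπ : Nat.card π.ker = 2) (τ : X →* T) (hτ : Nat.card τ.ker = 2)
    (σ : D →* T) (f : D →* L) (g : D →* X) (hf : ∀ d, π (f d) = σ d) (hg : ∀ d, τ (g d) = σ d)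
    (hfs : Function.Surjective f) (hgs : Function.Surjective g) {z₁ z₂ : D}
    (h₁ : σ z₁ = 1) (h₂ : σ z₂ = 1)
    (hK : ∀ d, σ d = 1 → d = 1 ∨ d = z₁ ∨ d = z₂ ∨ d = z₁ * z₂)
    (e₁ : f z₁ = 1 ↔ g z₁ = 1) (e₂ : f z₂ = 1 ↔ g z₂ = 1) : Nonempty (L ≃* X) := by
  have e₃ : f (z₁ * z₂) = 1 ↔ g (z₁ * z₂) = 1 := by
    have key : ∀ {Y : Type} [Group Y] (ρ : Y →* T) (_ : Nat.card ρ.ker = 2) (k : D →* Y)
        (_ : ∀ d, ρ (k d) = σ d), k (z₁ * z₂) = 1 ↔ (k z₁ = 1 ↔ k z₂ = 1) := by
      intro Y _ ρ hρ k hk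
      rw [map_mul]
      by_cases a : k z₁ = 1
      · simp [a]
      · by_cases b : k z₂ = 1
        · simp [b]
        · simp only [a, b, iff_self, iff_true]
          exact (ker_two_cases ρ hρ (by rw [hk, h₁]) (by rw [hk, h₂]) a b).2
    rw [key π hπ f hf, key τ hτ g hg, e₁, e₂]
  have hker : f.ker = g.ker := by
    ext d
    rw [MonoidHom.mem_ker, MonoidHom.mem_ker]
    by_cases hd : σ d = 1
    · rcases hK d hd with rfl | rfl | rfl | rfl
      · simp
      · exact e₁
      · exact e₂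
      · exact e₃
    · exact iff_of_false (fun h => hd (by rw [← hf, h, map_one]))
        (fun h => hd (by rw [← hg, h, map_one]))
  exact ⟨(QuotientGroup.quotientKerEquivOfSurjective f hfs).symm.trans
    ((QuotientGroup.quotientMulEquivOfEq hker).trans
      (QuotientGroup.quotientKerEquivOfSurjective g hgs))⟩

theorem card_ker_le_four {T Γ : Type} [Group T] [Group Γ] [Finite Γ]
    (hT : Cfsg.HasSchurMultiplier T (Multiplicative (ZMod 2 × ZMod 2))) (σ : Γ →* T)
    (hσ : Cfsg.IsStemExtension σ) : Nat.card σ.ker ≤ 4 := by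
  obtain ⟨p, hp⟩ := hT.2 Γ σ hσ
  refine (Nat.card_le_card_of_surjective p hp).trans ?_
  simp [Nat.card_eq_fintype_card]

/-- The subgroup of quadruples lying over one element. -/
def fibreFour {T L A B C : Type} [Group T] [Group L] [Group A] [Group B] [Group C]
    (π : L →* T) (τa : A →* T) (τb : B →* T) (τc : C →* T) : Subgroup (L × A × B × C) where
  carrier := {p | τa p.2.1 = π p.1 ∧ τb p.2.2.1 = π p.1 ∧ τc p.2.2.2 = π p.1}
  one_mem' := by simp
  mul_mem' := by
    rintro p q ⟨h1, h2, h3⟩ ⟨k1, k2, k3⟩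
    simp [h1, h2, h3, k1, k2, k3]
  inv_mem' := by
    rintro p ⟨h1, h2, h3⟩
    simp [h1, h2, h3]

theorem iso_one_of_three {T L A B C : Type} [Group T] [Group L] [Group A] [Group B] [Group C]
    [Finite L] [Finite A] [Finite B] [Finite C]
    (hT : Cfsg.HasSchurMultiplier T (Multiplicative (ZMod 2 × ZMod 2)))
    (π : L →* T) (hπs : Function.Surjective π) (hπ : Nat.card π.ker = 2) (hL : commutator L = ⊤)
    (τa : A →* T) (has : Function.Surjective τa) (ha : Nat.card τa.ker = 2)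
    (τb : B →* T) (hbs : Function.Surjective τb) (hb : Nat.card τb.ker = 2)
    (τc : C →* T) (hcs : Function.Surjective τc) (hc : Nat.card τc.ker = 2)
    (a a' : A) (b b' : B) (c c' : C) (eab : τa a = τb b) (eac : τa a = τc c)
    (eab' : τa a' = τb b') (eac' : τa a' = τc c')
    (na : ¬ a * a' = a' * a) (nb : ¬ b * b' = b' * b) (cc : c * c' = c' * c)
    (u u' : A) (v v' : B) (w w' : C) (fab : τa u = τb v) (fac : τa u = τc w)
    (fab' : τa u' = τb v') (fac' : τa u' = τc w')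
    (cu : u * u' = u' * u) (nv : ¬ v * v' = v' * v) (nw : ¬ w * w' = w' * w) :
    Nonempty (L ≃* A) ∨ Nonempty (L ≃* B) ∨ Nonempty (L ≃* C) := by
  have hTp : commutator T = ⊤ := by
    rw [← top_le_iff, ← Subgroup.map_top_of_surjective π hπs, ← hL, commutator_def,
      Subgroup.map_commutator]
    exact Subgroup.commutator_mono le_top le_top
  let Y := fibreFour π τa τb τc
  let σ₀ : Y →* T := π.comp ((MonoidHom.fst L (A × B × C)).comp Y.subtype)
  have cen : ∀ {X : Type} [Group X] (ρ : X →* T), Nat.card ρ.ker = 2 → ρ.ker ≤ center X :=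
    fun ρ h => Cfsg.Agent.Lib.Compute.Schur.ker_le_center_of_card_two ρ h
  have hσc : σ₀.ker ≤ center Y := by
    intro z hz
    obtain ⟨h1, h2, h3⟩ := z.2
    have hz : π z.1.1 = 1 := hz
    exact mem_center_iff.2 fun g => Subtype.ext (Prod.ext (mem_center_iff.1 (cen π hπ hz) g.1.1)
      (Prod.ext (mem_center_iff.1 (cen τa ha (h1.trans hz)) g.1.2.1)
        (Prod.ext (mem_center_iff.1 (cen τb hb (h2.trans hz)) g.1.2.2.1)
          (mem_center_iff.1 (cen τc hc (h3.trans hz)) g.1.2.2.2))))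
  -- two elements of the fibre product over each witness
  have lift : ∀ (p : A) (q : B) (r : C), τa p = τb q → τa p = τc r →
      ∃ y : Y, y.1.2 = (p, q, r) := fun p q r h1 h2 => by
    obtain ⟨l, hl⟩ := hπs (τa p)
    exact ⟨⟨(l, p, q, r), hl.symm, h1.symm.trans hl.symm, h2.symm.trans hl.symm⟩, rfl⟩
  obtain ⟨y, hy⟩ := lift a b c eab eac
  obtain ⟨y', hy'⟩ := lift a' b' c' eab' eac'
  obtain ⟨x, hx⟩ := lift u v w fab fac
  obtain ⟨x', hx'⟩ := lift u' v' w' fab' fac'
  -- the derived subgroup is a stem extension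
  have hσ₀ : Function.Surjective σ₀ := fun t => by
    obtain ⟨l, hl⟩ := hπs t
    obtain ⟨p, hp⟩ := has t
    obtain ⟨q, hq⟩ := hbs t
    obtain ⟨r, hr⟩ := hcs t
    exact ⟨⟨(l, p, q, r), hp.trans hl.symm, hq.trans hl.symm, hr.trans hl.symm⟩, hl⟩
  let D := commutator Y
  let σ : D →* T := σ₀.comp D.subtype
  have hDmap : D.map σ₀ = ⊤ := by
    rw [show D = commutator Y from rfl, commutator_def, Subgroup.map_commutator,
      ← MonoidHom.range_eq_map, MonoidHom.range_eq_top.2 hσ₀, ← commutator_def, hTp]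
  have hσs : Function.Surjective σ := fun t => by
    obtain ⟨d, hd, hdt⟩ := hDmap.ge (Subgroup.mem_top t)
    exact ⟨⟨d, hd⟩, hdt⟩
  have hperf : Group.IsPerfect D := by
    rw [Subgroup.isPerfect_iff]
    refine (Cfsg.Agent.Lib.Schur.commutator_eq_of_central_supplement _ σ₀.ker hσc fun z => ?_).symm
    obtain ⟨l, hl, hlz⟩ := hDmap.ge (Subgroup.mem_top (σ₀ z))
    exact ⟨l, hl, l⁻¹ * z, by simp [MonoidHom.mem_ker, hlz], by group⟩
  have hstem : Cfsg.IsStemExtension σ := by
    refine ⟨hσs, fun d hd => mem_center_iff.2 fun e => Subtype.ext ?_, fun d _ => ?_⟩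
    · exact mem_center_iff.1 (hσc (show d.1 ∈ σ₀.ker from hd)) e.1
    · rw [hperf.commutator_eq_top]; exact Subgroup.mem_top d
  have hbound := card_ker_le_four hT σ hstem
  -- the four projections
  let fL : D →* L := (MonoidHom.fst L (A × B × C)).comp (Y.subtype.comp D.subtype)
  let fA : D →* A := ((MonoidHom.fst A (B × C)).comp (MonoidHom.snd L (A × B × C))).comp
    (Y.subtype.comp D.subtype)
  let fB : D →* B := (((MonoidHom.fst B C).comp (MonoidHom.snd A (B × C))).comp
    (MonoidHom.snd L (A × B × C))).comp (Y.subtype.comp D.subtype)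
  let fC : D →* C := (((MonoidHom.snd B C).comp (MonoidHom.snd A (B × C))).comp
    (MonoidHom.snd L (A × B × C))).comp (Y.subtype.comp D.subtype)
  have pL : ∀ d, π (fL d) = σ d := fun d => rfl
  have pA : ∀ d, τa (fA d) = σ d := fun d => d.1.2.1
  have pB : ∀ d, τb (fB d) = σ d := fun d => d.1.2.2.1
  have pC : ∀ d, τc (fC d) = σ d := fun d => d.1.2.2.2
  -- the two commutators
  let z₁ : D := ⟨⁅y, y'⁆, commutator_mem_commutator (mem_top _) (mem_top _)⟩
  let z₂ : D := ⟨⁅x, x'⁆, commutator_mem_commutator (mem_top _) (mem_top _)⟩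
  have a₁ : fA z₁ = ⁅a, a'⁆ := by
    show (⁅y, y'⁆ : Y).1.2.1 = _
    simp [commutatorElement_def, hy, hy']
  have b₁ : fB z₁ = ⁅b, b'⁆ := by
    show (⁅y, y'⁆ : Y).1.2.2.1 = _
    simp [commutatorElement_def, hy, hy']
  have c₁ : fC z₁ = 1 := by
    show (⁅y, y'⁆ : Y).1.2.2.2 = _
    rw [show (⁅y, y'⁆ : Y).1.2.2.2 = ⁅c, c'⁆ by simp [commutatorElement_def, hy, hy']]
    exact commutatorElement_eq_one_iff_mul_comm.2 cc
  have a₂ : fA z₂ = 1 := by
    show (⁅x, x'⁆ : Y).1.2.1 = _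
    rw [show (⁅x, x'⁆ : Y).1.2.1 = ⁅u, u'⁆ by simp [commutatorElement_def, hx, hx']]
    exact commutatorElement_eq_one_iff_mul_comm.2 cu
  have b₂ : fB z₂ = ⁅v, v'⁆ := by
    show (⁅x, x'⁆ : Y).1.2.2.1 = _
    simp [commutatorElement_def, hx, hx']
  have c₂ : fC z₂ = ⁅w, w'⁆ := by
    show (⁅x, x'⁆ : Y).1.2.2.2 = _
    simp [commutatorElement_def, hx, hx']
  have na₁ : fA z₁ ≠ 1 := by rw [a₁]; exact fun h => na (commutatorElement_eq_one_iff_mul_comm.1 h)
  have nb₁ : fB z₁ ≠ 1 := by rw [b₁]; exact fun h => nb (commutatorElement_eq_one_iff_mul_comm.1 h)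
  have nb₂ : fB z₂ ≠ 1 := by rw [b₂]; exact fun h => nv (commutatorElement_eq_one_iff_mul_comm.1 h)
  have nc₂ : fC z₂ ≠ 1 := by rw [c₂]; exact fun h => nw (commutatorElement_eq_one_iff_mul_comm.1 h)
  have s₁ : σ z₁ = 1 := by rw [← pC, c₁, map_one]
  have s₂ : σ z₂ = 1 := by rw [← pA, a₂, map_one]
  have sA := surjective_of_two τa ha fA σ hσs pA s₁ na₁
  have sB := surjective_of_two τb hb fB σ hσs pB s₁ nb₁
  have sC := surjective_of_two τc hc fC σ hσs pC s₂ nc₂
  -- the kernel has just these four elements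
  have hK : ∀ d, σ d = 1 → d = 1 ∨ d = z₁ ∨ d = z₂ ∨ d = z₁ * z₂ := by
    intro d hd
    by_contra hne
    push Not at hne
    obtain ⟨d0, d1, d2, d3⟩ := hne
    classical
    have hp : σ (z₁ * z₂) = 1 := by rw [map_mul, s₁, s₂, one_mul]
    let S : Finset D := {d, 1, z₁, z₂, z₁ * z₂}
    have h12 : z₁ ≠ z₂ := fun h => na₁ (by rw [h, a₂])
    have h01 : (1 : D) ≠ z₁ := fun h => na₁ (by rw [← h, map_one])
    have h02 : (1 : D) ≠ z₂ := fun h => nc₂ (by rw [← h, map_one])
    have h03 : (1 : D) ≠ z₁ * z₂ := fun h => na₁ (by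
      have := congrArg fA h
      rw [map_one, map_mul, a₂, mul_one] at this
      exact this.symm)
    have h13 : z₁ ≠ z₁ * z₂ := fun h => h02 (mul_eq_left.1 h.symm).symm
    have h23 : z₂ ≠ z₁ * z₂ := fun h => h01 (mul_eq_right.1 h.symm).symm
    have hS : S.card = 5 := by simp [S, d0, d1, d2, d3, h12, h01, h02, h03, h13, h23]
    have hsub : (S : Set D) ⊆ (σ.ker : Set D) := by
      intro e he
      simp only [S, Finset.coe_insert, Finset.coe_singleton, Set.mem_insert_iff,
        Set.mem_singleton_iff] at he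
      rcases he with rfl | rfl | rfl | rfl | rfl
      exacts [hd, map_one σ, s₁, s₂, hp]
    have := Nat.card_mono (Set.toFinite _) hsub
    rw [Nat.card_coe_set_eq, Set.ncard_coe_finset, hS] at this
    have hle : Nat.card (σ.ker : Set D) ≤ 4 := hbound
    omega
  -- the projection to `L` is onto and not trivial on the kernel
  have hLne : fL z₁ ≠ 1 ∨ fL z₂ ≠ 1 := by
    by_contra h
    push Not at h
    have hker1 : ∀ d, σ d = 1 → fL d = 1 := by
      intro d hd
      rcases hK d hd with rfl | rfl | rfl | rfl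
      exacts [map_one _, h.1, h.2, by rw [map_mul, h.1, h.2, one_mul]]
    have htop : fL.range = ⊤ := by
      refine top_le_iff.1 (le_of_eq_of_le hL.symm ?_)
      have hsup : ∀ l : L, ∃ r ∈ fL.range, r⁻¹ * l ∈ center L := fun l => by
        obtain ⟨d, hd⟩ := hσs (π l)
        exact ⟨fL d, ⟨d, rfl⟩, cen π hπ (by rw [MonoidHom.mem_ker, map_mul, map_inv, pL, hd,
          inv_mul_cancel])⟩
      rw [_root_.commutator_def, Subgroup.commutator_le]
      intro p _ q _
      obtain ⟨r, hr, hr'⟩ := hsup p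
      obtain ⟨s, hs, hs'⟩ := hsup q
      have hp' : p = r * (r⁻¹ * p) := (mul_inv_cancel_left r p).symm
      have hq' : q = s * (s⁻¹ * q) := (mul_inv_cancel_left s q).symm
      have he : ⁅p, q⁆ = ⁅r, s⁆ := by
        rw [hp', hq']
        exact Cfsg.Agent.Lib.Schur.commutatorElement_mul_central r s hr' hs'
      rw [he, commutatorElement_def]
      exact mul_mem (mul_mem (mul_mem hr hs) (inv_mem hr)) (inv_mem hs)
    obtain ⟨n, hn, -⟩ := (Nat.card_eq_two_iff' (1 : π.ker)).1 hπ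
    obtain ⟨d, hd⟩ := htop.ge (Subgroup.mem_top (n : L))
    exact hn (Subtype.ext (by rw [← hd, hker1 d (by rw [← pL, hd]; exact n.2)]; rfl))
  have sL : Function.Surjective fL :=
    hLne.elim (surjective_of_two π hπ fL σ hσs pL s₁) (surjective_of_two π hπ fL σ hσs pL s₂)
  by_cases l₁ : fL z₁ = 1
  · exact Or.inr (Or.inr (iso_of_four π hπ τc hc σ fL fC pL pC sL sC s₁ s₂ hK
      (iff_of_true l₁ c₁) (iff_of_false (hLne.resolve_left (not_not.2 l₁)) nc₂)))
  · by_cases l₂ : fL z₂ = 1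
    · exact Or.inl (iso_of_four π hπ τa ha σ fL fA pL pA sL sA s₁ s₂ hK
        (iff_of_false l₁ na₁) (iff_of_true l₂ a₂))
    · exact Or.inr (Or.inl (iso_of_four π hπ τb hb σ fL fB pL pB sL sB s₁ s₂ hK
        (iff_of_false l₁ nb₁) (iff_of_false l₂ nb₂)))

end Cfsg.Agent.Lib.E8Frame76
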