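import Cfsg.Agent.Lib.Compute.SchurLie.OPlusEight
import Cfsg.Agent.Lib.E8Frame76.CheckT
import Cfsg.Agent.Lib.E8Frame76.CheckSep

/-!
# The certified group on 120 points is the orthogonal group
-/

set_option autoImplicit false

namespace Cfsg.Agent.Lib.E8Frame76

open Cfsg.Agent.Lib
open Cfsg.Agent.Lib.Compute Cfsg.Agent.Lib.Compute.Schur Cfsg.Agent.Lib.Compute.SchurLie
open scoped Matrix commutatorElement

theorem le_128 : 120 ≤ 2 ^ 7 := by norm_num

/-- The coding of permutations of the 120 points. -/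
noncomputable abbrev Ct : Coding (Equiv.Perm (Fin 120)) (permOps 7 120) :=
  permCoding 7 (Equiv.refl (Fin 120)) le_128

/-- The group on the 120 points. -/
noncomputable def TG : Subgroup (Equiv.Perm (Fin 120)) := genGroup Ct tGens

theorem tOK : GensOK Ct tGens := gensOK_literal _ _ tGens_ok

theorem nonempty_pOmega_TG (F : Type*) [Field F] [Fintype F] (hF : Fintype.card F = 2) :
    Nonempty (Cfsg.POmega F (Cfsg.quadFormPlus 4 F) ≃* TG) := by
  haveI : Fact (Nat.Prime 2) := ⟨Nat.prime_two⟩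
  haveI : CharP F 2 := charP_of_card_eq_prime hF
  let φ : ZMod 2 →+* F := ZMod.castHom (dvd_refl 2) F
  have hφ : Function.Bijective φ :=
    (Fintype.bijective_iff_injective_and_card _).2 ⟨φ.injective, by rw [hF]; rfl⟩
  have hlift : ∀ v : Fin 4 ⊕ Fin 4 → F, ∃ j : Fin 256, v = φ ∘ o8Bits j := fun v => by
    choose w hw using fun a => hφ.2 (v a)
    obtain ⟨j, hj⟩ := o8Bits_surjective w
    exact ⟨j, funext fun a => by rw [Function.comp_apply, hj, hw]⟩
  have hmul : ∀ (M : Matrix (Fin 4 ⊕ Fin 4) (Fin 4 ⊕ Fin 4) (ZMod 2)) (v : Fin 4 ⊕ Fin 4 → ZMod 2),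
      (M.map φ).mulVec (φ ∘ v) = φ ∘ M.mulVec v := fun M v =>
    funext fun a => (RingHom.map_mulVec φ M v a).symm
  have hinvm : ∀ {A B : Matrix (Fin 4 ⊕ Fin 4) (Fin 4 ⊕ Fin 4) (ZMod 2)}, A * B = 1 →
      A.map φ * B.map φ = 1 := fun h => by
    rw [← Matrix.map_mul, h, Matrix.map_one _ (map_zero φ) (map_one φ)]
  let gl : Fin 2 → Bool → Matrix.GeneralLinearGroup (Fin 4 ⊕ Fin 4) F := fun k b =>
    bif b then ⟨(o8Mat k 1).map φ, (o8Mat k 3).map φ, hinvm (o8Mat_inverse k).2.2.1,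
      hinvm (o8Mat_inverse k).2.2.2⟩
    else ⟨(o8Mat k 0).map φ, (o8Mat k 2).map φ, hinvm (o8Mat_inverse k).1, hinvm (o8Mat_inverse k).2.1⟩
  have hmem : ∀ k b, gl k b ∈ Cfsg.isometryGroup F (Cfsg.quadFormPlus 4 F) := by
    intro k b u _
    obtain ⟨j, rfl⟩ := hlift u
    obtain ⟨i, hi⟩ : ∃ i : Fin 4, (gl k b).val = (o8Mat k i).map φ := by
      cases b
      · exact ⟨0, rfl⟩
      · exact ⟨1, rfl⟩
    show Cfsg.quadFormPlus 4 F ((gl k b).val.mulVec _) = _
    rw [hi, hmul]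
    simp only [Cfsg.quadFormPlus, Function.comp_apply, ← map_mul, ← map_sum, o8Mat_form k i j]
  let el : Fin 2 → Bool → Cfsg.isometryGroup F (Cfsg.quadFormPlus 4 F) := fun k b => ⟨gl k b, hmem k b⟩
  let gs : List (Cfsg.isometryGroup F (Cfsg.quadFormPlus 4 F)) :=
    List.ofFn fun k : Fin 2 => ⁅el k false, el k true⁆
  let pts : Fin 120 → (Fin 4 ⊕ Fin 4 → F) := fun j => φ ∘ o8Vec j
  have hinj : Function.Injective pts := fun i j h => o8_inj i j fun a => hφ.1 (congrFun h a)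
  letI : MulAction (Cfsg.isometryGroup F (Cfsg.quadFormPlus 4 F)) (Fin 4 ⊕ Fin 4 → F) :=
    { smul := fun g v => g.1.val.mulVec v
      one_smul := fun v => Matrix.one_mulVec v
      mul_smul := fun a b v => (Matrix.mulVec_mulVec v a.1.val b.1.val).symm }
  have hS : GensOK Ct o8Gens := gensOK_literal _ _ o8Gens_ok
  have hacts : ActsBy 7 pts gs o8Gens := by
    refine ⟨by rw [o8Gens_length]; exact List.length_ofFn, fun k g p hg hp j => ?_⟩
    obtain ⟨hk, rfl⟩ := List.getElem?_eq_some_iff.1 hg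
    obtain ⟨hk', rfl⟩ := List.getElem?_eq_some_iff.1 hp
    have hk2 : k < 2 := lt_of_lt_of_eq hk List.length_ofFn
    obtain ⟨hlt, he⟩ := o8_acts ⟨k, hk2⟩ j
    simp only [List.getD_eq_getElem _ _ hk'] at hlt he
    refine ⟨hlt, ?_⟩
    have hgk : gs[k]'hk = ⁅el ⟨k, hk2⟩ false, el ⟨k, hk2⟩ true⁆ := List.getElem_ofFn hk
    rw [hgk, commutatorElement_def, mul_smul, mul_smul, mul_smul]
    show ((o8Mat _ 0).map φ).mulVec (((o8Mat _ 1).map φ).mulVec
      (((o8Mat _ 2).map φ).mulVec (((o8Mat _ 3).map φ).mulVec (φ ∘ o8Vec j)))) = _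
    rw [hmul, hmul, hmul, hmul]
    funext a
    exact congrArg φ (he a)
  have hidx : (Cfsg.Omega F (Cfsg.quadFormPlus 4 F)).index = 2 := by
    rw [← Classical.coe_plusForm]
    exact Forms.index_Omega_char_two
      ((Classical.plusModel 1).nondegenerate
        (Classical.isotropicNondeg_hypTower Classical.nondeg_zero_fin 1))
      (Or.inr (by decide)) (by decide)
  have hcardH : Nat.card (Cfsg.Omega F (Cfsg.quadFormPlus 4 F)) = Nat.card (genGroup Ct o8Gens) := by
    have hO := (Cfsg.Omega F (Cfsg.quadFormPlus 4 F)).card_mul_index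
    rw [hidx, Classical.natCard_isometryGroup_plus 3, Nat.card_eq_fintype_card (α := F), hF,
      Finset.prod_range_succ, Finset.prod_range_succ, Finset.prod_range_one] at hO
    rw [card_genGroup _ hS o8Chain_ok, o8Chain_size]
    norm_num at hO
    omega
  have hgs : ∀ g ∈ gs, g ∈ Cfsg.Omega F (Cfsg.quadFormPlus 4 F) := fun g hg => by
    obtain ⟨k, rfl⟩ := (List.mem_ofFn' _ _).1 hg
    exact Subgroup.commutator_mem_commutator (Subgroup.mem_top _) (Subgroup.mem_top _)
  obtain ⟨iso⟩ := nonempty_mulEquiv_genGroup le_128 _ pts hinj gs hgs hS hacts hcardH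
  have hz : Subgroup.center (Cfsg.Omega F (Cfsg.quadFormPlus 4 F)) = ⊥ := by
    rw [← Classical.coe_plusForm]
    exact Subgroup.card_eq_one.1 (((Classical.plusModel 1).natCard_center
      (Classical.isotropicNondeg_hypTower Classical.nondeg_zero_fin 1)).2 (Or.inl CharTwo.two_eq_zero))
  exact ⟨((QuotientGroup.quotientMulEquivOfEq hz).trans QuotientGroup.quotientBot).trans
    (iso.trans (MulEquiv.subgroupCongr (by rw [TG, tGens_eq])))⟩

theorem schur_TG : Cfsg.HasSchurMultiplier TG (Multiplicative (ZMod 2 × ZMod 2)) := by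
  haveI : Fact (Nat.Prime 2) := ⟨Nat.prime_two⟩
  obtain ⟨e⟩ := nonempty_pOmega_TG (ZMod 2) (ZMod.card 2)
  exact Cfsg.Agent.Lib.Schur.hasSchurMultiplier_congr
    (schur_POmegaPlus82 (ZMod 2) (ZMod.card 2)) e (MulEquiv.refl _)

end Cfsg.Agent.Lib.E8Frame76
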