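import Cfsg.Agent.Lib.E8Frame76.Iface
import Cfsg.Agent.Lib.E8Frame76.IdentCore
import Cfsg.Agent.Lib.E8Frame76.IdentModel
import Cfsg.Agent.Lib.E8Frame76.CheckCovA
import Cfsg.Agent.Lib.E8Frame76.CheckCovB
import Cfsg.Agent.Lib.E8Frame76.CheckCovC
import Cfsg.Agent.Lib.E8Frame76.CheckPlusB
import Cfsg.Agent.Lib.E8Frame76.CheckPlusC

/-!
# The rotation subgroup is the double cover of the orthogonal group

The three double covers on 360 points restrict to the 240 roots as the rotation subgroup and to the 120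
further points as the orthogonal group; any perfect double cover is one of them.
-/

set_option autoImplicit false

namespace Cfsg.Agent.Lib.E8Frame76

open Cfsg.Agent.Lib.Compute Cfsg.Agent.Lib.Compute.Schur

universe u v

theorem le_512 : 360 ≤ 2 ^ 9 := by norm_num

/-- The coding of permutations of the 360 points. -/
noncomputable abbrev Cx : Coding (Equiv.Perm (Fin 360)) (permOps 9 360) :=
  permCoding 9 (Equiv.refl (Fin 360)) le_512

theorem nonempty_onto_roots {X S : List (ℕ × ℕ)} (hX : GensOK Cx X) (hS : GensOK Cr S)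
    (hb : blockMapCheck 9 8 0 240 X S = true) {L : List Lvl}
    (hL : chainCheck (permOps 9 360) X L = true) {LS : List Lvl}
    (hLS : chainCheck (permOps 8 240) S LS = true) (hsL : chainSize L = 348364800)
    (hsS : chainSize LS = 348364800) (hle : genGroup Cr S ≤ WP) :
    Nonempty (genGroup Cx X ≃* WP) := by
  obtain ⟨τ, hs, hk, -⟩ := exists_restriction_spec (Equiv.refl (Fin 240)) (k := 1) (o := 0)
    one_pos le_512 le_256 (by norm_num) hX hS hb hL hLS (by rw [hsL, hsS])
  have hinj : Function.Injective τ := (MonoidHom.ker_eq_bot_iff τ).1 (Subgroup.card_eq_one.1 hk)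
  have heq : genGroup Cr S = WP := Subgroup.eq_of_le_of_card_ge hle
    (by rw [card_WP, card_genGroup Cr hS hLS, hsS])
  exact ⟨(MulEquiv.ofBijective τ ⟨hinj, hs⟩).trans (MulEquiv.subgroupCongr heq)⟩

theorem exists_onto_TG {X : List (ℕ × ℕ)} (hX : GensOK Cx X) (hb : blockMapCheck 9 7 240 120 X tGens = true)
    {L : List Lvl} (hL : chainCheck (permOps 9 360) X L = true) (hsL : chainSize L = 348364800)
    {pa pb qa qb pa' pb' qa' qb' : List ℕ} {t t' : Bool}
    (h : liftCommCheck 9 7 360 240 120 L tChain pa pb qa qb t = true)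
    (h' : liftCommCheck 9 7 360 240 120 L tChain pa' pb' qa' qb' t' = true) :
    ∃ τ : genGroup Cx X →* TG, Function.Surjective τ ∧ Nat.card τ.ker = 2 ∧
      (∃ x y, Ct.enc (τ x : Equiv.Perm (Fin 120)) = (pathEval (permOps 7 120) tChain qa).1 ∧
        Ct.enc (τ y : Equiv.Perm (Fin 120)) = (pathEval (permOps 7 120) tChain qb).1 ∧
        (x * y = y * x ↔ t = true)) ∧
      ∃ x y, Ct.enc (τ x : Equiv.Perm (Fin 120)) = (pathEval (permOps 7 120) tChain qa').1 ∧
        Ct.enc (τ y : Equiv.Perm (Fin 120)) = (pathEval (permOps 7 120) tChain qb').1 ∧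
        (x * y = y * x ↔ t' = true) := by
  obtain ⟨τ, hs, hk, hp⟩ := exists_restriction_spec (Equiv.refl (Fin 120)) (k := 2) (o := 240)
    two_pos le_512 le_128 (by norm_num) hX tOK hb hL tChain_ok (by rw [hsL, tChain_size])
  exact ⟨τ, hs, hk, exists_lift_comm le_512 le_128 hX hL tOK tChain_ok τ hp h,
    exists_lift_comm le_512 le_128 hX hL tOK tChain_ok τ hp h'⟩

theorem covAOK : GensOK Cx covAGens := gensOK_literal _ _ covAGens_ok

theorem covBOK : GensOK Cx covBGens := gensOK_literal _ _ covBGens_ok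

theorem covCOK : GensOK Cx covCGens := gensOK_literal _ _ covCGens_ok

theorem plusBOK : GensOK Cr plusBGens := gensOK_literal _ _ plusBGens_ok

theorem plusCOK : GensOK Cr plusCGens := gensOK_literal _ _ plusCGens_ok

theorem plusB_le : genGroup Cr plusBGens ≤ WP := by
  refine (Subgroup.closure_le _).2 ?_
  rintro g ⟨p, hp, hg⟩
  exact good_of_sift Cr plusOK plusChain_ok (by rw [hg]; exact List.all_eq_true.1 plusB_sift p hp)

theorem plusC_le : genGroup Cr plusCGens ≤ WP := by
  refine (Subgroup.closure_le _).2 ?_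
  rintro g ⟨p, hp, hg⟩
  exact good_of_sift Cr plusOK plusChain_ok (by rw [hg]; exact List.all_eq_true.1 plusC_sift p hp)

/-- A perfect double cover of the group on 120 points is the rotation subgroup. -/
theorem nonempty_cover_WP {L : Type} [Group L] [Finite L] (π : L →* TG) (hπs : Function.Surjective π)
    (hπ : Nat.card π.ker = 2) (hL : commutator L = ⊤) : Nonempty (↥WP ≃* L) := by
  obtain ⟨τa, has, ha, ⟨a, a', ea, ea', hna⟩, ⟨u, u', eu, eu', hcu⟩⟩ := exists_onto_TG covAOK
    covA_block covAChain_ok covAChain_size covA_sepOne covA_sepTwo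
  obtain ⟨τb, hbs, hb, ⟨b, b', eb, eb', hnb⟩, ⟨v, v', ev, ev', hnv⟩⟩ := exists_onto_TG covBOK
    covB_block covBChain_ok covBChain_size covB_sepOne covB_sepTwo
  obtain ⟨τc, hcs, hc, ⟨c, c', ec, ec', hcc⟩, ⟨w, w', ew, ew', hnw⟩⟩ := exists_onto_TG covCOK
    covC_block covCChain_ok covCChain_size covC_sepOne covC_sepTwo
  have heq : ∀ {x y : TG} {code : ℕ}, Ct.enc (x : Equiv.Perm (Fin 120)) = code →
      Ct.enc (y : Equiv.Perm (Fin 120)) = code → x = y :=
    fun e e' => Subtype.ext (Ct.inj (e.trans e'.symm))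
  obtain ⟨iA⟩ := nonempty_onto_roots covAOK plusOK plus_block covAChain_ok plusChain_ok
    covAChain_size plusChain_size le_rfl
  obtain ⟨iB⟩ := nonempty_onto_roots covBOK plusBOK plusB_block covBChain_ok plusBChain_ok
    covBChain_size plusBChain_size plusB_le
  obtain ⟨iC⟩ := nonempty_onto_roots covCOK plusCOK plusC_block covCChain_ok plusCChain_ok
    covCChain_size plusCChain_size plusC_le
  rcases iso_one_of_three schur_TG π hπs hπ hL τa has ha τb hbs hb τc hcs hc a a' b b' c c'
    (heq ea eb) (heq ea ec) (heq ea' eb') (heq ea' ec')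
    (fun e => Bool.false_ne_true (hna.1 e)) (fun e => Bool.false_ne_true (hnb.1 e)) (hcc.2 rfl)
    u u' v v' w w' (heq eu ev) (heq eu ew) (heq eu' ev') (heq eu' ew')
    (hcu.2 rfl) (fun e => Bool.false_ne_true (hnv.1 e)) (fun e => Bool.false_ne_true (hnw.1 e))
    with ⟨⟨e⟩⟩ | ⟨⟨e⟩⟩ | ⟨⟨e⟩⟩
  · exact ⟨iA.symm.trans e.symm⟩
  · exact ⟨iB.symm.trans e.symm⟩
  · exact ⟨iC.symm.trans e.symm⟩

/-- The rotation subgroup is the double cover of the orthogonal group. -/
theorem ident : IdentStmt.{u, v} := by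
  intro L _ _ F _ _ hF hperf hcard ⟨e⟩
  obtain ⟨eT⟩ := nonempty_pOmega_TG F hF
  let π₁ : L →* TG := (e.trans eT).toMonoidHom.comp (QuotientGroup.mk' (Subgroup.center L))
  have hs₁ : Function.Surjective π₁ :=
    (e.trans eT).surjective.comp (QuotientGroup.mk'_surjective _)
  have hk₁ : π₁.ker = Subgroup.center L := by
    ext x
    simp [π₁]
  obtain ⟨n, ⟨f₀⟩⟩ := Finite.exists_equiv_fin L
  let f : {i : Fin n // True} ≃ L := (Equiv.subtypeUnivEquiv fun _ => trivial).trans f₀.symm
  letI : Group {i : Fin n // True} := f.group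
  let g : {i : Fin n // True} ≃* L := f.mulEquiv
  let π : {i : Fin n // True} →* TG := π₁.comp g.toMonoidHom
  have hk : Nat.card π.ker = 2 := by
    have h : π.ker = π₁.ker.map g.symm.toMonoidHom := by
      rw [Subgroup.map_equiv_eq_comap_symm', MulEquiv.symm_symm]
      rfl
    rw [h, Subgroup.card_map_of_injective g.symm.injective, hk₁, hcard]
  have hp : commutator {i : Fin n // True} = ⊤ := by
    rw [← top_le_iff, ← Subgroup.map_top_of_surjective g.symm.toMonoidHom g.symm.surjective, ← hperf,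
      _root_.commutator_def, Subgroup.map_commutator]
    exact Subgroup.commutator_mono le_top le_top
  obtain ⟨i⟩ := nonempty_cover_WP π (hs₁.comp g.surjective) hk hp
  exact ⟨i.trans g⟩

end Cfsg.Agent.Lib.E8Frame76
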