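import Cfsg.Agent.Lib.E8Frame76.Setup

/-!
# Conjugates of the central involution and elementary subgroups inside the product with the centraliser
-/

set_option autoImplicit false

namespace Cfsg.Agent.Lib.E8Frame76.Conf

open Cfsg

variable {G : Type*} [Group G] [Finite G] {L : Subgroup G} (S : Conf L)

theorem mul_comm_j (a : ↥WP) {c : G} (hc : c ∈ Subgroup.centralizer (L : Set G)) :
    Commute (S.j a) c := hcomm (S.j_mem a) hc

/-- In a product of commuting elements of square one the factor in the subgroup has square one or the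
central involution. -/
theorem sq_dichotomy {a : ↥WP} {c : G} (hc : c ∈ Subgroup.centralizer (L : Set G))
    (h : (S.j a * c) ^ 2 = 1) : (a ^ 2 = 1 ∧ (c = 1 ∨ c = S.w)) ∨ (a ^ 2 = zW ∧ c ^ 2 = S.w) := by
  rw [(S.mul_comm_j a hc).mul_pow] at h
  have ha : S.j a ^ 2 ∈ Subgroup.centralizer (L : Set G) := by
    rw [eq_inv_of_mul_eq_one_left h]
    exact inv_mem (pow_mem hc 2)
  rcases S.inter (pow_mem (S.j_mem a) 2) ha with e | e
  · rw [e, one_mul] at h
    exact Or.inl ⟨S.j_inj (by rw [map_pow, e, map_one]), S.uniq hc h⟩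
  · refine Or.inr ⟨S.j_inj (by rw [map_pow, e]; rfl), ?_⟩
    rw [e] at h
    rw [eq_inv_of_mul_eq_one_right h]
    exact inv_eq_of_mul_eq_one_left S.w_sq

/-- A conjugate of the central involution centralising it lies in the subgroup or outside the product
with the centraliser. -/
theorem conj_mem {g : G} (hs : Commute (g * S.w * g⁻¹) S.w) (hin : S.InLC (g * S.w * g⁻¹)) :
    g * S.w * g⁻¹ ∈ L := by
  set C := Subgroup.centralizer (L : Set G) with hC
  obtain ⟨a, c, hc, hsac⟩ := hin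
  have hs2 : (g * S.w * g⁻¹) ^ 2 = 1 := by rw [conj_pow, S.w_pow_two, mul_one, mul_inv_cancel]
  rcases S.sq_dichotomy hc (hsac ▸ hs2) with ⟨-, hc1⟩ | ⟨ha2, hc2⟩
  · rw [hsac]
    rcases hc1 with rfl | rfl
    · simpa using S.j_mem a
    · exact mul_mem (S.j_mem a) S.w_mem
  exfalso
  set n := g⁻¹ * S.w * g with hn
  have hn2 : n ^ 2 = 1 := by
    rw [hn, show g⁻¹ * S.w * g = g⁻¹ * S.w * (g⁻¹)⁻¹ by rw [inv_inv], conj_pow, S.w_pow_two, mul_one,
      mul_inv_cancel]
  -- the square root of the conjugate shows that the other conjugate is inner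
  have hcs : Commute c (g * S.w * g⁻¹) := by
    rw [hsac]
    exact (S.mul_comm_j a hc).symm.mul_right (Commute.refl c)
  have huN : g⁻¹ * c * g ∈ Subgroup.normalizer (L : Set G) := S.mem_N.2 (by
    show _ = _
    calc g⁻¹ * c * g * S.w = g⁻¹ * (c * (g * S.w * g⁻¹)) * g := by group
      _ = g⁻¹ * (g * S.w * g⁻¹ * c) * g := by rw [hcs.eq]
      _ = _ := by group)
  have hnin : S.InLC n := by
    have e : g⁻¹ * c * g * (g⁻¹ * c * g) = n := by
      rw [hn, ← hc2, pow_two]; group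
    by_cases h : S.InLC (g⁻¹ * c * g)
    · exact e ▸ S.LC.mul_mem h h
    · exact e ▸ S.outer_mul huN huN h h
  obtain ⟨a', c', hc', hnac⟩ := hnin
  have hc'4 : c' ^ 4 = 1 := by
    rcases S.sq_dichotomy hc' (hnac ▸ hn2) with ⟨-, h⟩ | ⟨-, h⟩
    · rcases h with rfl | rfl
      · exact one_pow 4
      · rw [show (4 : ℕ) = 2 * 2 from rfl, pow_mul, S.w_pow_two, one_pow]
    · rw [show (4 : ℕ) = 2 * 2 from rfl, pow_mul, h, S.w_pow_two]
  -- a generator of a Sylow subgroup of the centraliser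
  haveI : Fact (Nat.Prime 2) := ⟨Nat.prime_two⟩
  obtain ⟨R, hR⟩ := (show IsPGroup 2 ↥(Subgroup.zpowers (⟨c', hc'⟩ : ↥C)) from by
    intro ⟨u, hu⟩
    obtain ⟨i, rfl⟩ := hu
    refine ⟨2, Subtype.ext (Subtype.ext ?_)⟩
    show (c' ^ i) ^ (2 ^ 2) = 1
    rw [← zpow_natCast, ← zpow_mul, mul_comm, zpow_mul, zpow_natCast, show (2 : ℕ) ^ 2 = 4 from rfl,
      hc'4, one_zpow]).exists_le_sylow
  haveI := S.cyc R
  obtain ⟨r, hr⟩ := IsCyclic.exists_generator (α := ↥(R : Subgroup ↥C))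
  set r' : G := ((r : ↥C) : G) with hr'
  have hrC : r' ∈ C := (r : ↥C).2
  have hord : orderOf r' = 2 ^ (Nat.card ↥C).factorization 2 := by
    rw [hr', Subgroup.orderOf_coe, Subgroup.orderOf_coe, orderOf_eq_card_of_forall_mem_zpowers hr,
      R.card_eq_multiplicity]
  set m := (Nat.card ↥C).factorization 2 with hm
  have hdvd : ∀ {x : G}, x ∈ C → ∀ k, orderOf x = 2 ^ k → k ≤ m := by
    intro x hx k hk
    have h := orderOf_dvd_natCard (⟨x, hx⟩ : ↥C)
    rw [← Subgroup.orderOf_coe, hk] at h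
    exact (Nat.prime_two.pow_dvd_iff_le_factorization Nat.card_pos.ne').1 h
  have hm2 : 2 ≤ m := by
    refine hdvd hc 2 ?_
    refine orderOf_eq_prime_pow (n := 1) ?_ ?_
    · rw [pow_one, hc2]; exact S.w_ne
    · rw [show (2 : ℕ) ^ (1 + 1) = 2 * 2 from rfl, pow_mul, hc2, S.w_pow_two]
  clear_value m
  obtain ⟨m, rfl⟩ : ∃ k, m = k + 1 := ⟨m - 1, by omega⟩
  have hrw : r' ^ (2 ^ m) = S.w := by
    rcases S.uniq (pow_mem hrC _) (by rw [← pow_mul, ← pow_succ, ← hord, pow_orderOf_eq_one]) with h | h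
    · exfalso
      have := Nat.le_of_dvd (Nat.two_pow_pos m) (orderOf_dvd_of_pow_eq_one h)
      rw [hord, pow_succ] at this
      have := Nat.two_pow_pos m
      omega
    · exact h
  have hrn : Commute r' n := by
    rw [hnac]
    refine (S.mul_comm_j a' hrC).symm.mul_right ?_
    have := (IsMulCommutative.is_comm (M := ↥(R : Subgroup ↥C))).comm r
      ⟨_, hR (Subgroup.mem_zpowers _)⟩
    exact congrArg (fun v : ↥(R : Subgroup ↥C) => ((v : ↥C) : G)) this
  set y := g * r' * g⁻¹ with hy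
  have hyN : y ∈ Subgroup.normalizer (L : Set G) := S.mem_N.2 (by
    show _ = _
    calc y * S.w = g * (r' * n) * g⁻¹ := by rw [hy, hn]; group
      _ = g * (n * r') * g⁻¹ := by rw [hrn.eq]
      _ = S.w * y := by rw [hy, hn]; group)
  have hyk : y ^ (2 ^ m) = S.j a * c := by rw [hy, conj_pow, hrw, hsac]
  obtain ⟨x, hx⟩ := S.exists_acts hyN
  by_cases hxP : x ∈ WP
  · obtain ⟨a₁, c₁, hc₁, hyac⟩ := S.inLC_of_acts hx hxP
    have hpow : ∀ k, y ^ k = S.j (a₁ ^ k) * c₁ ^ k := fun k => by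
      rw [hyac, (S.mul_comm_j a₁ hc₁).mul_pow, map_pow]
    have h1 : c₁ ^ (2 ^ (m + 1)) = 1 := by
      have hy1 : y ^ (2 ^ (m + 1)) = 1 := by
        rw [hy, conj_pow, ← hord, pow_orderOf_eq_one, mul_one, mul_inv_cancel]
      rw [hpow] at hy1
      rcases S.inter (g := c₁ ^ (2 ^ (m + 1))) (by
          rw [eq_inv_of_mul_eq_one_right hy1]; exact inv_mem (S.j_mem _)) (pow_mem hc₁ _) with h | h
      · exact h
      exfalso
      have h2 : orderOf c₁ = 2 ^ (m + 1 + 1) := orderOf_eq_prime_pow (by rw [h]; exact S.w_ne)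
        (by rw [pow_succ, pow_mul, h, S.w_pow_two])
      exact absurd (hdvd hc₁ _ h2) (by omega)
    have h2 := S.uniq (pow_mem hc₁ (2 ^ m)) (by rw [← pow_mul, ← pow_succ, h1])
    rw [hpow] at hyk
    have h3 : c * (c₁ ^ (2 ^ m))⁻¹ = S.j (a⁻¹ * a₁ ^ (2 ^ m)) := by
      rw [map_mul, map_inv, eq_inv_mul_iff_mul_eq, ← mul_assoc, ← hyk, mul_inv_cancel_right]
    have h4 := S.inter (h3 ▸ S.j_mem _) (mul_mem hc (inv_mem (pow_mem hc₁ _)))
    have hcc : c ^ 2 = 1 := by
      have hcq : c = c * (c₁ ^ (2 ^ m))⁻¹ * c₁ ^ (2 ^ m) := by group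
      have hc' : c = 1 ∨ c = S.w := by
        rcases h4 with e | e <;> rcases h2 with f | f <;> rw [e, f] at hcq
        · exact Or.inl (by rw [hcq, one_mul])
        · exact Or.inr (by rw [hcq, one_mul])
        · exact Or.inr (by rw [hcq, mul_one])
        · exact Or.inl (by rw [hcq, S.w_sq])
      rcases hc' with rfl | rfl
      · exact one_pow 2
      · exact S.w_pow_two
    exact S.w_ne (hc2.symm.trans hcc)
  · have hk := hyk ▸ S.acts_pow hx (2 ^ m)
    have hz : x ^ (2 ^ (m + 1)) = eW 255 := by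
      have ha : ((a : ↥WP) : PR) ^ 2 = eW 255 := congrArg Subtype.val ha2
      rw [pow_succ, pow_mul]
      rcases S.acts_eq hk (S.acts_of_inLC hc rfl) with e | e
      · rw [e, ha]
      · rw [e, (show Commute (a : PR) (eW 255) from S.top _ (plus_le a.2)).mul_pow, ha,
          pow_two (eW 255), eW_sq (by omega), mul_one]
    exact S.odd x hx.1 hxP _ hz

/-- An elementary subgroup of order at least 128 in the product with the centraliser lies in the
subgroup. -/
theorem le_of_elem {E : Subgroup G} (hE2 : ∀ e ∈ E, e ^ 2 = 1) (hEc : ∀ e ∈ E, ∀ f ∈ E, Commute e f)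
    (hEin : E ≤ S.LC) (hcard : 128 ≤ Nat.card E) : E ≤ L := by
  intro e he
  by_contra heL
  set C := Subgroup.centralizer (L : Set G) with hC
  have hroot : ∀ u ∈ E, u ∉ L → ∀ (a : ↥WP), ∀ c ∈ C, u = S.j a * c → a ^ 2 = zW ∧ c ^ 2 = S.w := by
    intro u hu huL a c hc e'
    rcases S.sq_dichotomy hc (e' ▸ hE2 u hu) with ⟨-, h⟩ | h
    · refine absurd ?_ huL
      rcases h with rfl | rfl <;> rw [e']
      · simpa using S.j_mem a
      · exact mul_mem (S.j_mem a) S.w_mem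
    · exact h
  obtain ⟨a₁, c₁, hc₁, he₁⟩ := hEin he
  obtain ⟨ha₁, hc₁2⟩ := hroot e he heL a₁ c₁ hc₁ he₁
  have hidx : ∀ u ∈ E, u ∉ L → u * e ∈ L := by
    intro u hu huL
    obtain ⟨a, c, hc, hu'⟩ := hEin hu
    obtain ⟨ha, hc2⟩ := hroot u hu huL a c hc hu'
    have hcomm' : Commute c c₁ := by
      have e1 : S.j (a * a₁) * (c * c₁) = S.j (a₁ * a) * (c₁ * c) := by
        have := (hEc u hu e he).eq
        rw [hu', he₁, (S.mul_comm_j a₁ hc).symm.mul_mul_mul_comm,
          (S.mul_comm_j a hc₁).symm.mul_mul_mul_comm, ← map_mul, ← map_mul] at this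
        exact this
      have h3 : c₁ * c * (c * c₁)⁻¹ = S.j ((a₁ * a)⁻¹ * (a * a₁)) := by
        rw [map_mul, map_inv, eq_inv_mul_iff_mul_eq, ← mul_assoc, ← e1, mul_inv_cancel_right]
      have h4 := S.inter (h3 ▸ S.j_mem _) (mul_mem (mul_mem hc₁ hc) (inv_mem (mul_mem hc hc₁)))
      rcases h4 with h4 | h4
      · exact (mul_inv_eq_one.1 h4).symm
      have h5 : c * c₁ * c⁻¹ = c₁ ^ (-1 : ℤ) := by
        have h6 : c₁ * c = S.w * (c * c₁) := mul_inv_eq_iff_eq_mul.1 h4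
        have h7 : c * c₁ = S.w * (c₁ * c) := by rw [h6, ← mul_assoc, S.w_sq, one_mul]
        rw [h7, ← mul_assoc, mul_inv_cancel_right, zpow_neg_one, eq_inv_iff_mul_eq_one, mul_assoc,
          ← pow_two, hc₁2, S.w_sq]
      haveI : Fact (Nat.Prime 2) := ⟨Nat.prime_two⟩
      have hp : ∀ {v : ↥C}, (v : G) ^ 2 = S.w → IsPGroup 2 ↥(Subgroup.zpowers v) := fun {v} hv => by
        intro ⟨p, hp⟩
        obtain ⟨i, rfl⟩ := hp
        refine ⟨2, Subtype.ext (Subtype.ext ?_)⟩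
        show ((v : G) ^ i) ^ (2 ^ 2) = 1
        rw [← zpow_natCast, ← zpow_mul, mul_comm, zpow_mul, zpow_natCast,
          show (2 : ℕ) ^ 2 = 2 * 2 from rfl, pow_mul, hv, S.w_pow_two, one_zpow]
      have hn : Subgroup.zpowers (⟨c, hc⟩ : ↥C) ≤
          Subgroup.normalizer ((Subgroup.zpowers (⟨c₁, hc₁⟩ : ↥C) : Subgroup ↥C) : Set ↥C) := by
        rw [Subgroup.zpowers_le, Subgroup.mem_normalizer_iff]
        have h8 : ∀ i : ℤ, (⟨c, hc⟩ : ↥C) * ⟨c₁, hc₁⟩ ^ i * (⟨c, hc⟩ : ↥C)⁻¹ = ⟨c₁, hc₁⟩ ^ (-i) := by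
          intro i
          rw [← conj_zpow, show (⟨c, hc⟩ : ↥C) * ⟨c₁, hc₁⟩ * (⟨c, hc⟩ : ↥C)⁻¹ = ⟨c₁, hc₁⟩ ^ (-1 : ℤ) from
            Subtype.ext h5, ← zpow_mul, neg_one_mul]
        intro v
        constructor
        · rintro ⟨i, rfl⟩
          exact ⟨-i, (h8 i).symm⟩
        · rintro ⟨i, hi⟩
          refine ⟨-i, ?_⟩
          show (⟨c₁, hc₁⟩ : ↥C) ^ (-i) = v
          have := h8 (-i)
          rw [neg_neg] at this
          exact mul_left_cancel (mul_right_cancel (this.trans hi))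
      obtain ⟨R, hR⟩ := ((hp (v := ⟨c, hc⟩) hc2).to_sup_of_normal_right'
        (hp (v := ⟨c₁, hc₁⟩) hc₁2) hn).exists_le_sylow
      haveI := S.cyc R
      have := (IsMulCommutative.is_comm (M := ↥(R : Subgroup ↥C))).comm
        ⟨_, hR (Subgroup.mem_sup_left (Subgroup.mem_zpowers _))⟩
        ⟨_, hR (Subgroup.mem_sup_right (Subgroup.mem_zpowers _))⟩
      exact congrArg (fun v : ↥(R : Subgroup ↥C) => ((v : ↥C) : G)) this
    rw [hu', he₁, (S.mul_comm_j a₁ hc).symm.mul_mul_mul_comm, ← map_mul]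
    refine mul_mem (S.j_mem _) ?_
    rcases S.uniq (mul_mem hc hc₁) (by rw [hcomm'.mul_pow, hc2, hc₁2, S.w_sq]) with h | h <;> rw [h]
    · exact one_mem L
    · exact S.w_mem
  set K := (E ⊓ L).comap S.j with hK
  have hKE : Nat.card E ≤ 2 * Nat.card K := by
    classical
    haveI : Fintype ↥E := Fintype.ofFinite _
    let f : K × Bool → E := fun p => ⟨S.j p.1.1 * (if p.2 then e else 1), mul_mem p.1.2.1 (by
      split <;> [exact he; exact one_mem E])⟩
    have hf : Function.Surjective f := by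
      rintro ⟨u, hu⟩
      by_cases huL : u ∈ L
      · obtain ⟨k, rfl⟩ := S.exists_j huL
        exact ⟨(⟨k, hu, huL⟩, false), Subtype.ext (by simp [f])⟩
      · obtain ⟨k, hk⟩ := S.exists_j (hidx u hu huL)
        refine ⟨(⟨k, (hk ▸ ⟨mul_mem hu he, hidx u hu huL⟩ : S.j k ∈ E ⊓ L)⟩, true), Subtype.ext ?_⟩
        have he' : e * e = 1 := by rw [← pow_two]; exact hE2 e he
        simp [f, hk, mul_assoc, he']
    have := Nat.card_le_card_of_surjective f hf
    rw [Nat.card_prod, Nat.card_eq_fintype_card (α := Bool), Fintype.card_bool] at this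
    omega
  refine S.rank a₁ a₁.2 (congrArg Subtype.val ha₁) (K.map WP.subtype) ?_ ⟨?_, ?_⟩ ?_ ?_
  · rintro _ ⟨v, -, rfl⟩; exact v.2
  · rintro _ ⟨v, hv, rfl⟩
    exact congrArg Subtype.val (S.j_inj (a₁ := v ^ 2) (a₂ := 1) (by rw [map_pow, hE2 _ hv.1, map_one]))
  · rintro _ ⟨v, hv, rfl⟩ _ ⟨u, hu, rfl⟩
    exact congrArg Subtype.val (S.j_inj (a₁ := v * u) (a₂ := u * v) (by
      rw [map_mul, map_mul, (hEc _ hv.1 _ hu.1).eq]))
  · rw [Subgroup.card_map_of_injective WP.subtype_injective]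
    omega
  · rintro _ ⟨v, hv, rfl⟩
    have h1 : Commute (S.j a₁ * c₁) (S.j v) := he₁ ▸ hEc e he _ hv.1
    have h2 : Commute (S.j a₁) (S.j v) := by
      have := h1.mul_left (S.mul_comm_j v hc₁).symm.inv_left
      rwa [mul_inv_cancel_right] at this
    exact congrArg Subtype.val (S.j_inj (a₁ := a₁ * v) (a₂ := v * a₁) (by rw [map_mul, map_mul, h2.eq]))

end Cfsg.Agent.Lib.E8Frame76.Conf
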