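import Cfsg.Agent.Lib.E8Frame76.Iface
import Cfsg.Agent.Lib.E8Frame76.CheckModel

/-!
# Involutions, odd elements, the central mask and an element of order five (helper9)
-/

set_option autoImplicit false
set_option maxRecDepth 20000

namespace Cfsg.Agent.Lib.E8Frame76

open Cfsg.Agent.Lib.Compute

theorem top_comm_ok : (fullGens.all fun p => Nat.beq (rmul p.1 (eCode 255)) (rmul (eCode 255) p.1)) = true := by
  decide +kernel

theorem five_ok : (forceNat (pathEval (permOps 8 240) plusChain fivePath).1 fun c =>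
    Nat.beq (rmul c (rmul c (rmul c (rmul c c)))) (permOps 8 240).one &&
    (dList.all fun s => dList.any fun t => Nat.beq (rmul c (sCode s)) (rmul (sCode t) c)) &&
    dList.any fun s => !Nat.beq (rmul c (sCode s)) (rmul (sCode s) c)) = true := by decide +kernel

theorem enc_sW {s : ℕ} (hs : s < 16384) : Cr.enc (sW s) = sCode s := by
  rw [sW, enc_mul', enc_eW (Nat.mod_lt _ (by omega)), enc_lW (by omega)]
  rfl

theorem sW_sSq {s : ℕ} (hs : s < 16384) : sSq s < 16384 ∧ sW (sSq s) = sW s ^ 2 :=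
  ⟨(sMul_spec hs hs).1, by rw [pow_two, sW_mul hs hs]; rfl⟩

theorem top : TopStmt := by
  intro x hx
  induction hx using Subgroup.closure_induction with
  | mem g hg =>
    obtain ⟨p, hp, hgp⟩ := hg
    refine Cr.inj ?_
    rw [enc_mul', enc_mul', enc_eW (by omega), hgp]
    exact Nat.eq_of_beq_eq_true (List.all_eq_true.1 top_comm_ok p hp)
  | one => exact Commute.one_left _
  | mul a b _ _ ha hb => exact ha.mul_left hb
  | inv a _ ha => exact ha.inv_left

theorem exists_conj_sW {x : PR} (hx : x ∈ WF) {n : ℕ} (hn : x ^ (2 ^ n) = 1) :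
    ∃ c ∈ WP, ∃ s < 16384, c * x * c⁻¹ = sW s := by
  have h2 : IsPGroup 2 (Subgroup.zpowers x) := by
    intro g
    obtain ⟨g, k, rfl⟩ := g
    refine ⟨n, Subtype.ext ?_⟩
    show (x ^ k) ^ (2 ^ n) = 1
    rw [← zpow_natCast, ← zpow_mul, mul_comm, zpow_mul, zpow_natCast, hn, one_zpow]
  obtain ⟨c, hc, h⟩ := exists_conj_SW ((Subgroup.zpowers_le).2 hx) h2
  obtain ⟨s, hs, hs'⟩ := h x (Subgroup.mem_zpowers x)
  exact ⟨c, hc, s, hs, hs'.symm⟩

theorem invFact : InvStmt := by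
  intro x hx hx2
  obtain ⟨c, hc, s, hs, hsx⟩ := exists_conj_sW hx (n := 1) (by simpa using hx2)
  have hsq : sSq s = 0 := sW_injective (sW_sSq hs).1 (by omega) (by
    rw [(sW_sSq hs).2, sW_zero, ← hsx, conj_pow, hx2]; group)
  have hrow : invRow s = true := by
    have h := List.all_eq_true.1 inv_cover s (List.mem_range.2 hs)
    rw [hsq] at h
    simpa using h
  simp only [invRow, List.any_eq_true, Bool.and_eq_true, Nat.blt_eq] at hrow
  obtain ⟨r, -, ⟨⟨-, ha⟩, hb⟩, he⟩ := hrow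
  have he := Nat.eq_of_beq_eq_true he
  obtain ⟨t, ht⟩ : ∃ t, repTab.getD r.2.2 (0, [], 0) = t := ⟨_, rfl⟩
  have htm : t ∈ repTab := by
    rw [← ht, List.getD_eq_getElem _ _ hb]; exact List.getElem_mem hb
  rw [ht] at he
  have hrep := List.all_eq_true.1 rep_cover t htm
  simp only [forceNat_eq, Bool.and_eq_true, Nat.blt_eq] at hrep
  obtain ⟨⟨ht1, ht2⟩, ht3⟩ := hrep
  obtain ⟨g, hg, hg1, -⟩ := pairOK_pathEval Cr plusOK plusChain_ok t.2.1
  have e2 : g * sW t.1 = eW t.2.2 * g := Cr.inj (by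
    rw [enc_mul', enc_mul', hg1, enc_sW ht1, enc_eW ht2]; exact Nat.eq_of_beq_eq_true ht3)
  have e1 : sW r.2.1 * sW s = sW t.1 * sW r.2.1 := by
    rw [sW_mul ha hs, sW_mul ht1 ha, he]
  have key : (g * sW r.2.1 * c) * x * (g * sW r.2.1 * c)⁻¹ = eW t.2.2 := by
    calc (g * sW r.2.1 * c) * x * (g * sW r.2.1 * c)⁻¹
        = g * (sW r.2.1 * (c * x * c⁻¹)) * (sW r.2.1)⁻¹ * g⁻¹ := by group
      _ = g * (sW t.1 * sW r.2.1) * (sW r.2.1)⁻¹ * g⁻¹ := by rw [hsx, e1]
      _ = (g * sW t.1) * g⁻¹ := by group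
      _ = eW t.2.2 := by rw [e2]; group
  have hyF : g * sW r.2.1 * c ∈ WF :=
    mul_mem (mul_mem (plus_le hg) (SW_le (sW_mem ha))) (plus_le hc)
  by_cases hy : g * sW r.2.1 * c ∈ WP
  · exact ⟨_, hy, t.2.2, ht2, key⟩
  · refine ⟨eW 1 * (g * sW r.2.1 * c),
      (mul_mem_plus_iff (eW_mem (by omega)) hyF).2 (iff_of_false eW_one_not_mem hy), t.2.2, ht2, ?_⟩
    calc eW 1 * (g * sW r.2.1 * c) * x * (eW 1 * (g * sW r.2.1 * c))⁻¹
        = eW 1 * ((g * sW r.2.1 * c) * x * (g * sW r.2.1 * c)⁻¹) * (eW 1)⁻¹ := by group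
      _ = eW t.2.2 := by rw [key, (eW_comm (by omega : 1 < 256) ht2).eq, mul_inv_cancel_right]

theorem oddFact : OddStmt := by
  intro x hx hxP k hk
  obtain ⟨c, hc, s, hs, hsx⟩ := exists_conj_sW hx (n := k + 1) (by
    rw [pow_succ, pow_mul, hk, pow_two, eW_sq (by omega)])
  have hcomm : c * eW 255 * c⁻¹ = eW 255 := by
    rw [(top c (plus_le hc)).eq, mul_inv_cancel_right]
  have hpow : sW s ^ (2 ^ k) = sW 255 := by
    rw [← hsx, conj_pow, hk, hcomm, sW_frame (by omega)]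
  have hodd : evenMask (s % 256) = false := by
    rw [Bool.eq_false_iff]
    intro h
    have h1 := (sW_mem_plus hs).2 h
    rw [← hsx] at h1
    have h3 := mul_mem (mul_mem (inv_mem hc) h1) hc
    exact hxP (by simpa [mul_assoc] using h3)
  have h := List.all_eq_true.1 odd_squares s (List.mem_range.2 hs)
  rw [show Nat.mod s 256 = s % 256 from rfl, hodd] at h
  simp only [forceNat_eq, Bool.false_or, Bool.and_eq_true, Bool.not_eq_true'] at h
  obtain ⟨⟨⟨⟨ha, hb⟩, hc'⟩, hd⟩, he⟩ := h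
  obtain ⟨a1, a2⟩ := sW_sSq hs
  obtain ⟨b1, b2⟩ := sW_sSq a1
  obtain ⟨c1, c2⟩ := sW_sSq b1
  obtain ⟨d1, d2⟩ := sW_sSq c1
  obtain ⟨e1, e2⟩ := sW_sSq d1
  have no : ∀ {u : ℕ}, u < 16384 → Nat.beq u 255 = false → sW u ≠ sW 255 := fun hu h he => by
    rw [sW_injective hu (by omega) he, Nat.beq_refl] at h; exact Bool.noConfusion h
  have h32 : sW s ^ 32 = 1 := by
    rw [Nat.eq_of_beq_eq_true he, sW_zero, d2, c2, b2, a2, ← pow_mul, ← pow_mul, ← pow_mul, ← pow_mul] at e2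
    exact e2.symm
  rcases k with _ | _ | _ | _ | _ | k
  · rw [pow_zero, pow_one] at hk
    exact hxP (hk ▸ eW_mem_plus (by omega) (by decide +kernel))
  · exact no a1 ha (by rw [a2]; simpa using hpow)
  · exact no b1 hb (by rw [b2, a2, ← pow_mul]; simpa using hpow)
  · exact no c1 hc' (by rw [c2, b2, a2, ← pow_mul, ← pow_mul]; simpa using hpow)
  · exact no d1 hd (by rw [d2, c2, b2, a2, ← pow_mul, ← pow_mul, ← pow_mul]; simpa using hpow)
  · rw [show (2 : ℕ) ^ (k + 5) = 32 * 2 ^ k by ring, pow_mul, h32, one_pow, ← sW_zero] at hpow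
    exact absurd (sW_injective (by omega) (by omega) hpow) (by omega)

theorem five : FiveStmt := by
  obtain ⟨f, hf, hf1, -⟩ := pairOK_pathEval Cr plusOK plusChain_ok fivePath
  have h := five_ok
  simp only [forceNat_eq, Bool.and_eq_true, List.all_eq_true, List.any_eq_true, Bool.not_eq_true'] at h
  obtain ⟨⟨h5, hmap⟩, hne⟩ := h
  have hlt : ∀ s ∈ dList, s < 16384 := by
    have h' := dList_ok
    simp only [Bool.and_eq_true, List.all_eq_true, Nat.blt_eq] at h'
    exact h'.1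
  refine ⟨f, hf, Cr.inj ?_, fun s hs => ?_, ?_⟩
  · rw [show f ^ 5 = f * (f * (f * (f * f))) by simp [pow_succ, mul_assoc], enc_mul', enc_mul', enc_mul', enc_mul', hf1,
      Cr.one_enc]
    exact Nat.eq_of_beq_eq_true h5
  · obtain ⟨t, ht, e⟩ := hmap s hs
    refine ⟨t, ht, ?_⟩
    have e' : f * sW s = sW t * f := Cr.inj (by
      rw [enc_mul', enc_mul', hf1, enc_sW (hlt s hs), enc_sW (hlt t ht)]; exact Nat.eq_of_beq_eq_true e)
    rw [e', mul_inv_cancel_right]
  · obtain ⟨s, hs, e⟩ := hne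
    refine ⟨s, hs, fun h' => ?_⟩
    have e' : rmul (pathEval (permOps 8 240) plusChain fivePath).1 (sCode s) =
        rmul (sCode s) (pathEval (permOps 8 240) plusChain fivePath).1 := by
      rw [← hf1, ← enc_sW (hlt s hs), ← enc_mul', ← enc_mul']
      exact congrArg Cr.enc (mul_inv_eq_iff_eq_mul.1 h')
    rw [e', Nat.beq_refl] at e
    exact Bool.noConfusion e

end Cfsg.Agent.Lib.E8Frame76
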