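import Cfsg.Agent.Lib.E8Frame76.CaseII
import Cfsg.Agent.Lib.ZStar.Final

/-!
# A standard double cover of the orthogonal group with cyclic Sylow 2-subgroups in its centraliser is normal
-/

set_option autoImplicit false

namespace Cfsg.Agent.Lib.E8Frame76

open Cfsg

variable {G : Type*} [Group G] [Finite G] {L : Subgroup G}

theorem Conf.normal (S : Conf L) (hInv : InvStmt) (h256 : El256Stmt) (h128 : El128Stmt) (hF : FiveStmt)
    (hEv : EvenActStmt) (hFull : FullActStmt) (hG : GenStmt) (hA5 : AglFiveStmt)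
    (hO : oddCore G = ⊥) : L.Normal := by
  have hiso : IsIsolatedInvolution S.w := by
    refine ⟨orderOf_eq_prime S.w_pow_two S.w_ne, fun g hg => ?_⟩
    by_cases h : ∀ n : G, Commute n S.w → n ^ 2 = 1 → S.InLC n
    · exact S.no_conj_one hInv h128 hF hEv hG hA5 h hg.symm
    · simp only [not_forall] at h
      obtain ⟨o, ho, ho2, hoin⟩ := h
      exact S.no_conj_two hInv h256 hFull hG ho2 ho hoin hg.symm
  have hz : ∀ g : G, S.w * g * S.w⁻¹ * g⁻¹ ∈ oddCore G := ZStar.zStar G S.w hiso
  rw [hO] at hz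
  refine Subgroup.normalizer_eq_top_iff.1 (eq_top_iff.2 fun g _ => S.mem_N.2 ?_)
  have h := Subgroup.mem_bot.1 (hz g)
  show g * S.w = S.w * g
  calc g * S.w = (S.w * g * S.w⁻¹ * g⁻¹) * (g * S.w) := by rw [h, one_mul]
    _ = S.w * g := by group

end Cfsg.Agent.Lib.E8Frame76
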