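import Mathlib
import Cfsg.Agent.Lib.E8Frame76.CheckAgl
import Cfsg.Agent.Lib.E8Frame76.CheckOpts
import Cfsg.Agent.Lib.E8Frame76.CheckSeven
import Cfsg.Agent.Lib.E8Frame76.CheckLine
import Cfsg.Agent.Lib.E8Frame76.CheckOrbit

/-!
# The masks as an elementary abelian group with the affine group acting
-/

set_option autoImplicit false

namespace Cfsg.Agent.Lib.E8Frame76

open Cfsg.Agent.Lib.Compute

theorem xorM_lt {a b : ℕ} (ha : a < 256) (hb : b < 256) : a ^^^ b < 256 := Nat.xor_lt_two_pow (n := 8) ha hb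

theorem pow_lt_256 {i : ℕ} (hi : i < 8) : (2 : ℕ) ^ i < 256 :=
  Nat.pow_lt_pow_right (by omega) hi

/-- Induction along single bits. -/
theorem mask_induction (P : ℕ → Prop) (h0 : P 0)
    (hs : ∀ v < 256, ∀ i < 8, P v → P (v ^^^ 2 ^ i)) : ∀ v < 256, P v := by
  intro v
  induction v using Nat.strong_induction_on with
  | _ v ih =>
    intro hv
    by_cases h : v = 0
    · exact h ▸ h0
    obtain ⟨i, hi, hlt⟩ := drop_bit v hv h
    have h' : (v ^^^ 2 ^ i) < v := hlt
    have := hs _ (by omega) i hi (ih _ h' (by omega))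
    rwa [Nat.xor_assoc, Nat.xor_self, Nat.xor_zero] at this

/-- A map compatible with single bits is additive. -/
theorem mask_additive {α : Type*} (f : ℕ → α) (add : α → α → α)
    (hassoc : ∀ a b c, add (add a b) c = add a (add b c)) (h0 : ∀ a, add a (f 0) = a)
    (hf : ∀ v < 256, ∀ i < 8, f (v ^^^ 2 ^ i) = add (f v) (f (2 ^ i))) :
    ∀ v < 256, ∀ u < 256, f (v ^^^ u) = add (f v) (f u) := by
  intro v hv
  refine mask_induction (fun u => f (v ^^^ u) = add (f v) (f u)) ?_ ?_
  · simp [h0]
  · intro u hu i hi h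
    rw [← Nat.xor_assoc, hf _ (xorM_lt hv hu) i hi, h, hf u hu i hi, hassoc]

theorem evenMask_flip {v i : ℕ} (hv : v < 256) (hi : i < 8) :
    evenMask (v ^^^ 2 ^ i) = !evenMask v :=
  beq_iff_eq.1 (List.all_eq_true.1 (List.all_eq_true.1 even_flip v (List.mem_range.2 hv)) i
    (List.mem_range.2 hi))

theorem evenMask_xor {v u : ℕ} (hv : v < 256) (hu : u < 256) :
    evenMask (v ^^^ u) = (evenMask v == evenMask u) := by
  refine mask_additive evenMask (fun a b => a == b) (by decide) ?_ ?_ v hv u hu
  · intro a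
    rw [show evenMask 0 = true by decide +kernel]
    cases a <;> rfl
  · intro w hw i hi
    rw [evenMask_flip hw hi]
    have h1 : evenMask (2 ^ i) = false := by
      have := evenMask_flip (v := 0) (by omega) hi
      rw [Nat.zero_xor] at this
      rw [this]
      decide +kernel
    rw [h1]
    cases evenMask w <;> rfl

theorem genAct_spec {j v : ℕ} (hj : j < 2) (hv : v < 256) :
    genAct j v < 256 ∧ evenMask (genAct j v) = evenMask v := by
  have h := List.all_eq_true.1 (List.all_eq_true.1 gen_lin j (List.mem_range.2 hj)) v (List.mem_range.2 hv)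
  simp only [Bool.and_eq_true] at h
  exact ⟨by simpa [Nat.blt_eq] using h.1.1, beq_iff_eq.1 h.1.2⟩

theorem genAct_bit {j v i : ℕ} (hj : j < 2) (hv : v < 256) (hi : i < 8) :
    genAct j (v ^^^ 2 ^ i) = genAct j v ^^^ genAct j (2 ^ i) := by
  have h := List.all_eq_true.1 (List.all_eq_true.1 gen_lin j (List.mem_range.2 hj)) v (List.mem_range.2 hv)
  simp only [Bool.and_eq_true, List.all_eq_true, List.mem_range] at h
  exact Nat.eq_of_beq_eq_true (h.2 i hi)

theorem genAct_zero : ∀ j < 2, genAct j 0 = 0 := by decide +kernel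

theorem genAct_xor {j : ℕ} (hj : j < 2) {v u : ℕ} (hv : v < 256) (hu : u < 256) :
    genAct j (v ^^^ u) = genAct j v ^^^ genAct j u :=
  mask_additive (genAct j) (· ^^^ ·) Nat.xor_assoc (fun a => by rw [genAct_zero j hj, Nat.xor_zero])
    (fun _ hw _ hi => genAct_bit hj hw hi) v hv u hu

theorem linExt_xor (f : ℕ → ℕ) (a b : ℕ) : linExt f (a ^^^ b) = linExt f a ^^^ linExt f b := by
  have key : ∀ (l : List ℕ) (x y : ℕ),
      l.foldl (fun r i => bif (a ^^^ b).testBit i then Nat.xor r (f i) else r) (x ^^^ y) =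
        l.foldl (fun r i => bif a.testBit i then Nat.xor r (f i) else r) x ^^^
          l.foldl (fun r i => bif b.testBit i then Nat.xor r (f i) else r) y := by
    intro l
    induction l with
    | nil => exact fun _ _ => rfl
    | cons i l ih =>
      intro x y
      simp only [List.foldl_cons]
      rw [← ih]
      congr 1
      rw [Nat.testBit_xor]
      show (bif _ then (x ^^^ y) ^^^ f i else _) =
        (bif _ then x ^^^ f i else x) ^^^ (bif _ then y ^^^ f i else y)
      cases a.testBit i <;> cases b.testBit i <;>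
        simp [Nat.xor_assoc, Nat.xor_left_comm (f i), Nat.xor_comm (f i)]
  exact key (List.range 8) 0 0

theorem linExt_bit : ∀ i < 8, ∀ j < 8, (2 ^ i : ℕ).testBit j = decide (i = j) := by decide +kernel

theorem linExt_pow (f : ℕ → ℕ) {i : ℕ} (hi : i < 8) : linExt f (2 ^ i) = f i := by
  have h : ∀ j < 8, (2 ^ i : ℕ).testBit j = decide (i = j) := linExt_bit i hi
  simp only [linExt, List.range_succ, List.range_zero, List.nil_append, List.foldl_append,
    List.foldl_cons, List.foldl_nil]
  simp only [h 0 (by omega), h 1 (by omega), h 2 (by omega), h 3 (by omega), h 4 (by omega),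
    h 5 (by omega), h 6 (by omega), h 7 (by omega)]
  interval_cases i <;> simp

theorem linExt_zero (f : ℕ → ℕ) : linExt f 0 = 0 := by
  simp [linExt, List.range_succ]

theorem aglAct_bit (k : ℕ) {i : ℕ} (hi : i < 8) : aglAct k (2 ^ i) = 2 ^ aglPerm k i :=
  linExt_pow _ hi

theorem aglAct_add (k v u : ℕ) : aglAct k (v ^^^ u) = aglAct k v ^^^ aglAct k u := linExt_xor _ v u

theorem aglAct_null (k : ℕ) : aglAct k 0 = 0 := linExt_zero _

theorem aglAct_zero_eq {v : ℕ} (hv : v < 256) : aglAct 0 v = v := by
  refine mask_induction (fun v => aglAct 0 v = v) (aglAct_null 0) (fun u _ i hi h => ?_) v hv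
  have h0 := agl_tree
  simp only [List.all_eq_true, List.mem_range, forceNat_eq] at h0
  have h1 : aglPerm 0 i = i := Nat.eq_of_beq_eq_true (h0 0 (by omega) i hi)
  rw [aglAct_add, h, aglAct_bit 0 hi, h1]

theorem aglAct_step {k : ℕ} (hk : k < 1344) (hk0 : k ≠ 0) :
    ∃ q j, q < k ∧ j < 2 ∧ ((∀ v < 256, aglAct q v < 256) → ∀ v < 256, aglAct k v = genAct j (aglAct q v)) := by
  have h := agl_tree
  simp only [List.all_eq_true, List.mem_range, forceNat_eq] at h
  have hb : Nat.beq k 0 = false := Bool.eq_false_iff.2 fun e => hk0 (Nat.eq_of_beq_eq_true e)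
  have h' := h k hk
  simp only [hb, cond_false, Bool.and_eq_true] at h'
  have h0 := (h' 0 (by omega)).1
  refine ⟨Nat.mod (getP 16 aglParent k) 2048, Nat.div (getP 16 aglParent k) 2048,
    by simpa [Nat.blt_eq] using h0.1, by simpa [Nat.blt_eq] using h0.2, fun hq => ?_⟩
  have hj : Nat.div (getP 16 aglParent k) 2048 < 2 := by simpa [Nat.blt_eq] using h0.2
  refine mask_induction _ (by rw [aglAct_null, aglAct_null, genAct_zero _ hj]) fun u hu i hi e => ?_
  rw [aglAct_add, aglAct_add, genAct_xor hj (hq u hu) (hq _ (pow_lt_256 hi)), e, aglAct_bit k hi,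
    aglAct_bit _ hi]
  exact congrArg _ (Nat.eq_of_beq_eq_true (h' i hi).2)

theorem aglAct_spec {k : ℕ} (hk : k < 1344) : ∀ v < 256, aglAct k v < 256 ∧
    evenMask (aglAct k v) = evenMask v := by
  induction k using Nat.strong_induction_on with
  | _ k ih =>
    by_cases h0 : k = 0
    · subst h0
      exact fun v hv => by rw [aglAct_zero_eq hv]; exact ⟨hv, rfl⟩
    obtain ⟨q, j, hq, hj, he⟩ := aglAct_step hk h0
    intro v hv
    obtain ⟨i1, i2⟩ := ih q hq (by omega) v hv
    rw [he (fun u hu => (ih q hq (by omega) u hu).1) v hv]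
    exact ⟨(genAct_spec hj i1).1, (genAct_spec hj i1).2.trans i2⟩

theorem aglAct_lt {k v : ℕ} (hk : k < 1344) (hv : v < 256) : aglAct k v < 256 := (aglAct_spec hk v hv).1

theorem aglAct_even {k v : ℕ} (hk : k < 1344) (hv : v < 256) : evenMask (aglAct k v) = evenMask v :=
  (aglAct_spec hk v hv).2

theorem twistM_false (v : ℕ) : twistM false v = v := rfl

theorem twistM_even {v : ℕ} (h : evenMask v = true) (t : Bool) : twistM t v = v := by
  simp [twistM, h]

theorem aglAct_top {k : ℕ} (hk : k < 1344) : aglAct k 255 = 255 := by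
  have h := stab_fix
  simp only [List.all_eq_true, List.mem_range, Bool.and_eq_true] at h
  exact Nat.eq_of_beq_eq_true (h k hk).1.1

theorem twistM_lt {v : ℕ} (hv : v < 256) : twistM true v < 256 ∧ twistM true (twistM true v) = v := by
  have h := twist_ok
  simp only [List.all_eq_true, List.mem_range, Bool.and_eq_true] at h
  exact ⟨by simpa [Nat.blt_eq] using (h v hv).1, Nat.eq_of_beq_eq_true (h v hv).2⟩

theorem aglAct_twist {k v : ℕ} (hk : k < 1344) (hv : v < 256) :
    aglAct k (twistM true v) = twistM true (aglAct k v) := by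
  cases h : evenMask v with
  | true => rw [twistM_even h, twistM_even ((aglAct_even hk hv).trans h)]
  | false =>
    have h' : evenMask (aglAct k v) = false := (aglAct_even hk hv).trans h
    show aglAct k (bif true && !evenMask v then v ^^^ 255 else v) = _
    rw [h]
    show aglAct k (v ^^^ 255) = bif true && !evenMask (aglAct k v) then aglAct k v ^^^ 255 else aglAct k v
    rw [h', aglAct_add, aglAct_top hk]
    rfl

/-- The masks considered: all of them, or the even ones. -/
def InU (b : Bool) (x : ℕ) : Prop := x < 256 ∧ (b = true ∨ evenMask x = true)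

/-- The masks considered, as a type. -/
abbrev MV (b : Bool) : Type := {x : ℕ // InU b x}

instance instFiniteMV (b : Bool) : Finite (MV b) :=
  Finite.of_injective (fun x : MV b => (⟨x.1, x.2.1⟩ : Fin 256))
    fun _ _ h => Subtype.ext (congrArg Fin.val h)

theorem inU_xor {b : Bool} {x y : ℕ} (hx : InU b x) (hy : InU b y) : InU b (x ^^^ y) := by
  refine ⟨xorM_lt hx.1 hy.1, ?_⟩
  rcases hx.2 with h | h
  · exact Or.inl h
  rcases hy.2 with h' | h'
  · exact Or.inl h'
  exact Or.inr (by rw [evenMask_xor hx.1 hy.1, h, h']; rfl)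

/-- Sum of masks. -/
def vadd {b : Bool} (x y : MV b) : MV b := ⟨x.1 ^^^ y.1, inU_xor x.2 y.2⟩

theorem inU_255 (b : Bool) : InU b 255 := ⟨by omega, Or.inr (by decide +kernel)⟩

/-- The full mask. -/
def vtop {b : Bool} : MV b := ⟨255, inU_255 b⟩

/-- The empty mask. -/
def vzero {b : Bool} : MV b := ⟨0, by omega, Or.inr (by decide +kernel)⟩

theorem inU_agl {b : Bool} {k x : ℕ} (hk : k < 1344) (hx : InU b x) : InU b (aglAct k x) :=
  ⟨aglAct_lt hk hx.1, hx.2.imp id fun h => (aglAct_even hk hx.1).trans h⟩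

theorem natCard_filter (b : Bool) (p : ℕ → Bool) :
    Nat.card {x : MV b // p x.1 = true} =
      (List.range 256).countP (fun v => (b || evenMask v) && p v) := by
  rw [List.countP_eq_length_filter]
  have hn : ((List.range 256).filter fun v => (b || evenMask v) && p v).Nodup :=
    List.nodup_range.filter _
  rw [← List.toFinset_card_of_nodup hn, ← Nat.card_eq_finsetCard]
  refine Nat.card_congr ⟨fun x => ⟨x.1.1, ?_⟩, fun x => ⟨⟨x.1, ?_⟩, ?_⟩, fun x => rfl, fun x => rfl⟩
  · simp only [List.mem_toFinset, List.mem_filter, List.mem_range, Bool.and_eq_true, Bool.or_eq_true]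
    exact ⟨x.1.2.1, x.1.2.2, x.2⟩
  · have h := x.2
    simp only [List.mem_toFinset, List.mem_filter, List.mem_range, Bool.and_eq_true, Bool.or_eq_true] at h
    exact ⟨h.1, h.2.1⟩
  · have h := x.2
    simp only [List.mem_toFinset, List.mem_filter, List.mem_range, Bool.and_eq_true, Bool.or_eq_true] at h
    exact h.2.2

theorem natCard_MV (b : Bool) : Nat.card (MV b) = bif b then 256 else 128 := by
  rw [← Nat.card_congr (Equiv.subtypeUnivEquiv (p := fun x : MV b => (fun _ => true) x.1 = true)
    fun _ => rfl), natCard_filter b fun _ => true]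
  cases b
  · simpa using v_count
  · decide +kernel

end Cfsg.Agent.Lib.E8Frame76
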