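import Cfsg.Agent.Lib.E8Frame76.Adm

/-!
# The orbit contains no single point
-/

set_option autoImplicit false

namespace Cfsg.Agent.Lib.E8Frame76

open Cfsg.Agent.Lib.Compute

variable {H : Subgroup (Equiv.Perm (MV true))}

/-- A mask as a point. -/
def pt (v : ℕ) (hv : v < 256 := by decide) : MV true := ⟨v, hv, Or.inl rfl⟩

theorem twistM_xor {v u : ℕ} (hv : v < 256) (hu : u < 256) :
    twistM true (v ^^^ u) = twistM true v ^^^ twistM true u := by
  show (bif true && !evenMask (v ^^^ u) then (v ^^^ u) ^^^ 255 else v ^^^ u) =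
    (bif true && !evenMask v then v ^^^ 255 else v) ^^^ (bif true && !evenMask u then u ^^^ 255 else u)
  rw [evenMask_xor hv hu]
  cases evenMask v <;> cases evenMask u <;>
    simp [Nat.xor_assoc, Nat.xor_left_comm 255, Nat.xor_comm 255]

/-- The parity twist. -/
noncomputable def twistPerm : Equiv.Perm (MV true) where
  toFun x := ⟨twistM true x.1, (twistM_lt x.2.1).1, Or.inl rfl⟩
  invFun x := ⟨twistM true x.1, (twistM_lt x.2.1).1, Or.inl rfl⟩
  left_inv x := Subtype.ext (twistM_lt x.2.1).2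
  right_inv x := Subtype.ext (twistM_lt x.2.1).2

theorem twistPerm_sq (x : MV true) : twistPerm (twistPerm x) = x := twistPerm.left_inv x

theorem twistPerm_add (x y : MV true) : twistPerm (vadd x y) = vadd (twistPerm x) (twistPerm y) :=
  Subtype.ext (twistM_xor x.2.1 y.2.1)

theorem twistM_agl {k v : ℕ} (hk : k < 1344) (hv : v < 256) (t : Bool) :
    aglAct k (twistM t v) = twistM t (aglAct k v) := by
  cases t
  · rfl
  · exact aglAct_twist hk hv

theorem Adm.conj_twist (A : Adm H) :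
    Adm (H.map (MulAut.conj twistPerm).toMonoidHom) := by
  have hc : ∀ h : Equiv.Perm (MV true), ∀ x, (MulAut.conj twistPerm h) x = twistPerm (h (twistPerm x)) := by
    intro h x
    show twistPerm (h (twistPerm⁻¹ x)) = _
    rfl
  have htop : twistPerm (vtop : MV true) = vtop := Subtype.ext (by decide +kernel)
  refine ⟨?_, ?_, ?_⟩
  · rintro _ ⟨h, hh, rfl⟩ x y
    show MulAut.conj twistPerm h (vadd x y) = vadd (MulAut.conj twistPerm h x) (MulAut.conj twistPerm h y)
    rw [hc, hc, hc, twistPerm_add, A.add h hh, twistPerm_add]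
  · rintro _ ⟨h, hh, rfl⟩ (e : MulAut.conj twistPerm h vtop = vtop)
    rw [hc, htop] at e
    have e' : h vtop = vtop := by rw [← twistPerm_sq (h vtop), e, htop]
    obtain ⟨k, hk, t, ht⟩ := A.stab h hh e'
    refine ⟨k, hk, t, fun x => ?_⟩
    show ((MulAut.conj twistPerm h) x).1 = _
    rw [hc]
    show twistM true (h (twistPerm x)).1 = _
    rw [ht]
    show twistM true (twistM t (aglAct k (twistM true x.1))) = _
    rw [aglAct_twist hk x.2.1]
    cases t
    · exact (twistM_lt (aglAct_lt hk x.2.1)).2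
    · rw [(twistM_lt (aglAct_lt hk x.2.1)).2]
  · intro j hj
    obtain ⟨g, hg, hgx⟩ := A.gen j hj
    refine ⟨MulAut.conj twistPerm g, ⟨g, hg, rfl⟩, fun x => ?_⟩
    rw [hc]
    show twistM true (g (twistPerm x)).1 = _
    rw [hgx]
    show twistM true (genAct j (twistM true x.1)) = _
    cases h : evenMask x.1 with
    | true => rw [twistM_even h, twistM_even ((genAct_spec hj x.2.1).2.trans h)]
    | false =>
      have e : twistM true x.1 = x.1 ^^^ 255 := by simp [twistM, h]
      have h255 : ∀ j < 2, genAct j 255 = 255 := by decide +kernel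
      rw [e, genAct_xor hj x.2.1 (by omega), h255 j hj]
      have h' : evenMask (genAct j x.1 ^^^ 255) = false := by
        rw [evenMask_xor (genAct_spec hj x.2.1).1 (by omega), (genAct_spec hj x.2.1).2, h,
          show evenMask 255 = true by decide +kernel]
        rfl
      show (bif true && !evenMask (genAct j x.1 ^^^ 255) then (genAct j x.1 ^^^ 255) ^^^ 255 else _) = _
      rw [h']
      simp [Nat.xor_assoc]

theorem mem_pointStab {k : ℕ} (hk : k < 1344) (h : aglAct k 1 = 1) : k ∈ pointStab := by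
  have h0 : aglPerm k 0 = 0 := by
    have e := aglAct_bit k (i := 0) (by omega)
    rw [pow_zero, h] at e
    exact (Nat.pow_eq_one.1 e.symm).resolve_left (by omega)
  have := List.all_eq_true.1 pointStab_eq.1 k (List.mem_range.2 hk)
  rw [beq_iff_eq, h0] at this
  obtain ⟨a, ha, e⟩ := List.any_eq_true.1 (this.trans rfl)
  exact Nat.eq_of_beq_eq_true e ▸ ha

theorem pointStab_spec {k : ℕ} (hk : k ∈ pointStab) :
    k < 1344 ∧ aglAct k 1 = 1 ∧ aglAct k 254 = 254 := by
  have hlt : k < 1344 := by simpa [Nat.blt_eq] using List.all_eq_true.1 pointStab_eq.2 k hk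
  have := List.all_eq_true.1 pointStab_eq.1 k (List.mem_range.2 hlt)
  rw [beq_iff_eq, List.any_eq_true.2 ⟨k, hk, Nat.beq_refl k⟩] at this
  have h1 : aglAct k 1 = 1 := by
    have e := aglAct_bit k (i := 0) (by omega)
    rwa [Nat.eq_of_beq_eq_true this.symm, pow_zero] at e
  refine ⟨hlt, h1, ?_⟩
  rw [show (254 : ℕ) = 255 ^^^ 1 from rfl, aglAct_add, h1, aglAct_top hlt]

theorem pow_three_xor : ∀ x y z : Fin 8, x ≠ y → x ≠ z → y ≠ z →
    2 ^ x.1 + 2 ^ y.1 + 2 ^ z.1 = 2 ^ x.1 ^^^ (2 ^ y.1 ^^^ 2 ^ z.1) := by decide +kernel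

/-- The orbit of a point under the stabiliser of the full mask. -/
def stabOrbit (H : Subgroup (Equiv.Perm (MV true))) (x : MV true) : Set (MV true) :=
  {y | ∃ h ∈ H ⊓ MulAction.stabilizer (Equiv.Perm (MV true)) (vtop : MV true), h x = y}

theorem Adm.stabOrbit_opt (A : Adm H) (x : MV true) :
    ∃ M, Nat.card (stabOrbit H x) = (List.range 256).countP (inOpt M) ∧
      (M = Nat.pow 2 (classOf x.1) ∨
        M = Nat.lor (Nat.pow 2 (classOf x.1)) (Nat.pow 2 (classOf (twistM true x.1)))) := by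
  have hS : ∀ h ∈ H ⊓ MulAction.stabilizer (Equiv.Perm (MV true)) (vtop : MV true),
      ∀ y ∈ stabOrbit H x, h y ∈ stabOrbit H x := by
    rintro h hh _ ⟨g, hg, rfl⟩
    exact ⟨h * g, mul_mem hh hg, rfl⟩
  have hK : ∀ j < 2, ∃ h ∈ H ⊓ MulAction.stabilizer (Equiv.Perm (MV true)) (vtop : MV true),
      ∀ y, (h y).1 = genAct j y.1 := by
    intro j hj
    obtain ⟨g, hg, hgx⟩ := A.gen j hj
    have h255 : ∀ j < 2, genAct j 255 = 255 := by decide +kernel
    exact ⟨g, ⟨hg, Subtype.ext ((hgx vtop).trans (h255 j hj))⟩, hgx⟩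
  obtain ⟨M, hM, hMx, hMc⟩ := exists_opt hS hK
  refine ⟨M, countP_opt hMx fun v hv _ => ⟨hv, Or.inl rfl⟩, ?_⟩
  have hx : classOf x.1 < 10 := classOf_lt x.2.1
  have hx' : classOf (twistM true x.1) < 10 := classOf_lt (twistM_lt x.2.1).1
  have hself : (M / 2 ^ classOf x.1) % 2 = 1 :=
    Nat.eq_of_beq_eq_true ((hMx x).1 ⟨1, one_mem _, rfl⟩)
  have hsub : ∀ c < 10, (M / 2 ^ c) % 2 = 1 → c = classOf x.1 ∨ c = classOf (twistM true x.1) := by
    intro c hc hb
    obtain ⟨y, ⟨g, hg, rfl⟩, rfl⟩ := hMc c hc hb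
    obtain ⟨k, hk, t, ht⟩ := A.stab g hg.1 hg.2
    have hrc := reach_ok
    simp only [List.all_eq_true, List.mem_range, forceNat_eq, Bool.and_eq_true] at hrc
    have key : ∀ (v : ℕ), v < 256 → classOf (aglAct k v) = classOf v := by
      clear ht
      induction k using Nat.strong_induction_on with
      | _ k ih =>
        intro v hv
        by_cases h0 : k = 0
        · subst h0; rw [aglAct_zero_eq hv]
        obtain ⟨q, j, hq, hj, he⟩ := aglAct_step hk h0
        have hcl : ∀ j < 2, ∀ w < 256, classOf (genAct j w) = classOf w := by decide +kernel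
        rw [he (fun u hu => aglAct_lt (by omega) hu) v hv, hcl j hj _ (aglAct_lt (by omega) hv)]
        exact ih q hq (by omega) v hv
    rw [ht, ← twistM_agl hk x.2.1 t]
    cases t
    · exact Or.inl (key _ x.2.1)
    · exact Or.inr (key _ (twistM_lt x.2.1).1)
  have hb : ∀ c d : Fin 10, ∀ M : Fin 1024, (M.val / 2 ^ c.val) % 2 = 1 →
      (∀ e : Fin 10, (M.val / 2 ^ e.val) % 2 = 1 → e = c ∨ e = d) →
      M.val = Nat.pow 2 c.val ∨ M.val = Nat.lor (Nat.pow 2 c.val) (Nat.pow 2 d.val) := by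
    decide +kernel
  exact hb ⟨_, hx⟩ ⟨_, hx'⟩ ⟨M, hM⟩ hself fun e he =>
    (hsub e.1 e.2 he).imp (fun h => Fin.ext h) fun h => Fin.ext h

theorem nodup_eraseDups' (l : List ℕ) : l.eraseDups.Nodup := by
  induction h : l.length using Nat.strong_induction_on generalizing l with
  | _ n ih =>
    cases l with
    | nil => simp
    | cons a as =>
      rw [List.eraseDups_cons, List.nodup_cons]
      refine ⟨fun hm => by simpa using List.mem_eraseDups.1 hm, ih _ ?_ _ rfl⟩
      subst h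
      exact Nat.lt_succ_of_le (List.length_filter_le _ _)

theorem xor_eight (f : ℕ → ℕ) : linExt f 254 = f 1 ^^^ f 2 ^^^ f 3 ^^^ f 4 ^^^ f 5 ^^^ f 6 ^^^ f 7 := by
  have h : ∀ i < 8, Nat.testBit 254 i = !decide (i = 0) := by decide +kernel
  simp only [linExt, List.range_succ, List.range_zero, List.nil_append, List.foldl_append,
    List.foldl_cons, List.foldl_nil]
  rw [h 0 (by omega), h 1 (by omega), h 2 (by omega), h 3 (by omega), h 4 (by omega), h 5 (by omega),
    h 6 (by omega), h 7 (by omega)]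
  simp

/-- A linear permutation of the masks is determined by its values on single bits. -/
theorem Adm.eq_linExt (A : Adm H) {h : Equiv.Perm (MV true)} (hh : h ∈ H) (x : MV true) :
    (h x).1 = linExt (fun i => if hi : i < 8 then (h (pt (2 ^ i) (pow_lt_256 hi))).1 else 0) x.1 := by
  refine mask_induction (fun v => ∀ hv : v < 256, (h (pt v hv)).1 =
    linExt (fun i => if hi : i < 8 then (h (pt (2 ^ i) (pow_lt_256 hi))).1 else 0) v) ?_ ?_ x.1 x.2.1 x.2.1
  · intro hv
    rw [linExt_zero, show pt 0 hv = (vzero : MV true) from rfl, A.map_zero hh]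
    rfl
  · intro u hu i hi ih hv
    rw [linExt_xor, linExt_pow _ hi, dif_pos hi, ← ih hu]
    exact congrArg Subtype.val (A.add h hh (pt u hu) (pt (2 ^ i) (pow_lt_256 hi)))

theorem Adm.no_single (A : Adm H) : pt 1 ∉ orbSet H := by
  classical
  intro he0
  obtain ⟨h, hh, hhe⟩ := he0
  set Hw := H ⊓ MulAction.stabilizer (Equiv.Perm (MV true)) (vtop : MV true) with hHw
  set u : MV true := h⁻¹ vtop with hu
  -- the two orbits of the stabiliser have one size
  have hconj : Nat.card (stabOrbit H u) = Nat.card (stabOrbit H (pt 1)) := by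
    have e1 := natCard_orbit_mul Hw u
    have e2 := natCard_orbit_mul Hw (pt 1)
    have hcard : Nat.card ↥(Hw ⊓ MulAction.stabilizer (Equiv.Perm (MV true)) u) =
        Nat.card ↥(Hw ⊓ MulAction.stabilizer (Equiv.Perm (MV true)) (pt 1)) := by
      refine Nat.card_congr ?_
      refine Equiv.subtypeEquiv (MulAut.conj h).toEquiv fun g => ?_
      show g ∈ (H ⊓ _) ⊓ _ ↔ h * g * h⁻¹ ∈ (H ⊓ _) ⊓ _
      simp only [Subgroup.mem_inf, MulAction.mem_stabilizer_iff, Equiv.Perm.smul_def, Equiv.Perm.mul_apply]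
      have hu' : h u = vtop := by simp [u]
      have hi : h⁻¹ (pt 1) = vtop := by rw [← hhe]; simp
      rw [hi, show h⁻¹ vtop = u from rfl]
      constructor
      · rintro ⟨⟨g1, g2⟩, g3⟩
        exact ⟨⟨mul_mem (mul_mem hh g1) (inv_mem hh), by rw [g3, hu']⟩, by rw [g2, hhe]⟩
      · rintro ⟨⟨g1, g2⟩, g3⟩
        have : g ∈ H := by
          have := mul_mem (mul_mem (inv_mem hh) g1) hh
          simpa [mul_assoc] using this
        exact ⟨⟨this, h.injective (g3.trans hhe.symm)⟩, h.injective (g2.trans hu'.symm)⟩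
    rw [hcard, ← e2] at e1
    exact Nat.eq_of_mul_eq_mul_right Nat.card_pos e1
  -- so the preimage of the full mask is a single point or its complement
  obtain ⟨M1, hM1, hM1'⟩ := A.stabOrbit_opt (pt 1)
  obtain ⟨M2, hM2, hM2'⟩ := A.stabOrbit_opt u
  have h8 : (List.range 256).countP (inOpt M1) = 8 ∨ (List.range 256).countP (inOpt M1) = 16 := by
    have e : classOf 1 = 1 ∧ classOf (twistM true 1) = 8 := by decide +kernel
    rcases hM1' with rfl | rfl <;> simp only [pt, e.1, e.2]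
    · exact Or.inl orbit_one.1
    · exact Or.inr orbit_one.2
  have huc : classOf u.1 = 1 ∨ classOf u.1 = 8 := by
    have hs := orbit_small
    simp only [List.all_eq_true, List.mem_range, forceNat_eq, Bool.or_eq_true, Bool.and_eq_true] at hs
    have hc := hs u.1 u.2.1
    have hcf := class_facts
    simp only [List.all_eq_true, List.mem_range, forceNat_eq, Bool.and_eq_true] at hcf
    obtain ⟨⟨c9, c0⟩, -⟩ := hcf u.1 u.2.1
    rcases hc with (((e | e) | e) | e) | e
    · exact Or.inl (Nat.eq_of_beq_eq_true e)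
    · exact Or.inr (Nat.eq_of_beq_eq_true e)
    · rw [e, beq_iff_eq] at c0
      have hu0 : u = vzero := Subtype.ext (Nat.eq_of_beq_eq_true c0.symm)
      have : h u = vtop := by simp [u]
      rw [hu0, A.map_zero hh] at this
      exact absurd (congrArg Subtype.val this) (by decide)
    · rw [e, beq_iff_eq] at c9
      have hu9 : u = vtop := Subtype.ext (Nat.eq_of_beq_eq_true c9.symm)
      have : h u = vtop := by simp [u]
      rw [hu9, hhe] at this
      exact absurd (congrArg Subtype.val this) (by decide)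
    · have hne := e M2 (by rcases hM2' with rfl | rfl <;> simp)
      simp only [Bool.and_eq_true, Bool.not_eq_true', Bool.eq_false_iff, ne_eq] at hne
      rw [← hM2, hconj, hM1] at hne
      rcases h8 with e8 | e8
      · exact absurd (by rw [e8]; rfl) hne.1
      · exact absurd (by rw [e8]; rfl) hne.2
  -- adjust by the affine group
  obtain ⟨x0, hx0, hclass⟩ : ∃ x0 : ℕ, (x0 = 1 ∨ x0 = 254) ∧ classOf x0 = classOf u.1 := by
    have e : classOf 1 = 1 ∧ classOf 254 = 8 := by decide +kernel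
    rcases huc with e' | e'
    · exact ⟨1, Or.inl rfl, e.1.trans e'.symm⟩
    · exact ⟨254, Or.inr rfl, e.2.trans e'.symm⟩
  have hx0lt : x0 < 256 := by rcases hx0 with rfl | rfl <;> omega
  have hS : ∀ g ∈ Hw, ∀ y ∈ stabOrbit H (pt x0 hx0lt), g y ∈ stabOrbit H (pt x0 hx0lt) := by
    rintro g hg _ ⟨g', hg', rfl⟩
    exact ⟨g * g', mul_mem hg hg', rfl⟩
  obtain ⟨a, ha, hau⟩ := class_closed hS (fun j hj => by
    obtain ⟨g, hg, hgx⟩ := A.gen j hj
    have h255 : ∀ j < 2, genAct j 255 = 255 := by decide +kernel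
    exact ⟨g, ⟨hg, Subtype.ext ((hgx vtop).trans (h255 j hj))⟩, hgx⟩)
    (x := pt x0 hx0lt) (y := u) ⟨1, one_mem _, rfl⟩ hclass.symm
  set h2 := h * a with hh2
  have hh2H : h2 ∈ H := mul_mem hh ha.1
  have haw : a vtop = vtop := ha.2
  have h2w : h2 vtop = pt 1 := by rw [hh2, Equiv.Perm.mul_apply, haw, hhe]
  have h2x : h2 (pt x0 hx0lt) = vtop := by rw [hh2, Equiv.Perm.mul_apply, hau]; simp [u]
  have h254 : pt 254 = vadd (pt 1) vtop := rfl
  have h2v : ∀ v ∈ [1, 254, 255], ∀ hv : v < 256, (h2 (pt v hv)).1 ∈ [1, 254, 255] := by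
    intro v hv hlt
    simp only [List.mem_cons, List.not_mem_nil, or_false] at hv ⊢
    rcases hx0 with rfl | rfl <;> rcases hv with rfl | rfl | rfl
    · exact Or.inr (Or.inr (congrArg Subtype.val h2x))
    · refine Or.inr (Or.inl ?_)
      rw [show pt 254 hlt = vadd (pt 1) vtop from h254, A.add h2 hh2H, h2w,
        show h2 (pt 1) = vtop from h2x]
      rfl
    · exact Or.inl (congrArg Subtype.val h2w)
    · refine Or.inr (Or.inl ?_)
      rw [show pt 1 hlt = vadd (pt 254) vtop from rfl, A.add h2 hh2H, h2w,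
        show h2 (pt 254) = vtop from h2x]
      rfl
    · exact Or.inr (Or.inr (congrArg Subtype.val h2x))
    · exact Or.inl (congrArg Subtype.val h2w)
  have hback : ∀ y : MV true, y.1 ∈ [1, 254, 255] → (h2⁻¹ y).1 ∈ [1, 254, 255] := by
    intro y hy
    rcases hx0 with rfl | rfl <;> simp only [List.mem_cons, List.not_mem_nil, or_false] at hy ⊢
    · rcases hy with e | e | e
      · rw [show y = h2 vtop from (Subtype.ext e).trans h2w.symm]; simp [vtop]
      · rw [show y = h2 (pt 254) from (by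
          rw [show pt 254 = vadd (pt 1) vtop from rfl, A.add h2 hh2H, h2w,
            show h2 (pt 1) = vtop from h2x]
          exact Subtype.ext e)]
        simp [pt]
      · rw [show y = h2 (pt 1) from (Subtype.ext e).trans h2x.symm]; simp [pt]
    · rcases hy with e | e | e
      · rw [show y = h2 vtop from (Subtype.ext e).trans h2w.symm]; simp [vtop]
      · rw [show y = h2 (pt 1) from (by
          rw [show pt 1 = vadd (pt 254) vtop from rfl, A.add h2 hh2H, h2w,
            show h2 (pt 254) = vtop from h2x]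
          exact Subtype.ext e)]
        simp [pt]
      · rw [show y = h2 (pt 254) from (Subtype.ext e).trans h2x.symm]; simp [pt]
  -- the stabiliser of the point is normalised
  have hnorm : ∀ k ∈ pointStab, ∀ g ∈ H, (∀ x, (g x).1 = aglAct k x.1) →
      (∃ k' ∈ pointStab, ∀ x, (h2 (g (h2⁻¹ x))).1 = aglAct k' x.1) ∧
      ∃ k' ∈ pointStab, ∀ x, (h2⁻¹ (g (h2 x))).1 = aglAct k' x.1 := by
    intro k hk g hg hgx
    obtain ⟨hk', k1, k254⟩ := pointStab_spec hk
    have hfix : ∀ y : MV true, y.1 ∈ [1, 254, 255] → g y = y := by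
      intro y hy
      refine Subtype.ext ((hgx y).trans ?_)
      simp only [List.mem_cons, List.not_mem_nil, or_false] at hy
      rcases hy with e | e | e <;> rw [e]
      exacts [k1, k254, aglAct_top hk']
    have conv : ∀ f : Equiv.Perm (MV true), f ∈ H → f vtop = vtop → f (pt 1) = pt 1 →
        ∃ k' ∈ pointStab, ∀ x, (f x).1 = aglAct k' x.1 := by
      intro f hf f1 f2
      obtain ⟨k', hk'', t, ht⟩ := A.stab f hf f1
      have h1 := ht (pt 1)
      rw [f2] at h1
      cases t with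
      | false => exact ⟨k', mem_pointStab hk'' h1.symm, ht⟩
      | true =>
        have hs := stab_fix
        simp only [List.all_eq_true, List.mem_range, Bool.and_eq_true, Bool.not_eq_true'] at hs
        have := (hs k' hk'').2
        rw [show twistM true (aglAct k' 1) = 1 from h1.symm] at this
        exact absurd this (by decide)
    refine ⟨conv (h2 * g * h2⁻¹) (mul_mem (mul_mem hh2H hg) (inv_mem hh2H)) ?_ ?_,
      conv (h2⁻¹ * g * h2) (mul_mem (mul_mem (inv_mem hh2H) hg) hh2H) ?_ ?_⟩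
    · show h2 (g (h2⁻¹ vtop)) = vtop
      rw [hfix _ (hback vtop (by simp [vtop]))]
      exact h2.apply_symm_apply _
    · show h2 (g (h2⁻¹ (pt 1))) = pt 1
      rw [hfix _ (hback (pt 1) (by simp [pt]))]
      exact h2.apply_symm_apply _
    · show h2⁻¹ (g (h2 (pt 255))) = vtop
      rw [hfix _ (h2v 255 (by simp) (by omega))]
      exact h2.symm_apply_apply _
    · show h2⁻¹ (g (h2 (pt 1))) = pt 1
      rw [hfix _ (h2v 1 (by simp) (by omega))]
      exact h2.symm_apply_apply _
  -- images of the other single points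
  set u1 := h2 (pt 2) with hu1
  have hpt : ∀ i, (hi : i < 8) → i ≠ 0 → ∃ k ∈ pointStab, aglAct k 2 = 2 ^ i := by
    intro i hi hi0
    have h := List.all_eq_true.1 e1_orbit (2 ^ i) (List.mem_range.2 (pow_lt_256 hi))
    rw [beq_iff_eq] at h
    have : (List.range 8).any (fun j => !Nat.beq j 0 && Nat.beq (2 ^ i) (2 ^ j)) = true :=
      List.any_eq_true.2 ⟨i, List.mem_range.2 hi, by
        rw [Nat.beq_refl, Bool.and_true, Bool.not_eq_true', Bool.eq_false_iff]
        exact fun e => hi0 (Nat.eq_of_beq_eq_true e)⟩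
    rw [this] at h
    obtain ⟨k, hk, e⟩ := List.any_eq_true.1 h
    exact ⟨k, hk, Nat.eq_of_beq_eq_true e⟩
  have horb : ∀ v, v ∈ pointStab.map (fun k => aglAct k u1.1) ↔
      ∃ i, ∃ hi : i < 8, i ≠ 0 ∧ v = (h2 (pt (2 ^ i) (pow_lt_256 hi))).1 := by
    intro v
    constructor
    · intro hv
      obtain ⟨k, hk, rfl⟩ := List.mem_map.1 hv
      obtain ⟨g, hg, hgx⟩ := A.exists_agl (pointStab_spec hk).1
      obtain ⟨k', hk', hk'x⟩ := (hnorm k hk g hg hgx).2
      have he := List.all_eq_true.1 e1_orbit (aglAct k' 2)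
        (List.mem_range.2 (aglAct_lt (pointStab_spec hk').1 (by omega)))
      rw [beq_iff_eq, List.any_eq_true.2 (⟨k', hk', Nat.beq_refl _⟩ : ∃ x ∈ pointStab, Nat.beq (aglAct x 2) (aglAct k' 2) = true)] at he
      obtain ⟨i, hi, e⟩ := List.any_eq_true.1 he.symm
      simp only [Bool.and_eq_true, Bool.not_eq_true'] at e
      refine ⟨i, List.mem_range.1 hi, fun e0 => by simp [e0] at e, ?_⟩
      have e2 := Nat.eq_of_beq_eq_true e.2
      rw [← hgx]
      refine congrArg Subtype.val ?_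
      show g (h2 (pt 2)) = _
      have : h2⁻¹ (g (h2 (pt 2))) = pt (2 ^ i) (pow_lt_256 (List.mem_range.1 hi)) :=
        Subtype.ext ((hk'x _).trans e2)
      rw [← this]
      simp
    · rintro ⟨i, hi, hi0, rfl⟩
      obtain ⟨k, hk, hke⟩ := hpt i hi hi0
      obtain ⟨g, hg, hgx⟩ := A.exists_agl (pointStab_spec hk).1
      obtain ⟨k', hk', hk'x⟩ := (hnorm k hk g hg hgx).1
      refine List.mem_map.2 ⟨k', hk', ?_⟩
      rw [← hk'x, hu1]
      refine congrArg Subtype.val ?_
      rw [Equiv.Perm.coe_inv, Equiv.symm_apply_apply]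
      exact congrArg h2 (Subtype.ext ((hgx _).trans hke))
  have hinj : ∀ {i j : ℕ} (hi : i < 8) (hj : j < 8),
      (h2 (pt (2 ^ i) (pow_lt_256 hi))).1 = (h2 (pt (2 ^ j) (pow_lt_256 hj))).1 → i = j := by
    intro i j hi hj e
    exact Nat.pow_right_injective le_rfl (congrArg Subtype.val (h2.injective (Subtype.ext e)))
  have hlen : ((pointStab.map fun k => aglAct k u1.1).eraseDups).length = 7 := by
    have hn : ((pointStab.map fun k => aglAct k u1.1).eraseDups).Nodup := (nodup_eraseDups' _)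
    rw [← List.toFinset_card_of_nodup hn, ← Nat.card_eq_finsetCard]
    refine (Nat.card_congr (Equiv.ofBijective
      (fun i : {i : Fin 8 // i.1 ≠ 0} => (⟨(h2 (pt (2 ^ i.1.1) (pow_lt_256 i.1.2))).1,
        List.mem_toFinset.2 (List.mem_eraseDups.2 ((horb _).2 ⟨_, i.1.2, i.2, rfl⟩))⟩ :
        ((pointStab.map fun k => aglAct k u1.1).eraseDups.toFinset : Set ℕ))) ⟨?_, ?_⟩)).symm.trans ?_
    · intro i j e
      have e' := congrArg Subtype.val e
      exact Subtype.ext (Fin.ext (hinj i.1.2 j.1.2 e'))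
    · rintro ⟨v, hv⟩
      obtain ⟨i, hi, hi0, rfl⟩ := (horb v).1 (List.mem_eraseDups.1 (List.mem_toFinset.1 hv))
      exact ⟨⟨⟨i, hi⟩, hi0⟩, rfl⟩
    · rw [Nat.card_eq_fintype_card]
      decide +kernel
  have hsum : ∀ v ∈ [0, 1, 254, 255], ∀ x : MV true, (h2 x).1 = v → x.1 ∈ [0, 1, 254, 255] := by
    intro v hv x hx
    rcases List.mem_cons.1 hv with rfl | hv
    · have : x = vzero := h2.injective ((Subtype.ext hx).trans (A.map_zero hh2H).symm)
      rw [this]
      simp [vzero]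
    · have := hback (h2 x) (hx ▸ hv)
      rw [show h2⁻¹ (h2 x) = x from h2.symm_apply_apply x] at this
      exact List.mem_cons_of_mem _ this
  have hsm := small_sums
  simp only [List.all_eq_true, List.mem_range, forceNat_eq, Bool.or_eq_true, Bool.and_eq_true,
    Bool.not_eq_true'] at hsm
  have hnot : ∀ w, w ∈ [0, 1, 254, 255] → ∀ v, Nat.beq v w = false → v ≠ w := by
    intro w _ v hf e
    rw [e, Nat.beq_refl] at hf
    exact absurd hf (by decide)
  -- the orbit of the image of a point is a translate of the points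
  obtain ⟨j, hj, hj0, c, hc, hju⟩ : ∃ j, j < 8 ∧ j ≠ 0 ∧ ∃ c ∈ [0, 1, 254, 255], u1.1 = 2 ^ j ^^^ c := by
    have hs := seven_size
    simp only [List.all_eq_true, List.mem_range, forceNat_eq, Bool.or_eq_true, Bool.not_eq_true',
      List.any_eq_true, Bool.and_eq_true] at hs
    rcases hs u1.1 u1.2.1 with (((e | ⟨p, hp, w, hw, e⟩) | ⟨p, hp, q, hq, hpq, w, hw, e⟩) |
      ⟨p, hp, q, hq, r, hr, hpqr, w, hw, e⟩) | ⟨j, hj, hj0, c, hc, e⟩
    · rw [hlen] at e
      exact absurd e (by decide)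
    · exfalso
      obtain ⟨i, hi, hi0, rfl⟩ := (horb p).1 (List.mem_eraseDups.1 hp)
      have hm := hsum w hw (pt (2 ^ i) (pow_lt_256 hi)) (Nat.eq_of_beq_eq_true e)
      rcases hsm i hi i hi i hi with ((h0 | h0) | h0) | ⟨⟨h0, -⟩, -⟩
      · exact hi0 (Nat.eq_of_beq_eq_true h0)
      · exact hi0 (Nat.eq_of_beq_eq_true h0)
      · exact hi0 (Nat.eq_of_beq_eq_true h0)
      · exact hnot _ hm _ (h0 _ hm) rfl
    · exfalso
      obtain ⟨i, hi, hi0, rfl⟩ := (horb p).1 (List.mem_eraseDups.1 hp)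
      obtain ⟨k, hk, hk0, rfl⟩ := (horb q).1 (List.mem_eraseDups.1 hq)
      have hik : i ≠ k := fun e' => by subst e'; rw [Nat.beq_refl] at hpq; exact absurd hpq (by decide)
      have hm := hsum w hw (vadd (pt (2 ^ i) (pow_lt_256 hi)) (pt (2 ^ k) (pow_lt_256 hk)))
        (by rw [A.add h2 hh2H]; exact Nat.eq_of_beq_eq_true e)
      rcases hsm i hi k hk i hi with ((h0 | h0) | h0) | ⟨⟨-, h0⟩, -⟩
      · exact hi0 (Nat.eq_of_beq_eq_true h0)
      · exact hk0 (Nat.eq_of_beq_eq_true h0)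
      · exact hi0 (Nat.eq_of_beq_eq_true h0)
      · rcases h0 with h0 | h0
        · exact hik (Nat.eq_of_beq_eq_true h0)
        · exact hnot _ hm _ (h0 _ hm) rfl
    · exfalso
      obtain ⟨i, hi, hi0, rfl⟩ := (horb p).1 (List.mem_eraseDups.1 hp)
      obtain ⟨k, hk, hk0, rfl⟩ := (horb q).1 (List.mem_eraseDups.1 hq)
      obtain ⟨l, hl, hl0, rfl⟩ := (horb r).1 (List.mem_eraseDups.1 hr)
      obtain ⟨⟨d1, d2⟩, d3⟩ := hpqr
      have hne : ∀ {a b : ℕ} (ha : a < 8) (hb : b < 8),
          Nat.beq (h2 (pt (2 ^ a) (pow_lt_256 ha))).1 (h2 (pt (2 ^ b) (pow_lt_256 hb))).1 = false → a ≠ b := by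
        intro a b ha hb hf e'
        subst e'
        rw [Nat.beq_refl] at hf
        exact absurd hf (by decide)
      have hm := hsum w hw (vadd (pt (2 ^ i) (pow_lt_256 hi))
        (vadd (pt (2 ^ k) (pow_lt_256 hk)) (pt (2 ^ l) (pow_lt_256 hl))))
        (by rw [A.add h2 hh2H, A.add h2 hh2H]; exact Nat.eq_of_beq_eq_true e)
      rcases hsm i hi k hk l hl with ((h0 | h0) | h0) | ⟨-, h0⟩
      · exact hi0 (Nat.eq_of_beq_eq_true h0)
      · exact hk0 (Nat.eq_of_beq_eq_true h0)
      · exact hl0 (Nat.eq_of_beq_eq_true h0)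
      · rcases h0 with ((h0 | h0) | h0) | h0
        · exact hne hi hk d1 (Nat.eq_of_beq_eq_true h0)
        · exact hne hi hl d2 (Nat.eq_of_beq_eq_true h0)
        · exact hne hk hl d3 (Nat.eq_of_beq_eq_true h0)
        · exact hnot _ hm _ (h0 _ hm) rfl
    · exact ⟨j, hj, fun e0 => by simp [e0] at hj0, c, hc, Nat.eq_of_beq_eq_true e⟩
  have hcfix : ∀ k ∈ pointStab, aglAct k c = c := by
    intro k hk
    obtain ⟨hk', k1, k254⟩ := pointStab_spec hk
    simp only [List.mem_cons, List.not_mem_nil, or_false] at hc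
    rcases hc with rfl | rfl | rfl | rfl
    exacts [aglAct_null k, k1, k254, aglAct_top hk']
  have himg : ∀ i, ∀ hi : i < 8, i ≠ 0 →
      ∃ p, p < 8 ∧ p ≠ 0 ∧ (h2 (pt (2 ^ i) (pow_lt_256 hi))).1 = 2 ^ p ^^^ c := by
    intro i hi hi0
    obtain ⟨k, hk, e⟩ := List.mem_map.1 ((horb _).2 ⟨i, hi, hi0, rfl⟩)
    obtain ⟨hk', k1, -⟩ := pointStab_spec hk
    rw [hju, aglAct_add, hcfix k hk, aglAct_bit k hj] at e
    refine ⟨aglPerm k j, ?_, ?_, e.symm⟩
    · have := aglAct_lt hk' (pow_lt_256 hj)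
      rw [aglAct_bit k hj] at this
      exact (Nat.pow_lt_pow_iff_right (by omega)).1 (this.trans_le (le_of_eq (by norm_num : (256 : ℕ) = 2 ^ 8)))
    · intro e0
      have e1 : aglAct k (2 ^ j) = aglAct k 1 := by rw [aglAct_bit k hj, e0, k1, pow_zero]
      obtain ⟨g, hg, hgx⟩ := A.exists_agl hk'
      have := congrArg Subtype.val (g.injective (Subtype.ext (((hgx (pt (2 ^ j) (pow_lt_256 hj))).trans e1).trans
        (hgx (pt 1)).symm)))
      exact hj0 (Nat.pow_eq_one.1 this |>.resolve_left (by omega))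
  choose π hπlt hπ0 hπ using himg
  have πne : ∀ a b (ha : a < 8) (hb : b < 8) (a0 : a ≠ 0) (b0 : b ≠ 0), a ≠ b → π a ha a0 ≠ π b hb b0 := by
    intro a b ha hb a0 b0 hab e
    refine hab (hinj ha hb ?_)
    rw [hπ a ha a0, hπ b hb b0, e]
  -- the permutation preserves the lines
  have hline : ∀ a b (ha : a < 8) (hb : b < 8) (a0 : a ≠ 0) (b0 : b ≠ 0) (hab : a ≠ b)
      (hlt : a ^^^ b < 8) (hne : a ^^^ b ≠ 0), π (a ^^^ b) hlt hne = π a ha a0 ^^^ π b hb b0 := by
    intro a b ha hb a0 b0 hab hlt hne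
    have hac : a ≠ a ^^^ b := fun e => b0 (by
      have := congrArg (a ^^^ ·) e; simpa using this.symm)
    have hbc : b ≠ a ^^^ b := fun e => a0 (by
      have := congrArg (· ^^^ b) e; simpa [Nat.xor_assoc] using this.symm)
    have hl := line_orbit
    simp only [List.all_eq_true, List.mem_range, Bool.or_eq_true, beq_iff_eq] at hl
    have hsize : ∀ x y z, x < 8 → y < 8 → z < 8 → x ≠ y → x ≠ z → y ≠ z →
        (2 ^ x + 2 ^ y + 2 ^ z) = 2 ^ x ^^^ (2 ^ y ^^^ 2 ^ z) :=
      fun x y z hx hy hz hxy hxz hyz => pow_three_xor ⟨x, hx⟩ ⟨y, hy⟩ ⟨z, hz⟩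
        (fun e => hxy (congrArg Fin.val e)) (fun e => hxz (congrArg Fin.val e)) fun e => hyz (congrArg Fin.val e)
    have hlow : (pointStab.map fun k => aglAct k (2 ^ a + 2 ^ b + 2 ^ (a ^^^ b))).eraseDups.length ≤ 7 := by
      rcases hl a ha b hb (a ^^^ b) hlt with (((((e | e) | e) | e) | e) | e) | e
      · exact absurd (Nat.eq_of_beq_eq_true e) a0
      · exact absurd (Nat.eq_of_beq_eq_true e) b0
      · exact absurd (Nat.eq_of_beq_eq_true e) hne
      · exact absurd (Nat.eq_of_beq_eq_true e) hab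
      · exact absurd (Nat.eq_of_beq_eq_true e) hac
      · exact absurd (Nat.eq_of_beq_eq_true e) hbc
      · rw [show isLine a b (a ^^^ b) = true from Nat.beq_refl _] at e
        exact Nat.le_of_ble_eq_true e.symm
    set pa := π a ha a0
    set pb := π b hb b0
    set pc := π (a ^^^ b) hlt hne
    set x := vadd (pt (2 ^ a) (pow_lt_256 ha)) (vadd (pt (2 ^ b) (pow_lt_256 hb)) (pt (2 ^ (a ^^^ b)) (pow_lt_256 hlt))) with hx
    have hx1 : x.1 = 2 ^ a + 2 ^ b + 2 ^ (a ^^^ b) := (hsize a b _ ha hb hlt hab hac hbc).symm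
    have hy : (h2 x).1 = (2 ^ pa + 2 ^ pb + 2 ^ pc) ^^^ c := by
      rw [hsize pa pb pc (hπlt a ha a0) (hπlt b hb b0) (hπlt _ hlt hne) (πne _ _ ha hb a0 b0 hab)
        (πne _ _ ha hlt a0 hne hac) (πne _ _ hb hlt b0 hne hbc), hx, A.add h2 hh2H, A.add h2 hh2H]
      show (h2 _).1 ^^^ ((h2 _).1 ^^^ (h2 _).1) = _
      rw [hπ a ha a0, hπ b hb b0, hπ _ hlt hne]
      simp [Nat.xor_assoc, Nat.xor_left_comm c, Nat.xor_comm c, pa, pb, pc]
    have hle : (pointStab.map fun k => aglAct k (2 ^ pa + 2 ^ pb + 2 ^ pc)).eraseDups.length ≤ 7 := by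
      refine le_trans ?_ hlow
      rw [← List.toFinset_card_of_nodup ((nodup_eraseDups' _)),
        ← List.toFinset_card_of_nodup ((nodup_eraseDups' _))]
      refine Finset.card_le_card_of_surjOn (fun v => if hv : v < 256 then (h2 (pt v hv)).1 ^^^ c else 0) ?_
      intro v hv
      obtain ⟨k, hk, rfl⟩ := List.mem_map.1 (List.mem_eraseDups.1 (List.mem_toFinset.1 hv))
      obtain ⟨g, hg, hgx⟩ := A.exists_agl (pointStab_spec hk).1
      obtain ⟨k', hk', hk'x⟩ := (hnorm k hk g hg hgx).2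
      have hv' : aglAct k' (2 ^ a + 2 ^ b + 2 ^ (a ^^^ b)) < 256 :=
        aglAct_lt (pointStab_spec hk').1 (by rw [← hx1]; exact x.2.1)
      refine ⟨aglAct k' (2 ^ a + 2 ^ b + 2 ^ (a ^^^ b)), List.mem_toFinset.2 (List.mem_eraseDups.2
        (List.mem_map.2 ⟨k', hk', rfl⟩)), ?_⟩
      simp only [dif_pos hv']
      have e : pt _ hv' = h2⁻¹ (g (h2 x)) := Subtype.ext (by rw [hk'x, hx1]; rfl)
      rw [e, Equiv.Perm.coe_inv, Equiv.apply_symm_apply, hgx, hy, aglAct_add, hcfix k hk, Nat.xor_assoc, Nat.xor_self,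
        Nat.xor_zero]
    rcases hl pa (hπlt a ha a0) pb (hπlt b hb b0) pc (hπlt _ hlt hne) with (((((e | e) | e) | e) | e) | e) | e
    · exact absurd (Nat.eq_of_beq_eq_true e) (hπ0 _ _ _)
    · exact absurd (Nat.eq_of_beq_eq_true e) (hπ0 _ _ _)
    · exact absurd (Nat.eq_of_beq_eq_true e) (hπ0 _ _ _)
    · exact absurd (Nat.eq_of_beq_eq_true e) (πne _ _ ha hb a0 b0 hab)
    · exact absurd (Nat.eq_of_beq_eq_true e) (πne _ _ ha hlt a0 hne hac)
    · exact absurd (Nat.eq_of_beq_eq_true e) (πne _ _ hb hlt b0 hne hbc)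
    · rw [Nat.ble_eq_true_of_le hle] at e
      exact (Nat.eq_of_beq_eq_true e).symm
  have q1 := hπlt 1 (by omega) (by omega)
  have e3 : π 3 (by omega) (by omega) = π 1 (by omega) (by omega) ^^^ π 2 (by omega) (by omega) :=
    hline 1 2 (by omega) (by omega) (by omega) (by omega) (by omega) (by decide) (by decide)
  have e5 : π 5 (by omega) (by omega) = π 1 (by omega) (by omega) ^^^ π 4 (by omega) (by omega) :=
    hline 1 4 (by omega) (by omega) (by omega) (by omega) (by omega) (by decide) (by decide)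
  have e6 : π 6 (by omega) (by omega) = π 2 (by omega) (by omega) ^^^ π 4 (by omega) (by omega) :=
    hline 2 4 (by omega) (by omega) (by omega) (by omega) (by omega) (by decide) (by decide)
  have e7 : π 7 (by omega) (by omega) =
      π 1 (by omega) (by omega) ^^^ (π 2 (by omega) (by omega) ^^^ π 4 (by omega) (by omega)) := by
    rw [← e6]
    exact hline 1 6 (by omega) (by omega) (by omega) (by omega) (by omega) (by decide) (by decide)
  obtain ⟨k, hk, hkb⟩ : ∃ k ∈ pointStab, ∀ i (hi : i < 8) (hi0 : i ≠ 0), aglAct k (2 ^ i) = 2 ^ π i hi hi0 := by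
    have hl := line_agl
    simp only [List.all_eq_true, List.mem_range, Bool.or_eq_true] at hl
    rcases hl _ (hπlt 1 (by omega) (by omega)) _ (hπlt 2 (by omega) (by omega)) _
      (hπlt 4 (by omega) (by omega)) with ((((((e | e) | e) | e) | e) | e) | e) | e
    · exact absurd (Nat.eq_of_beq_eq_true e) (hπ0 _ _ _)
    · exact absurd (Nat.eq_of_beq_eq_true e) (hπ0 _ _ _)
    · exact absurd (Nat.eq_of_beq_eq_true e) (hπ0 _ _ _)
    · exact absurd (Nat.eq_of_beq_eq_true e) (πne _ _ _ _ _ _ (by omega))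
    · exact absurd (e3.trans (Nat.eq_of_beq_eq_true e)) (πne 3 4 _ _ _ _ (by omega))
    · exact absurd (Nat.eq_of_beq_eq_true e) (πne _ _ _ _ _ _ (by omega))
    · exact absurd (Nat.eq_of_beq_eq_true e) (πne _ _ _ _ _ _ (by omega))
    · obtain ⟨k, hk, hq⟩ := List.any_eq_true.1 e
      simp only [List.all_cons, List.all_nil, Bool.and_true, Bool.and_eq_true] at hq
      obtain ⟨a1, a2, a3, a4, a5, a6, a7⟩ := hq
      refine ⟨k, hk, fun i hi hi0 => ?_⟩
      interval_cases i
      · exact absurd rfl hi0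
      · exact Nat.eq_of_beq_eq_true a1
      · exact Nat.eq_of_beq_eq_true a2
      · rw [e3]; exact Nat.eq_of_beq_eq_true a3
      · exact Nat.eq_of_beq_eq_true a4
      · rw [e5]; exact Nat.eq_of_beq_eq_true a5
      · rw [e6]; exact Nat.eq_of_beq_eq_true a6
      · rw [e7]; exact Nat.eq_of_beq_eq_true a7
  obtain ⟨g, hg, hgx⟩ := A.exists_agl (pointStab_spec hk).1
  set h3 := g⁻¹ * h2 with hh3
  have hh3H : h3 ∈ H := mul_mem (inv_mem hg) hh2H
  have hginv : ∀ v, ∀ hv : v < 256, aglAct k v = v → g⁻¹ (pt v hv) = pt v hv := fun v hv e => by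
    rw [Equiv.Perm.inv_eq_iff_eq]
    exact Subtype.ext ((hgx (pt v hv)).trans e).symm
  have hc256 : c < 256 := by
    simp only [List.mem_cons, List.not_mem_nil, or_false] at hc
    omega
  have h3b : ∀ i (hi : i < 8), i ≠ 0 → (h3 (pt (2 ^ i) (pow_lt_256 hi))).1 = 2 ^ i ^^^ c := by
    intro i hi hi0
    have e : h2 (pt (2 ^ i) (pow_lt_256 hi)) = g (vadd (pt (2 ^ i) (pow_lt_256 hi)) (pt c hc256)) := by
      refine Subtype.ext ?_
      rw [hπ i hi hi0, hgx]
      show _ = aglAct k (2 ^ i ^^^ c)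
      rw [aglAct_add, hcfix k hk, hkb i hi hi0]
    rw [hh3, Equiv.Perm.mul_apply, e, Equiv.Perm.coe_inv, Equiv.symm_apply_apply]
    rfl
  have h3w : h3 vtop = pt 1 := by
    rw [hh3, Equiv.Perm.mul_apply, h2w, hginv 1 (by omega) (pointStab_spec hk).2.1]
  have h3x : h3 (pt x0 hx0lt) = vtop := by
    rw [hh3, Equiv.Perm.mul_apply, h2x]
    exact hginv 255 (by omega) (aglAct_top (pointStab_spec hk).1)
  have h3x254 : (h3 (pt 254)).1 = 254 ^^^ c := by
    rw [A.eq_linExt hh3H, show (pt 254 : MV true).1 = 254 from rfl, xor_eight]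
    simp only [show (1 : ℕ) < 8 by omega, show (2 : ℕ) < 8 by omega, show (3 : ℕ) < 8 by omega,
      show (4 : ℕ) < 8 by omega, show (5 : ℕ) < 8 by omega, show (6 : ℕ) < 8 by omega,
      show (7 : ℕ) < 8 by omega, dif_pos]
    rw [h3b 1 (by omega) (by omega), h3b 2 (by omega) (by omega), h3b 3 (by omega) (by omega),
      h3b 4 (by omega) (by omega), h3b 5 (by omega) (by omega), h3b 6 (by omega) (by omega),
      h3b 7 (by omega) (by omega)]
    simp only [List.mem_cons, List.not_mem_nil, or_false] at hc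
    rcases hc with rfl | rfl | rfl | rfl <;> decide +kernel
  have hcc : (c = 0 ∧ (h3 (pt 1)).1 = 255) ∨ (c = 1 ∧ (h3 (pt 1)).1 = 254) := by
    have hall : ∀ d ∈ [0, 1, 254, 255], (254 ^^^ d = 254 → d = 0) ∧ (254 ^^^ d = 255 → d = 1) := by
      decide +kernel
    rcases hx0 with rfl | rfl
    · left
      have e : h3 (pt 254) = vadd (h3 (pt 1)) (h3 vtop) := by
        rw [← A.add h3 hh3H]; rfl
      rw [h3w, show h3 (pt 1) = vtop from h3x] at e
      refine ⟨(hall c hc).1 ?_, congrArg Subtype.val h3x⟩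
      rw [← h3x254, e]
      rfl
    · right
      refine ⟨(hall c hc).2 ?_, ?_⟩
      · rw [← h3x254, show h3 (pt 254) = vtop from h3x]
        rfl
      · rw [show (pt 1 : MV true) = vadd (pt 254) vtop from rfl, A.add h3 hh3H,
          show h3 (pt 254) = vtop from h3x, h3w]
        rfl
  have htau : ∀ x, (h3 x).1 = tauMap c x.1 := by
    intro x
    rw [A.eq_linExt hh3H, tauMap]
    refine List.foldl_ext _ _ 0 fun r i hi => ?_
    have hi' := List.mem_range.1 hi
    simp only [dif_pos hi']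
    by_cases h0 : i = 0
    · subst h0
      rcases hcc with ⟨rfl, e⟩ | ⟨rfl, e⟩
      · rw [show (h3 (pt (2 ^ 0) (pow_lt_256 hi'))).1 = 255 from e]; rfl
      · rw [show (h3 (pt (2 ^ 0) (pow_lt_256 hi'))).1 = 254 from e]; rfl
    · rw [h3b i hi' h0, show Nat.beq i 0 = false from Bool.eq_false_iff.2 fun e => h0 (Nat.eq_of_beq_eq_true e)]
      rfl
  have ht1 : transIdx.getD 1 0 < 1344 := by
    have h := trans_spec
    simp only [List.all_eq_true, List.mem_range, forceNat_eq, Bool.and_eq_true] at h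
    simpa [Nat.blt_eq] using (h 1 (by omega)).1.1
  obtain ⟨t, ht, htx⟩ := A.exists_agl ht1
  obtain ⟨W, hW, hWx⟩ : ∃ W ∈ H, ∀ x, (W x).1 = tauWord c x.1 := by
    rcases hcc with ⟨rfl, -⟩ | ⟨rfl, -⟩
    · refine ⟨h3 * t * h3 * t * h3, mul_mem (mul_mem (mul_mem (mul_mem hh3H ht) hh3H) ht) hh3H, fun x => ?_⟩
      simp only [Equiv.Perm.mul_apply, htau, htx]
      rfl
    · refine ⟨h3 * t * h3 * h3 * t * h3,
        mul_mem (mul_mem (mul_mem (mul_mem (mul_mem hh3H ht) hh3H) hh3H) ht) hh3H, fun x => ?_⟩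
      simp only [Equiv.Perm.mul_apply, htau, htx]
      rfl
  have hword := tau_word
  simp only [List.all_eq_true, Bool.and_eq_true, List.any_eq_true, List.mem_range, Bool.not_eq_true'] at hword
  obtain ⟨hw1, hw2⟩ := hword c (by rcases hcc with ⟨rfl, -⟩ | ⟨rfl, -⟩ <;> simp)
  obtain ⟨k', hk', s, hs⟩ := A.stab W hW (Subtype.ext ((hWx vtop).trans (Nat.eq_of_beq_eq_true hw1)))
  obtain ⟨i, hi, hne⟩ := hw2 k' hk' s (by cases s <;> simp)
  have := hWx (pt (2 ^ i) (pow_lt_256 hi))
  rw [hs] at this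
  rw [show tauWord c (2 ^ i) = twistM s (aglAct k' (2 ^ i)) from this.symm, Nat.beq_refl] at hne
  exact absurd hne (by decide)

theorem Adm.no_point (A : Adm H) {x : MV true} (hx : x ∈ orbSet H) : classOf x.1 ≠ 1 ∧ classOf x.1 ≠ 8 := by
  have h1 : ∀ {H : Subgroup (Equiv.Perm (MV true))}, Adm H → ∀ {x : MV true}, x ∈ orbSet H → classOf x.1 ≠ 1 := by
    intro H A x hx e
    refine A.no_single (class_closed (S := orbSet H) (K := H) (fun h hh y hy => orbSet_smul hy hh)
      A.gen hx ?_)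
    rw [e]
    decide +kernel
  refine ⟨h1 A hx, fun e => ?_⟩
  obtain ⟨h, hh, rfl⟩ := hx
  refine h1 A.conj_twist (x := twistPerm (h vtop)) ⟨MulAut.conj twistPerm h, ⟨h, hh, rfl⟩, ?_⟩ ?_
  · show twistPerm (h (twistPerm⁻¹ vtop)) = twistPerm (h vtop)
    rw [show twistPerm⁻¹ (vtop : MV true) = vtop from Subtype.ext (by decide +kernel)]
  · have hc : ∀ v < 256, classOf v = 8 → classOf (twistM true v) = 1 := by decide +kernel
    exact hc _ (h vtop).2.1 e

end Cfsg.Agent.Lib.E8Frame76
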