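import Cfsg.Agent.Lib.E8Frame76.PrimeCase
import Cfsg.Agent.Lib.E8Frame76.BigCase
import Cfsg.Agent.Lib.E8Frame76.FifteenCase
import Cfsg.Agent.Lib.E8Frame76.ReflCase

/-!
# An admissible group fixes the full mask
-/

set_option autoImplicit false
set_option maxRecDepth 20000

namespace Cfsg.Agent.Lib.E8Frame76

open Cfsg.Agent.Lib.Compute

variable {b : Bool} {H : Subgroup (Equiv.Perm (MV b))}

theorem inOpt_iff {M v : ℕ} : inOpt M v = true ↔ (M / 2 ^ classOf v) % 2 = 1 :=
  ⟨fun h => Nat.eq_of_beq_eq_true h, fun h => by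
    show Nat.beq ((M / 2 ^ classOf v) % 2) 1 = true
    rw [h]; rfl⟩

theorem pairCount_orbit (A : Adm H) {M : ℕ} (hM : ∀ x : MV b, x ∈ orbSet H ↔ inOpt M x.1 = true)
    (hU : ∀ v < 256, inOpt M v = true → InU b v) {u : MV b} (hu : u ∈ orbSet H) :
    pairCount M u.1 = pairCount M 255 := by
  have e : ∀ u : MV b, pairCount M u.1 = Nat.card {p : MV b // p ∈ orbSet H ∧ vadd p u ∈ orbSet H} := by
    intro u
    rw [Nat.card_congr (Equiv.subtypeEquivRight (q := fun p : MV b =>
      (inOpt M p.1 && inOpt M (Nat.xor p.1 u.1)) = true) fun p => by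
        rw [Bool.and_eq_true, hM, hM]; exact Iff.rfl),
      natCard_filter b fun v => inOpt M v && inOpt M (Nat.xor v u.1)]
    refine List.countP_congr fun v hv => ?_
    simp only [Bool.and_eq_true, Bool.or_eq_true]
    exact ⟨fun h => ⟨(hU v (List.mem_range.1 hv) h.1).2, h⟩, fun h => h.2⟩
  obtain ⟨h, hh, rfl⟩ := hu
  rw [e, show (255 : ℕ) = (vtop : MV b).1 from rfl, e]
  refine (Nat.card_congr (Equiv.subtypeEquiv h fun p => ?_)).symm
  rw [← A.add h hh, orbSet_iff hh, orbSet_iff hh]

theorem Adm.restrict_even {H : Subgroup (Equiv.Perm (MV true))} (A : Adm H)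
    (hO : ∀ x : MV true, x ≠ vzero → evenMask x.1 = true → x ∈ orbSet H)
    (hE : ∀ x ∈ orbSet H, evenMask x.1 = true) :
    ∃ H' : Subgroup (Equiv.Perm (MV false)), Adm H' ∧ ∀ x : MV false, x ≠ vzero → x ∈ orbSet H' := by
  classical
  let inc : MV false → MV true := fun x => ⟨x.1, x.2.1, Or.inl rfl⟩
  have hp : ∀ h ∈ H, ∀ x : MV false, evenMask (h (inc x)).1 = true := by
    intro h hh x
    by_cases hx : x = vzero
    · rw [hx, show inc vzero = vzero from rfl, A.map_zero hh]
      exact (show evenMask 0 = true by decide +kernel)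
    · exact hE _ (orbSet_smul (hO _ (fun e => hx (Subtype.ext (show x.1 = 0 from congrArg Subtype.val e))) x.even) hh)
  let H' : Subgroup (Equiv.Perm (MV false)) :=
    { carrier := {f | ∃ h ∈ H, ∀ x, (f x).1 = (h (inc x)).1}
      one_mem' := ⟨1, one_mem H, fun x => rfl⟩
      mul_mem' := by
        rintro f g ⟨h, hh, hf⟩ ⟨k, hk, hg⟩
        refine ⟨h * k, mul_mem hh hk, fun x => ?_⟩
        rw [Equiv.Perm.mul_apply, hf, Equiv.Perm.mul_apply,
          show inc (g x) = k (inc x) from Subtype.ext (hg x)]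
      inv_mem' := by
        rintro f ⟨h, hh, hf⟩
        refine ⟨h⁻¹, inv_mem hh, fun x => ?_⟩
        have e : inc x = h (inc (f⁻¹ x)) := Subtype.ext (by rw [← hf]; simp [inc])
        rw [e]
        exact (congrArg Subtype.val (h.symm_apply_apply (inc (f⁻¹ x)))).symm }
  have lift : ∀ h ∈ H, ∃ f ∈ H', ∀ x, (f x).1 = (h (inc x)).1 := by
    intro h hh
    let F : MV false → MV false := fun x => ⟨(h (inc x)).1, (h (inc x)).2.1, Or.inr (hp h hh x)⟩
    let F' : MV false → MV false := fun x => ⟨(h⁻¹ (inc x)).1, (h⁻¹ (inc x)).2.1, Or.inr (hp _ (inv_mem hh) x)⟩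
    refine ⟨⟨F, F', fun x => Subtype.ext ?_, fun x => Subtype.ext ?_⟩, ⟨h, hh, fun x => rfl⟩, fun x => rfl⟩
    · show (h⁻¹ (inc (F x))).1 = x.1
      rw [show inc (F x) = h (inc x) from rfl, Equiv.Perm.coe_inv, Equiv.symm_apply_apply]
    · show (h (inc (F' x))).1 = x.1
      rw [show inc (F' x) = h⁻¹ (inc x) from rfl, Equiv.Perm.coe_inv, Equiv.apply_symm_apply]
  refine ⟨H', ⟨?_, ?_, ?_⟩, fun x hx => ?_⟩
  · rintro f ⟨h, hh, hf⟩ x y
    refine Subtype.ext ?_
    show _ = (f x).1 ^^^ (f y).1
    rw [hf, hf, hf, show inc (vadd x y) = vadd (inc x) (inc y) from rfl, A.add h hh]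
    rfl
  · rintro f ⟨h, hh, hf⟩ e
    have e' : h vtop = vtop := Subtype.ext (by
      rw [show (vtop : MV true) = inc vtop from rfl, ← hf, e])
    obtain ⟨k, hk, t, ht⟩ := A.stab h hh e'
    exact ⟨k, hk, t, fun x => by rw [hf, ht]⟩
  · intro j hj
    obtain ⟨g, hg, hgx⟩ := A.gen j hj
    obtain ⟨f, hf, hfx⟩ := lift g hg
    exact ⟨f, hf, fun x => by rw [hfx, hgx]⟩
  · obtain ⟨h, hh, hhx⟩ := hO (inc x) (fun e => hx (Subtype.ext (show x.1 = 0 from congrArg Subtype.val e))) x.even
    obtain ⟨f, hf, hfx⟩ := lift h hh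
    exact ⟨f, hf, Subtype.ext (by rw [hfx, show inc vtop = vtop from rfl, hhx])⟩

/-- The orbit of the full mask is a single point. -/
theorem Adm.fix_top (A : Adm H) : ∀ h ∈ H, h vtop = vtop := by
  classical
  obtain ⟨M, hM, hMx, hMc⟩ := exists_opt (S := orbSet H) (K := H) (fun h hh y hy => orbSet_smul hy hh) A.gen
  have hU : ∀ v < 256, inOpt M v = true → InU b v := by
    intro v hv h
    obtain ⟨y, hy, hyc⟩ := hMc _ (classOf_lt hv) (inOpt_iff.1 h)
    refine ⟨hv, y.2.2.imp id fun hev => ?_⟩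
    have hcl : ∀ v < 256, ∀ u < 256, classOf v = classOf u → evenMask v = evenMask u := by
      intro v hv u hu e
      have hcf := class_facts
      simp only [List.all_eq_true, List.mem_range, forceNat_eq, Bool.and_eq_true, beq_iff_eq] at hcf
      rw [(hcf v hv).2, (hcf u hu).2, e]
    exact (hcl v hv y.1 y.2.1 hyc.symm).trans hev
  have hc9 : classOf 255 = 9 := by decide +kernel
  have h9 : (M / 2 ^ 9) % 2 = 1 := hc9 ▸ inOpt_iff.1 ((hMx vtop).1 orbSet_top)
  have h0 : (M / 2 ^ 0) % 2 ≠ 1 := by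
    intro e
    obtain ⟨y, ⟨h, hh, rfl⟩, hy⟩ := hMc 0 (by omega) e
    have hc0 : ∀ v < 256, classOf v = 0 → v = 0 := by decide +kernel
    have : h vtop = vzero := Subtype.ext (hc0 _ (h vtop).2.1 hy)
    rw [← A.map_zero hh] at this
    exact absurd (show (255 : ℕ) = 0 from congrArg Subtype.val (h.injective this)) (by omega)
  have h18 : (M / 2 ^ 1) % 2 ≠ 1 ∧ (M / 2 ^ 8) % 2 ≠ 1 := by
    have hodd : ∀ v < 256, (classOf v = 1 ∨ classOf v = 8) → evenMask v = false := by decide +kernel
    constructor <;> intro e <;> obtain ⟨y, hy, hyc⟩ := hMc _ (by omega) e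
    all_goals
      cases b with
      | false =>
        have := y.even
        rw [hodd _ y.2.1 (by omega)] at this
        exact absurd this (by decide)
      | true => have := A.no_point hy; omega
  have hopt := opts_ok
  simp only [List.all_eq_true, List.mem_range, forceNat_eq, Bool.or_eq_true, List.any_eq_true,
    Bool.not_eq_true', Bool.and_eq_true] at hopt
  rcases hopt M hM with (hguard | ⟨w, hw, e⟩) | ⟨u, -, hu, huM, hne⟩
  · exfalso
    have g0 : Nat.beq (Nat.mod M 2) 0 = true := by
      have : M % 2 = 0 := by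
        simp only [pow_zero, Nat.div_one] at h0; omega
      show Nat.beq (M % 2) 0 = true
      rw [this]; rfl
    have g9 : Nat.beq (Nat.mod (Nat.div M 512) 2) 1 = true := by
      show Nat.beq ((M / 512) % 2) 1 = true
      rw [show (M / 512) % 2 = 1 from h9]; rfl
    have g1 : Nat.beq (Nat.mod (Nat.div M 2) 2) 0 = true := by
      show Nat.beq ((M / 2) % 2) 0 = true
      rw [show (M / 2) % 2 = 0 from by have := h18.1; norm_num at this; omega]; rfl
    have g8 : Nat.beq (Nat.mod (Nat.div M 256) 2) 0 = true := by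
      show Nat.beq ((M / 256) % 2) 0 = true
      rw [show (M / 256) % 2 = 0 from by have := h18.2; norm_num at this; omega]; rfl
    rw [g0, g9, g1, g8] at hguard
    exact absurd hguard (by decide)
  · have hcard := countP_opt hMx hU
    have hsz := opt_sizes
    simp only [Bool.and_eq_true] at hsz
    obtain ⟨⟨⟨⟨⟨s520, s576⟩, s640⟩, s528⟩, s692⟩, s512⟩ := hsz
    have hw' : M = 512 ∨ M = 528 ∨ M = 692 ∨ M = 520 ∨ M = 576 ∨ M = 640 := by
      have := Nat.eq_of_beq_eq_true e
      subst this
      simpa [optList] using hw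
    have hprime : ∀ p, (p = 19 ∨ p = 29) → p ∣ Nat.card (orbSet H) → False := by
      intro p hp hd
      haveI : Fact p.Prime := ⟨by rcases hp with rfl | rfl <;> norm_num⟩
      have hH : p ∣ Nat.card H := by
        rw [← natCard_orbit_mul H vtop]
        exact Dvd.dvd.mul_right hd _
      obtain ⟨σ, hσ⟩ := exists_prime_orderOf_dvd_card' (G := H) p hH
      have h1 := eq_one_of_prime hp (σ : Equiv.Perm (MV b)) (A.add σ σ.2) (A.map_zero σ.2) (by
        rw [← hσ, ← Subgroup.orderOf_coe, pow_orderOf_eq_one])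
      rw [← Subgroup.orderOf_coe, h1, orderOf_one] at hσ
      rcases hp with rfl | rfl <;> omega
    rcases hw' with rfl | rfl | rfl | rfl | rfl | rfl
    · intro h hh
      have h1 : Nat.card (orbSet H) = 1 := hcard.trans (Nat.eq_of_beq_eq_true s512)
      haveI := (Nat.card_eq_one_iff_unique.1 h1).1
      exact congrArg Subtype.val (Subsingleton.elim (⟨h vtop, h, hh, rfl⟩ : orbSet H) ⟨vtop, orbSet_top⟩)
    · exact (A.not_fifteen hMx).elim
    · exfalso
      have hall : ∀ v < 256, inOpt 692 v = (evenMask v && !Nat.beq v 0) := by decide +kernel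
      cases b with
      | false =>
        refine A.not_transitive fun x hx => (hMx x).2 ?_
        rw [hall _ x.2.1, x.even, Bool.true_and, Bool.not_eq_true', Bool.eq_false_iff]
        exact fun e => hx (Subtype.ext (Nat.eq_of_beq_eq_true e))
      | true =>
        obtain ⟨H', A', h'⟩ := A.restrict_even (fun x hx hev => (hMx x).2 (by
            rw [hall _ x.2.1, hev, Bool.true_and, Bool.not_eq_true', Bool.eq_false_iff]
            exact fun e => hx (Subtype.ext (Nat.eq_of_beq_eq_true e))))
          (fun x hx => by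
            have := (hMx x).1 hx
            rw [hall _ x.2.1, Bool.and_eq_true] at this
            exact this.1)
        exact A'.not_transitive h'
    · exact (hprime 19 (Or.inl rfl) (by rw [hcard, Nat.eq_of_beq_eq_true s520]; norm_num)).elim
    · exact (hprime 19 (Or.inl rfl) (by rw [hcard, Nat.eq_of_beq_eq_true s576]; norm_num)).elim
    · exact (hprime 29 (Or.inr rfl) (by rw [hcard, Nat.eq_of_beq_eq_true s640])).elim
  · exfalso
    have hu : u < 256 := by simpa [Nat.blt_eq] using hu
    rw [pairCount_orbit A hMx hU (u := ⟨u, hU u hu huM⟩) ((hMx _).2 huM), Nat.beq_refl] at hne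
    exact absurd hne (by decide)

/-- Only the empty and the full mask are fixed by the affine group. -/
theorem fixed_by_gens : ∀ v < 256, genAct 0 v = v → genAct 1 v = v → v = 0 ∨ v = 255 := by decide +kernel

end Cfsg.Agent.Lib.E8Frame76
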