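import Cfsg.Agent.Lib.E8Frame76.Adm

/-!
# No linear map of order nineteen or twenty-nine on the masks
-/

set_option autoImplicit false

namespace Cfsg.Agent.Lib.E8Frame76

variable {b : Bool}

/-- The bits of a mask. -/
def bitVec (x : ℕ) : Fin 8 → ZMod 2 := fun i => if x.testBit i.val then 1 else 0

theorem bitVec_xor (x y : ℕ) : bitVec (x ^^^ y) = bitVec x + bitVec y := by
  funext i
  simp only [bitVec, Pi.add_apply, Nat.testBit_xor]
  cases x.testBit i.val <;> cases y.testBit i.val <;> simp <;> decide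

theorem bitVec_inj {x y : ℕ} (hx : x < 256) (hy : y < 256) (h : bitVec x = bitVec y) : x = y := by
  refine Nat.eq_of_testBit_eq fun i => ?_
  by_cases hi : i < 8
  · have := congrFun h ⟨i, hi⟩
    simp only [bitVec] at this
    cases hx' : x.testBit i <;> cases hy' : y.testBit i <;> simp_all
  · have h8 : (256 : ℕ) ≤ 2 ^ i := by
      calc (256 : ℕ) = 2 ^ 8 := by norm_num
        _ ≤ 2 ^ i := Nat.pow_le_pow_right (by omega) (by omega)
    rw [Nat.testBit_lt_two_pow (by omega), Nat.testBit_lt_two_pow (by omega)]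

/-- An additive permutation of the masks of order nineteen or twenty-nine fixes everything. -/
theorem eq_one_of_prime {p : ℕ} (hp : p = 19 ∨ p = 29) (h : Equiv.Perm (MV b))
    (hadd : ∀ x y, h (vadd x y) = vadd (h x) (h y)) (h0 : h vzero = vzero) (hpow : h ^ p = 1) :
    h = 1 := by
  classical
  haveI : Fact p.Prime := ⟨by rcases hp with rfl | rfl <;> norm_num⟩
  have hP : IsPGroup p ↥(Subgroup.zpowers h) := by
    rintro ⟨g, i, rfl⟩
    exact ⟨1, Subtype.ext (by
      show (h ^ i) ^ (p ^ 1) = 1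
      rw [pow_one, ← zpow_natCast, ← zpow_mul, mul_comm, zpow_mul, zpow_natCast, hpow, one_zpow])⟩
  have hm := hP.card_modEq_card_fixedPoints (MV b)
  have hfix : ∀ x : MV b, x ∈ MulAction.fixedPoints ↥(Subgroup.zpowers h) (MV b) ↔ h x = x := by
    intro x
    constructor
    · exact fun hx => hx ⟨h, Subgroup.mem_zpowers h⟩
    · intro hx g
      have : g.1 ∈ MulAction.stabilizer (Equiv.Perm (MV b)) x :=
        (Subgroup.zpowers_le.2 (show h ∈ MulAction.stabilizer (Equiv.Perm (MV b)) x from hx)) g.2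
      exact this
  let S : AddSubgroup (Fin 8 → ZMod 2) :=
    { carrier := {v | ∃ x : MV b, h x = x ∧ bitVec x.1 = v}
      zero_mem' := ⟨vzero, h0, by funext i; simp [bitVec, vzero]⟩
      add_mem' := by
        rintro _ _ ⟨x, hx, rfl⟩ ⟨y, hy, rfl⟩
        exact ⟨vadd x y, by rw [hadd, hx, hy], bitVec_xor _ _⟩
      neg_mem' := by
        rintro _ ⟨x, hx, rfl⟩
        refine ⟨x, hx, ?_⟩
        funext i
        simp only [bitVec, Pi.neg_apply]
        split <;> rfl }
  have hS : Nat.card S = Nat.card (MulAction.fixedPoints ↥(Subgroup.zpowers h) (MV b)) := by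
    refine (Nat.card_congr (Equiv.ofBijective
      (fun x => (⟨bitVec x.1.1, x.1, (hfix _).1 x.2, rfl⟩ : S)) ⟨?_, ?_⟩)).symm
    · intro x y e
      exact Subtype.ext (Subtype.ext (bitVec_inj x.1.2.1 y.1.2.1 (congrArg Subtype.val e)))
    · rintro ⟨v, x, hx, rfl⟩
      exact ⟨⟨x, (hfix x).2 hx⟩, rfl⟩
  have hdvd : Nat.card S ∣ 256 := by
    have := S.card_addSubgroup_dvd_card
    rwa [show Nat.card (Fin 8 → ZMod 2) = 256 by simp [Nat.card_eq_fintype_card]] at this
  have hle : Nat.card S ≤ Nat.card (MV b) := hS.trans_le (Finite.card_subtype_le _)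
  rw [← hS] at hm
  have key : ∀ d ≤ 256, d ∣ 256 → ∀ n ∈ [128, 256], ∀ q ∈ [19, 29], d ≤ n → n % q = d % q → d = n := by
    decide +kernel
  have hd : Nat.card S = Nat.card (MV b) := by
    refine key _ (Nat.le_of_dvd (by omega) hdvd) hdvd _ ?_ p ?_ hle hm
    · rw [natCard_MV]
      cases b <;> simp
    · rcases hp with rfl | rfl <;> simp
  rw [hS] at hd
  have huniv : MulAction.fixedPoints ↥(Subgroup.zpowers h) (MV b) = Set.univ :=
    Set.eq_of_subset_of_ncard_le (Set.subset_univ _) (by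
      rw [Set.ncard_univ, ← hd]; exact le_of_eq (Nat.card_coe_set_eq _)) Set.finite_univ
  exact Equiv.ext fun x => (hfix x).1 (huniv ▸ Set.mem_univ x)

end Cfsg.Agent.Lib.E8Frame76
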