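import Cfsg.Prelude.Def_Local
import Cfsg.Agent.Lib.StdDouble76.Fusion
import Cfsg.Agent.Lib.E8Frame76.Iface

/-!
# A standard subgroup isomorphic to the rotation subgroup: the normaliser
-/

set_option autoImplicit false

namespace Cfsg.Agent.Lib.E8Frame76

open Cfsg

variable {G : Type*} [Group G] [Finite G]

theorem eW_255_mem : eW 255 ∈ WP := eW_mem_plus (by omega) (by decide +kernel)

/-- The central involution. -/
noncomputable def zW : ↥WP := ⟨eW 255, eW_255_mem⟩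

theorem eW_255_ne : eW 255 ≠ 1 := fun e =>
  absurd (eW_injective (v := 255) (u := 0) (by omega) (by omega) (e.trans eW_zero.symm)) (by omega)

theorem zW_ne : zW ≠ 1 := fun e => eW_255_ne (congrArg Subtype.val e)

theorem zW_sq : zW * zW = 1 := Subtype.ext (eW_sq (by omega))

/-- The configuration: a standard copy of the rotation subgroup with cyclic Sylow 2-subgroups in its
centraliser. -/
structure Conf (L : Subgroup G) where
  ι : ↥WP ≃* ↥L
  center : Nat.card ↥(Subgroup.center ↥L) = 2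
  std : IsStandardSubgroup L
  cyc : ∀ R : Sylow 2 ↥(Subgroup.centralizer (L : Set G)),
    IsCyclic ↥(R : Subgroup ↥(Subgroup.centralizer (L : Set G)))
  top : TopStmt
  cent : CentStmt
  aut : AutStmt
  odd : OddStmt
  rank : RankStmt

namespace Conf

variable {L : Subgroup G} (S : Conf L)

/-- The embedding. -/
noncomputable def j : ↥WP →* G := L.subtype.comp S.ι.toMonoidHom

theorem j_mem (a : ↥WP) : S.j a ∈ L := (S.ι a).2

theorem j_inj : Function.Injective S.j := Subtype.val_injective.comp S.ι.injective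

theorem exists_j {g : G} (hg : g ∈ L) : ∃ a, S.j a = g :=
  ⟨S.ι.symm ⟨g, hg⟩, congrArg Subtype.val (S.ι.apply_symm_apply ⟨g, hg⟩)⟩

/-- The central involution of the standard subgroup. -/
noncomputable def w : G := S.j zW

theorem w_ne : S.w ≠ 1 := fun e => zW_ne (S.j_inj (e.trans (map_one _).symm))

theorem w_sq : S.w * S.w = 1 := by rw [w, ← map_mul, zW_sq, map_one]

theorem w_pow_two : S.w ^ 2 = 1 := by rw [pow_two, S.w_sq]

theorem w_mem : S.w ∈ L := S.j_mem _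

theorem hcomm {a c : G} (ha : a ∈ L) (hc : c ∈ Subgroup.centralizer (L : Set G)) : Commute a c :=
  Subgroup.mem_centralizer_iff.1 hc _ ha

include S in
theorem zW_central (a : ↥WP) : Commute a zW := Subtype.ext (S.top _ (plus_le a.2)).eq

theorem w_centr : S.w ∈ Subgroup.centralizer (L : Set G) := by
  refine Subgroup.mem_centralizer_iff.2 fun g hg => ?_
  obtain ⟨a, rfl⟩ := S.exists_j hg
  exact ((S.zW_central a).map S.j).eq

theorem inter {g : G} (hg : g ∈ L) (hc : g ∈ Subgroup.centralizer (L : Set G)) : g = 1 ∨ g = S.w := by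
  have hm : ∀ v : ↥L, (v : G) ∈ Subgroup.centralizer (L : Set G) → v ∈ Subgroup.center ↥L :=
    fun v hv => Subgroup.mem_center_iff.2 fun x =>
      Subtype.ext (Subgroup.mem_centralizer_iff.1 hv x x.2)
  obtain ⟨z, -, hzu⟩ := (Nat.card_eq_two_iff' (1 : ↥(Subgroup.center ↥L))).1 S.center
  by_cases h : g = 1
  · exact Or.inl h
  right
  have e1 := hzu ⟨⟨g, hg⟩, hm ⟨g, hg⟩ hc⟩ fun e =>
    h (congrArg (fun v : ↥(Subgroup.center ↥L) => ((v : ↥L) : G)) e)
  have e2 := hzu ⟨⟨S.w, S.w_mem⟩, hm ⟨S.w, S.w_mem⟩ S.w_centr⟩ fun e =>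
    S.w_ne (congrArg (fun v : ↥(Subgroup.center ↥L) => ((v : ↥L) : G)) e)
  exact congrArg (fun v : ↥(Subgroup.center ↥L) => ((v : ↥L) : G)) (e1.trans e2.symm)

include S in
theorem inter_sq {g : G} (hg : g ∈ L) (hc : g ∈ Subgroup.centralizer (L : Set G)) : g ^ 2 = 1 := by
  rcases S.inter hg hc with rfl | rfl
  · exact one_pow 2
  · exact S.w_pow_two

theorem mem_N {n : G} : n ∈ Subgroup.normalizer (L : Set G) ↔ Commute n S.w := by
  obtain ⟨-, ⟨-, hte⟩, -, hNC⟩ := S.std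
  constructor
  · intro hn
    have hm : n * S.w * n⁻¹ ∈ L := (Subgroup.mem_normalizer_iff.1 hn _).1 S.w_mem
    have hc : n * S.w * n⁻¹ ∈ Subgroup.centralizer (L : Set G) :=
      Subgroup.mem_centralizer_iff.2 fun x hx => by
        have hb : n⁻¹ * x * n ∈ L := (Subgroup.mem_normalizer_iff.1 hn _).2 (by
          rwa [show n * (n⁻¹ * x * n) * n⁻¹ = x by group])
        have := (hcomm hb S.w_centr).eq
        calc x * (n * S.w * n⁻¹) = n * ((n⁻¹ * x * n) * S.w) * n⁻¹ := by group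
          _ = n * (S.w * (n⁻¹ * x * n)) * n⁻¹ := by rw [this]
          _ = n * S.w * n⁻¹ * x := by group
    rcases S.inter hm hc with h | h
    · exact absurd (conj_eq_one_iff.1 h) S.w_ne
    · exact mul_inv_eq_iff_eq_mul.1 h
  · intro hn
    by_contra hnN
    have hnN' : n ∉ Subgroup.normalizer (Subgroup.centralizer (L : Set G) : Set G) := hNC ▸ hnN
    have hmem : S.w ∈ Subgroup.centralizer (L : Set G) ⊓
        (Subgroup.centralizer (L : Set G)).map (MulAut.conj n).toMonoidHom :=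
      ⟨S.w_centr, S.w, S.w_centr, show n * S.w * n⁻¹ = S.w by rw [hn.eq, mul_inv_cancel_right]⟩
    have h := Subgroup.orderOf_dvd_natCard _ hmem
    rw [orderOf_eq_prime S.w_pow_two S.w_ne] at h
    exact Nat.not_even_iff_odd.2 (hte n hnN') (even_iff_two_dvd.2 h)

theorem uniq {c : G} (hc : c ∈ Subgroup.centralizer (L : Set G)) (hc2 : c ^ 2 = 1) : c = 1 ∨ c = S.w := by
  by_cases hc1 : c = 1
  · exact Or.inl hc1
  right
  have := StdDouble76.eq_of_cyclic_sylow S.cyc (x := ⟨c, hc⟩) (y := ⟨S.w, S.w_centr⟩)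
    (Subtype.ext hc2) (Subtype.ext S.w_pow_two)
    (fun e => hc1 (congrArg Subtype.val e)) (fun e => S.w_ne (congrArg Subtype.val e))
    (Subtype.ext (hcomm S.w_mem hc).eq.symm)
  exact congrArg Subtype.val this

/-- The action of an element of the normaliser through the Weyl group. -/
def Acts (n : G) (x : PR) : Prop :=
  x ∈ WF ∧ ∀ a b : ↥WP, (b : PR) = x * a * x⁻¹ → n * S.j a * n⁻¹ = S.j b

theorem exists_acts {n : G} (hn : n ∈ Subgroup.normalizer (L : Set G)) : ∃ x, S.Acts n x := by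
  let φ : MulAut ↥WP := (S.ι.trans (L.normalizerMonoidHom ⟨n, hn⟩)).trans S.ι.symm
  obtain ⟨x, hx, h⟩ := S.aut φ
  refine ⟨x, hx, fun a b hb => ?_⟩
  rw [show b = φ a from Subtype.ext (hb.trans (h a).symm)]
  show _ = ((S.ι (S.ι.symm _) : ↥L) : G)
  rw [MulEquiv.apply_symm_apply]
  rfl

theorem acts_one : S.Acts 1 1 :=
  ⟨one_mem _, fun a b hb => by rw [show b = a from Subtype.ext (by simpa using hb)]; simp⟩

theorem acts_mul {n m : G} {x y : PR} (h1 : S.Acts n x) (h2 : S.Acts m y) : S.Acts (n * m) (x * y) := by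
  refine ⟨mul_mem h1.1 h2.1, fun a b hb => ?_⟩
  let c : ↥WP := ⟨y * a * y⁻¹, (conj_plus h2.1 _ a.2).1⟩
  rw [← h1.2 c b (by rw [hb]; show _ = x * (y * a * y⁻¹) * x⁻¹; group), ← h2.2 a c rfl]
  group

theorem acts_pow {n : G} {x : PR} (h : S.Acts n x) : ∀ k : ℕ, S.Acts (n ^ k) (x ^ k)
  | 0 => by rw [pow_zero, pow_zero]; exact S.acts_one
  | k + 1 => by rw [pow_succ, pow_succ]; exact S.acts_mul (acts_pow h k) h

theorem acts_inv {n : G} {x : PR} (h : S.Acts n x) : S.Acts n⁻¹ x⁻¹ := by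
  refine ⟨inv_mem h.1, fun a b hb => ?_⟩
  rw [← h.2 b a (by rw [hb]; group)]
  group

theorem acts_centr {c : G} (hc : c ∈ Subgroup.centralizer (L : Set G)) : S.Acts c 1 := by
  refine ⟨one_mem _, fun a b hb => ?_⟩
  rw [show b = a from Subtype.ext (by simpa using hb), (hcomm (S.j_mem a) hc).eq.symm, mul_inv_cancel_right]

theorem acts_j (p : ↥WP) : S.Acts (S.j p) p := by
  refine ⟨plus_le p.2, fun a b hb => ?_⟩
  rw [show b = p * a * p⁻¹ from Subtype.ext hb, map_mul, map_mul, map_inv]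

theorem acts_eq {n : G} {x y : PR} (h1 : S.Acts n x) (h2 : S.Acts n y) : x = y ∨ x = y * eW 255 := by
  have h := S.acts_mul (S.acts_inv h2) h1
  rw [inv_mul_cancel] at h
  have hcom : ∀ a ∈ WP, Commute (y⁻¹ * x) a := by
    intro a ha
    let b : ↥WP := ⟨y⁻¹ * x * a * (y⁻¹ * x)⁻¹, (conj_plus h.1 _ ha).1⟩
    have e := h.2 ⟨a, ha⟩ b rfl
    rw [one_mul, inv_one, mul_one] at e
    exact mul_inv_eq_iff_eq_mul.1 (congrArg Subtype.val (S.j_inj e)).symm
  rcases S.cent (y⁻¹ * x) h.1 hcom with e | e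
  · exact Or.inl (inv_mul_eq_one.1 e).symm
  · exact Or.inr (inv_mul_eq_iff_eq_mul.1 e)

/-- Membership in the product of the subgroup with its centraliser. -/
def InLC (n : G) : Prop :=
  ∃ a : ↥WP, ∃ c ∈ Subgroup.centralizer (L : Set G), n = S.j a * c

theorem inLC_mem_N {n : G} (h : S.InLC n) : n ∈ Subgroup.normalizer (L : Set G) := by
  obtain ⟨a, c, hc, rfl⟩ := h
  exact mul_mem (Subgroup.le_normalizer (S.j_mem a)) (Subgroup.centralizer_le_normalizer _ hc)

theorem inLC_of_acts {n : G} {x : PR} (h : S.Acts n x) (hx : x ∈ WP) : S.InLC n := by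
  refine ⟨⟨x, hx⟩, (S.j ⟨x, hx⟩)⁻¹ * n, Subgroup.mem_centralizer_iff.2 fun g hg => ?_, by group⟩
  obtain ⟨a, rfl⟩ := S.exists_j hg
  let b : ↥WP := ⟨x, hx⟩ * a * ⟨x, hx⟩⁻¹
  have e := h.2 a b rfl
  have e' := (S.acts_j ⟨x, hx⟩).2 a b rfl
  have e2 := e.trans e'.symm
  calc S.j a * ((S.j ⟨x, hx⟩)⁻¹ * n)
      = (S.j ⟨x, hx⟩)⁻¹ * (S.j ⟨x, hx⟩ * S.j a * (S.j ⟨x, hx⟩)⁻¹) * n := by group
    _ = (S.j ⟨x, hx⟩)⁻¹ * (n * S.j a * n⁻¹) * n := by rw [e2]
    _ = (S.j ⟨x, hx⟩)⁻¹ * n * S.j a := by group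

theorem acts_of_inLC {n : G} {a : ↥WP} {c : G} (hc : c ∈ Subgroup.centralizer (L : Set G))
    (h : n = S.j a * c) : S.Acts n a := by
  have := S.acts_mul (S.acts_j a) (S.acts_centr hc)
  rwa [mul_one, ← h] at this

theorem inLC_iff {n : G} {x : PR} (h : S.Acts n x) : S.InLC n ↔ x ∈ WP := by
  refine ⟨fun hn => ?_, S.inLC_of_acts h⟩
  obtain ⟨a, c, hc, e⟩ := hn
  rcases S.acts_eq h (S.acts_of_inLC hc e) with rfl | rfl
  · exact a.2
  · exact mul_mem a.2 eW_255_mem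

/-- The product of the subgroup with its centraliser. -/
def LC : Subgroup G where
  carrier := {n | S.InLC n}
  one_mem' := ⟨1, 1, one_mem _, by simp⟩
  mul_mem' := by
    rintro _ _ ⟨a, c, hc, rfl⟩ ⟨b, d, hd, rfl⟩
    exact ⟨a * b, c * d, mul_mem hc hd, by rw [map_mul]; exact ((hcomm (S.j_mem b) hc).symm).mul_mul_mul_comm _ _⟩
  inv_mem' := by
    rintro _ ⟨a, c, hc, rfl⟩
    exact ⟨a⁻¹, c⁻¹, inv_mem hc, by
      rw [mul_inv_rev, map_inv]; exact ((hcomm (S.j_mem a) hc).inv_inv).eq.symm⟩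

theorem mem_LC {n : G} : n ∈ S.LC ↔ S.InLC n := Iff.rfl

theorem outer_mul {n m : G} (hn : n ∈ Subgroup.normalizer (L : Set G))
    (hm : m ∈ Subgroup.normalizer (L : Set G)) (hn' : ¬ S.InLC n) (hm' : ¬ S.InLC m) :
    S.InLC (n * m) := by
  obtain ⟨x, hx⟩ := S.exists_acts hn
  obtain ⟨y, hy⟩ := S.exists_acts hm
  refine S.inLC_of_acts (S.acts_mul hx hy) ((mul_mem_plus_iff hx.1 hy.1).2 ?_)
  exact iff_of_false (fun e => hn' (S.inLC_of_acts hx e)) (fun e => hm' (S.inLC_of_acts hy e))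

end Conf

end Cfsg.Agent.Lib.E8Frame76
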