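import Mathlib
import Cfsg.Agent.Lib.Compute.ActionImage
import Cfsg.Agent.Lib.E8Frame76.CheckW
import Cfsg.Agent.Lib.E8Frame76.CheckPlus
import Cfsg.Agent.Lib.E8Frame76.CheckFrame
import Cfsg.Agent.Lib.E8Frame76.CheckCoset
import Cfsg.Agent.Lib.E8Frame76.Masks

/-!
# The Weyl group of type E₈, its rotation subgroup and the frame subgroup
-/

set_option autoImplicit false

namespace Cfsg.Agent.Lib.E8Frame76

open Cfsg.Agent.Lib.Compute

/-- Permutations of the roots. -/
abbrev PR : Type := Equiv.Perm (Fin 240)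

theorem le_256 : 240 ≤ 2 ^ 8 := by norm_num

/-- Their coding. -/
noncomputable abbrev Cr : Coding PR (permOps 8 240) := permCoding 8 (Equiv.refl (Fin 240)) le_256

/-- The Weyl group. -/
noncomputable def WF : Subgroup PR := genGroup Cr fullGens

/-- Its subgroup of index two. -/
noncomputable def WP : Subgroup PR := genGroup Cr plusGens

theorem fullOK : GensOK Cr fullGens := gensOK_literal _ _ fullGens_ok

theorem plusOK : GensOK Cr plusGens := gensOK_literal _ _ plusGens_ok

theorem card_WF : Nat.card WF = 696729600 := by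
  rw [WF, card_genGroup Cr fullOK fullChain_ok, fullChain_size]

theorem card_WP : Nat.card WP = 348364800 := by
  rw [WP, card_genGroup Cr plusOK plusChain_ok, plusChain_size]

theorem frame_code {v : ℕ} (hv : v < 256) : eCode v ∈ frameTab := by
  have : v < frameTab.length := by rw [frame_len.1]; exact hv
  rw [eCode, List.getD_eq_getElem _ _ this]
  exact List.getElem_mem this

theorem exists_perm_code {w n : ℕ} (hw : n ≤ 2 ^ w) (c d : ℕ) (h : permCheck w n c d = true)
    (hc : packP w (getP w c) n = c) :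
    ∃ g : Equiv.Perm (Fin n), (permCoding w (Equiv.refl (Fin n)) hw).enc g = c :=
  ⟨permOfCode w (Equiv.refl (Fin n)) c d h, encP_permOfCode _ h hc⟩

theorem exists_of_code (c d : ℕ) (h : permCheck 8 240 c d = true) (hc : packP 8 (getP 8 c) 240 = c) :
    ∃ g : PR, Cr.enc g = c :=
  exists_perm_code le_256 c d h hc

theorem exists_eW (v : ℕ) : ∃ g : PR, v < 256 → Cr.enc g = eCode v := by
  by_cases hv : v < 256
  · have h := List.all_eq_true.1 frame_perm _ (frame_code hv)
    simp only [Bool.and_eq_true] at h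
    obtain ⟨g, hg⟩ := exists_of_code (eCode v) (eCode v) h.1 (Nat.eq_of_beq_eq_true h.2)
    exact ⟨g, fun _ => hg⟩
  · exact ⟨1, fun h => absurd h hv⟩

/-- The element of the frame subgroup with a given mask. -/
noncomputable def eW (v : ℕ) : PR := (exists_eW v).choose

theorem enc_eW {v : ℕ} (hv : v < 256) : Cr.enc (eW v) = eCode v := (exists_eW v).choose_spec hv

theorem exists_lW (q : ℕ) : ∃ g : PR, q < 64 → Cr.enc g = lCode q := by
  by_cases hq : q < 64
  · have hl : q < liftTab.length := by rw [frame_len.2]; exact hq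
    have h := List.all_eq_true.1 lift_perm _ (List.getElem_mem hl)
    simp only [Bool.and_eq_true] at h
    obtain ⟨g, hg⟩ := exists_of_code _ _ h.1.1 (Nat.eq_of_beq_eq_true h.1.2)
    refine ⟨g, fun _ => ?_⟩
    rw [lCode, List.getD_eq_getElem _ _ hl]
    exact hg
  · exact ⟨1, fun h => absurd h hq⟩

/-- A lift. -/
noncomputable def lW (q : ℕ) : PR := (exists_lW q).choose

theorem enc_lW {q : ℕ} (hq : q < 64) : Cr.enc (lW q) = lCode q := (exists_lW q).choose_spec hq

theorem perm_enc_mul {w n : ℕ} (hw : n ≤ 2 ^ w) (g h : Equiv.Perm (Fin n)) :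
    (permCoding w (Equiv.refl (Fin n)) hw).enc (g * h) =
      mulP w n ((permCoding w (Equiv.refl (Fin n)) hw).enc g) ((permCoding w (Equiv.refl (Fin n)) hw).enc h) :=
  ((permCoding w (Equiv.refl (Fin n)) hw).mul_enc g h).symm

theorem enc_mul' (g h : PR) : Cr.enc (g * h) = rmul (Cr.enc g) (Cr.enc h) := perm_enc_mul le_256 g h

theorem eW_zero : eW 0 = 1 :=
  Cr.inj (by rw [enc_eW (by omega), Cr.one_enc]; exact frame_zero.1)

theorem eW_xor {v u : ℕ} (hv : v < 256) (hu : u < 256) : eW (v ^^^ u) = eW v * eW u := by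
  refine mask_additive eW (· * ·) mul_assoc (fun a => by rw [eW_zero, mul_one]) (fun w hw i hi => ?_) v hv u hu
  refine Cr.inj ?_
  rw [enc_eW (xorM_lt hw (pow_lt_256 hi)), enc_mul', enc_eW hw, enc_eW (pow_lt_256 hi)]
  have h := frame_mul
  simp only [List.all_eq_true, List.mem_range] at h
  exact Nat.eq_of_beq_eq_true (h w hw i hi)

theorem eW_sq {v : ℕ} (hv : v < 256) : eW v * eW v = 1 := by
  rw [← eW_xor hv hv, Nat.xor_self, eW_zero]

theorem eW_inv {v : ℕ} (hv : v < 256) : (eW v)⁻¹ = eW v := inv_eq_of_mul_eq_one_right (eW_sq hv)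

theorem eW_comm {v u : ℕ} (hv : v < 256) (hu : u < 256) : Commute (eW v) (eW u) := by
  show _ = _
  rw [← eW_xor hv hu, ← eW_xor hu hv, Nat.xor_comm]

theorem lW_zero : lW 0 = 1 :=
  Cr.inj (by rw [enc_lW (by omega), Cr.one_enc]; exact frame_zero.2)

theorem qMul_spec {a b : ℕ} (ha : a < 64) (hb : b < 64) : qMul a b < 64 ∧ lW a * lW b = lW (qMul a b) := by
  have h := lift_qMul
  simp only [List.all_eq_true, List.mem_range, Bool.and_eq_true] at h
  obtain ⟨h1, h2⟩ := h a ha b hb
  have h1 : qMul a b < 64 := by simpa [Nat.blt_eq] using h1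
  exact ⟨h1, Cr.inj (by rw [enc_mul', enc_lW ha, enc_lW hb, enc_lW h1]; exact Nat.eq_of_beq_eq_true h2)⟩

theorem qAct_spec {q v : ℕ} (hq : q < 64) (hv : v < 256) :
    qAct q v < 256 ∧ ∀ i < 8, qAct q (v ^^^ 2 ^ i) = qAct q v ^^^ qAct q (2 ^ i) := by
  have h := qAct_xor
  simp only [List.all_eq_true, List.mem_range, Bool.and_eq_true] at h
  exact ⟨by simpa [Nat.blt_eq] using (h q hq v hv 0 (by omega)).1,
    fun i hi => Nat.eq_of_beq_eq_true (h q hq v hv i hi).2⟩

theorem qAct_zero : ∀ q < 64, qAct q 0 = 0 := by decide +kernel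

theorem qAct_add {q v u : ℕ} (hq : q < 64) (hv : v < 256) (hu : u < 256) :
    qAct q (v ^^^ u) = qAct q v ^^^ qAct q u :=
  mask_additive (qAct q) (· ^^^ ·) Nat.xor_assoc (fun a => by rw [qAct_zero q hq, Nat.xor_zero])
    (fun w hw => (qAct_spec hq hw).2) v hv u hu

theorem lW_eW {q v : ℕ} (hq : q < 64) (hv : v < 256) : lW q * eW v = eW (qAct q v) * lW q := by
  refine mask_induction (fun v => lW q * eW v = eW (qAct q v) * lW q) ?_ ?_ v hv
  · rw [qAct_zero q hq, eW_zero, mul_one, one_mul]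
  · intro u hu i hi ih
    have hi' : lW q * eW (2 ^ i) = eW (qAct q (2 ^ i)) * lW q := by
      refine Cr.inj ?_
      rw [enc_mul', enc_mul', enc_lW hq, enc_eW (pow_lt_256 hi), enc_eW (qAct_spec hq (pow_lt_256 hi)).1]
      have h := lift_frame
      simp only [List.all_eq_true, List.mem_range] at h
      exact Nat.eq_of_beq_eq_true (h q hq i hi)
    rw [eW_xor hu (pow_lt_256 hi), ← mul_assoc, ih, mul_assoc, hi', ← mul_assoc,
      ← eW_xor (qAct_spec hq hu).1 (qAct_spec hq (pow_lt_256 hi)).1, (qAct_spec hq hu).2 i hi]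

theorem eW_mem {v : ℕ} (hv : v < 256) : eW v ∈ WF := by
  have h := frame_in_full
  simp only [List.all_eq_true, List.mem_range, Bool.and_eq_true] at h
  exact good_of_sift Cr fullOK fullChain_ok (by rw [enc_eW hv]; exact (h v hv).1)

theorem eW_mem_plus {v : ℕ} (hv : v < 256) (he : evenMask v = true) : eW v ∈ WP := by
  have h := frame_in_full
  simp only [List.all_eq_true, List.mem_range, Bool.and_eq_true, Bool.or_eq_true, Bool.not_eq_true'] at h
  rcases (h v hv).2 with h' | h'
  · rw [he] at h'; exact absurd h' (by decide)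
  · exact good_of_sift Cr plusOK plusChain_ok (by rw [enc_eW hv]; exact h')

theorem lW_mem {q : ℕ} (hq : q < 64) : lW q ∈ WP := by
  have h := lift_in_plus
  simp only [List.all_eq_true, List.mem_range] at h
  exact good_of_sift Cr plusOK plusChain_ok (by rw [enc_lW hq]; exact h q hq)

theorem plus_le : WP ≤ WF := by
  refine (Subgroup.closure_le _).2 ?_
  rintro g ⟨p, hp, hg⟩
  exact good_of_sift Cr fullOK fullChain_ok (by rw [hg]; exact List.all_eq_true.1 plus_sift_full p hp)

theorem conj_plus {x : PR} (hx : x ∈ WF) : ∀ y ∈ WP, x * y * x⁻¹ ∈ WP ∧ x⁻¹ * y * x ∈ WP := by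
  induction hx using Subgroup.closure_induction with
  | mem g hg =>
    obtain ⟨p, hp, hgp⟩ := hg
    obtain ⟨g', -, h1, h2⟩ := fullOK p hp
    obtain rfl : g' = g := Cr.inj (h1.trans hgp.symm)
    exact conj_mem_of_normCheck Cr plusOK plusChain_ok (List.all_eq_true.1 full_norm p hp) h1 h2
  | one => simp
  | mul a b _ _ ha hb =>
    intro y hy
    exact ⟨by simpa [mul_assoc] using (ha _ (hb y hy).1).1, by simpa [mul_assoc] using (hb _ (ha y hy).2).2⟩
  | inv a _ ha =>
    intro y hy
    exact ⟨by simpa using (ha y hy).2, by simpa using (ha y hy).1⟩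

theorem index_plus : (WP.subgroupOf WF).index = 2 := by
  have h := (WP.subgroupOf WF).card_mul_index
  rw [Nat.card_congr (Subgroup.subgroupOfEquivOfLe plus_le).toEquiv, card_WP, card_WF] at h
  omega

theorem mul_mem_plus_iff {a b : PR} (ha : a ∈ WF) (hb : b ∈ WF) : a * b ∈ WP ↔ (a ∈ WP ↔ b ∈ WP) :=
  Subgroup.mul_mem_iff_of_index_two index_plus (a := ⟨a, ha⟩) (b := ⟨b, hb⟩)

theorem inv_mem_plus_iff {a : PR} : a⁻¹ ∈ WP ↔ a ∈ WP := inv_mem_iff

theorem eW_one_not_mem : eW 1 ∉ WP := by
  intro h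
  have hle : WF ≤ WP := by
    refine (Subgroup.closure_le _).2 ?_
    rintro g ⟨p, hp, hg⟩
    have h1 : eW 1 * g ∈ WP := good_of_sift Cr plusOK plusChain_ok (by
      rw [enc_mul', enc_eW (by omega), hg]
      exact List.all_eq_true.1 full_coset p hp)
    exact (Subgroup.mul_mem_cancel_left _ h).1 h1
  have := Subgroup.card_le_of_le hle
  rw [card_WF, card_WP] at this
  omega

theorem mem_or_mul_mem {x : PR} (hx : x ∈ WF) : x ∈ WP ∨ eW 1 * x ∈ WP := by
  by_cases h : x ∈ WP
  · exact Or.inl h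
  · exact Or.inr ((mul_mem_plus_iff (eW_mem (by omega)) hx).2 (iff_of_false eW_one_not_mem h))

theorem mem_plus_iff_even {v q : ℕ} (hv : v < 256) (hq : q < 64) :
    eW v * lW q ∈ WP ↔ evenMask v = true := by
  rw [Subgroup.mul_mem_cancel_right _ (lW_mem hq)]
  refine ⟨fun h => ?_, eW_mem_plus hv⟩
  by_contra hev
  simp only [Bool.not_eq_true] at hev
  have h' : evenMask (v ^^^ 1) = true := by
    rw [show (1 : ℕ) = 2 ^ 0 from rfl, evenMask_flip hv (by omega), hev]; rfl
  have h2 := mul_mem h (eW_mem_plus (xorM_lt hv (by omega)) h')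
  rw [← eW_xor hv (xorM_lt hv (by omega)), ← Nat.xor_assoc, Nat.xor_self, Nat.zero_xor] at h2
  exact eW_one_not_mem h2

end Cfsg.Agent.Lib.E8Frame76
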